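import Cfsg.Agent.AltSection.Five.Ops

/-! Certificate data FixA4. -/

set_option maxHeartbeats 0
set_option maxRecDepth 100000

namespace Cfsg.Lib.AltSection.Five


namespace FixA4

def orbs : List Fixd := []

def wEB : List (List (ℕ × ℕ)) := [[(1,0)], [(2,0)], [(3,6)], [(3,8)], [(3,1)], [(0,10)], [(0,3)], [(0,7)], [(0,4)], [(0,5)], [(2,5)], [(4,6)], [(2,6)], [(4,1)], [(4,2)], [(1,6)], [(3,2)], [(0,6)], [(0,9)], [(3,5)], [(0,2)], [(0,8)], [(4,8)], [(1,5)], [(4,5)], [(0,11)], [(4,0)], [(1,1)], [(1,2)], [(0,1)], [(1,8)], [(3,0)], [(2,2)], [(2,8)], [(2,1)]]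

def repsT : BT := (.node (.node (.node (.leaf 0x9876543210) (.leaf 0x9857643210)) (.node (.leaf 0x9865743210) (.leaf 0x9567843210))) (.node (.node (.leaf 0x5867943210) (.leaf 0)) (.leaf 0)))

def repsP : BT := (.node (.node (.node (.leaf 0x0) (.leaf 0x0)) (.node (.leaf 0x100) (.leaf 0x101))) (.node (.node (.leaf 0x102) (.leaf 0)) (.leaf 0)))

def eltsT : BT := (.node (.node (.node (.leaf 0x9876543210) (.leaf 0x9857643210)) (.node (.leaf 0x9567843210) (.leaf 0x5697843210))) (.node (.node (.leaf 0x6957843210) (.leaf 0x8967543210)) (.node (.leaf 0x9687543210) (.leaf 0))))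

def eltsP : BT := (.node (.node (.node (.leaf 0x0) (.leaf 0x0)) (.node (.leaf 0x101) (.leaf 0x202))) (.node (.node (.leaf 0x302) (.leaf 0x401)) (.node (.leaf 0x201) (.leaf 0))))

def hsT : BT := (.node (.node (.node (.node (.leaf 0x9876543210) (.leaf 0x8967543210)) (.node (.leaf 0x9687543210) (.leaf 0x6978543210))) (.node (.node (.leaf 0x8796543210) (.leaf 0x9768543210)) (.node (.leaf 0x7869543210) (.leaf 0x7986543210)))) (.node (.node (.node (.leaf 0x6897543210) (.leaf 0x8679543210)) (.node (.leaf 0x7698543210) (.leaf 0x6789543210))) (.leaf 0)))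

def hsP : BT := (.node (.node (.node (.node (.leaf 0x0) (.leaf 0x0)) (.node (.leaf 0x1) (.leaf 0x101))) (.node (.node (.leaf 0x200) (.leaf 0x201)) (.node (.leaf 0x300) (.leaf 0x301)))) (.node (.node (.node (.leaf 0x401) (.leaf 0x500)) (.node (.leaf 0x801) (.leaf 0x901))) (.leaf 0)))

def quads : List (Fin 10 × Fin 10 × Fin 10 × Fin 10) := [(5,6,6,7), (5,6,6,8), (5,6,6,9)]

def gens : List ℕ := quads.map quadCode

def gensH : List ℕ := [590144090640, 646515536400]

def elts : Tab := ⟨10, 7, 3, eltsT, []⟩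

def hsTab : Tab := ⟨10, 12, 4, hsT, []⟩

def tab : Tab := ⟨10, 5, 3, repsT, [654820258320, 590144090640, 646515536400, 452990349840, 582342685200, 650290410000, 517163201040, 521944707600, 449215476240, 577561178640, 509361795600, 444685627920]⟩

def seedIx : List (ℕ × ℕ) := []

def seeds : List (ℕ × ℕ) := seedIx.map fun s => (elts.rep s.1, elts.rep s.2)

end FixA4

end Cfsg.Lib.AltSection.Five
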