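import Cfsg.Agent.AltSection.Five.Ops

/-! Certificate data FixV4. -/

set_option maxHeartbeats 0
set_option maxRecDepth 100000

namespace Cfsg.Lib.AltSection.Five


namespace FixV4

def orb0 : Fixd := ⟨0, [(0,1), (13,1), (14,1)], [(0,1), (13,2), (14,3)], [(13,0), (14,2), (0,2)], [], []⟩

def orbs : List Fixd := [orb0]

def tms0 : Term := (2, 0, 0, [(0,0), (13,0), (14,0)])

def tmsL0 : List Term := [tms0]

def tms : List Term := tmsL0

def wEB : List (List (ℕ × ℕ)) := [[(1,0)], [(4,0)], [(11,0)], [(8,2)], [(5,1)], [(0,2)], [(13,1)], [(14,3)], [(13,2)], [(14,2)], [(7,0)], [(12,0)], [(10,0)], [(6,1)], [(12,3)], [(3,0)], [(11,3)], [(13,3)], [(14,1)], [(8,0)], [(13,0)], [(14,0)], [(9,2)], [(2,0)], [(9,0)], [(0,3)], [(6,0)], [(1,1)], [(3,3)], [(0,1)], [(2,2)], [(5,0)], [(10,3)], [(7,2)], [(4,1)]]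

def repsT : BT := (.node (.node (.node (.node (.leaf 0x9876543210) (.leaf 0x9857643210)) (.node (.leaf 0x9578643210) (.leaf 0x5879643210))) (.node (.node (.leaf 0x9865743210) (.leaf 0x9567843210)) (.node (.leaf 0x5867943210) (.leaf 0x9658743210)))) (.node (.node (.node (.leaf 0x9675843210) (.leaf 0x5678943210)) (.node (.leaf 0x6859743210) (.leaf 0x6579843210))) (.node (.node (.leaf 0x6875943210) (.leaf 0x9687543210)) (.node (.leaf 0x6897543210) (.leaf 0)))))

def repsP : BT := (.node (.node (.node (.node (.leaf 0x0) (.leaf 0x0)) (.node (.leaf 0x1) (.leaf 0x2))) (.node (.node (.leaf 0x100) (.leaf 0x101)) (.node (.leaf 0x102) (.leaf 0x200)))) (.node (.node (.node (.leaf 0x201) (.leaf 0x202)) (.node (.leaf 0x300) (.leaf 0x301))) (.node (.node (.leaf 0x302) (.leaf 0x501)) (.node (.leaf 0x602) (.leaf 0)))))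

def eltsT : BT := (.node (.node (.node (.node (.leaf 0x9876543210) (.leaf 0x9857643210)) (.node (.leaf 0x9567843210) (.leaf 0x5697843210))) (.node (.node (.leaf 0x6957843210) (.leaf 0x8967543210)) (.node (.leaf 0x9865743210) (.leaf 0x5896743210)))) (.node (.node (.node (.leaf 0x6598743210) (.leaf 0x7698543210)) (.node (.leaf 0x9687543210) (.leaf 0))) (.leaf 0)))

def eltsP : BT := (.node (.node (.node (.node (.leaf 0x0) (.leaf 0x0)) (.node (.leaf 0x101) (.leaf 0x202))) (.node (.node (.leaf 0x302) (.leaf 0x401)) (.node (.leaf 0x100) (.leaf 0x602)))) (.node (.node (.node (.leaf 0x701) (.leaf 0x800)) (.node (.leaf 0x201) (.leaf 0))) (.leaf 0)))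

def hsT : BT := (.node (.node (.leaf 0x9876543210) (.leaf 0x8967543210)) (.node (.leaf 0x7698543210) (.leaf 0x6789543210)))

def hsP : BT := (.node (.node (.leaf 0x0) (.leaf 0x0)) (.node (.leaf 0x1) (.leaf 0x101)))

def quads : List (Fin 10 × Fin 10 × Fin 10 × Fin 10) := [(5,6,6,7), (5,6,6,8), (5,6,6,9)]

def gens : List ℕ := quads.map quadCode

def gensH : List ℕ := [590144090640, 509361795600]

def elts : Tab := ⟨10, 11, 4, eltsT, []⟩

def hsTab : Tab := ⟨10, 4, 2, hsT, []⟩

def tab : Tab := ⟨10, 15, 4, repsT, [654820258320, 590144090640, 509361795600, 444685627920]⟩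

def seedIx : List (ℕ × ℕ) := [(5, 10)]

def seeds : List (ℕ × ℕ) := seedIx.map fun s => (elts.rep s.1, elts.rep s.2)

end FixV4

end Cfsg.Lib.AltSection.Five
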