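import Cfsg.Agent.AltSection.Five.Ops

/-! Certificate data IdA. -/

set_option maxHeartbeats 0
set_option maxRecDepth 100000

namespace Cfsg.Lib.AltSection.Five


namespace IdA

def orbs : List Fixd := []

def wE : List (List (ℕ × ℕ)) := [[(1,0)], [(4,0)], [(11,0)], [(55,0)], [(22,0)], [(53,0)], [(24,0)], [(58,0)], [(56,0)], [(19,0)], [(7,0)], [(12,0)], [(10,0)], [(30,0)], [(54,0)], [(3,0)], [(21,0)], [(25,0)], [(28,0)], [(8,0)], [(15,0)], [(18,0)], [(29,0)], [(2,0)], [(9,0)], [(52,0)], [(6,0)], [(47,0)], [(33,0)], [(57,0)], [(39,0)], [(5,0)], [(13,0)], [(14,0)], [(59,0)]]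

def wEE : List (List (ℕ × ℕ)) := [[(4,0), (0,0), (27,0), (16,0), (36,0), (41,0), (46,0), (34,0), (40,0), (2,0), (19,0), (29,0), (25,0), (38,0), (17,0), (10,0), (5,0), (3,0), (51,0), (21,0), (33,0), (39,0), (6,0), (7,0), (23,0), (48,0), (12,0), (59,0), (13,0), (47,0), (14,0), (8,0), (15,0), (18,0), (57,0)], [(0,0), (1,0), (43,0), (35,0), (50,0), (32,0), (20,0), (42,0), (49,0), (7,0), (2,0), (6,0), (3,0), (45,0), (37,0), (25,0), (8,0), (10,0), (26,0), (5,0), (13,0), (14,0), (12,0), (19,0), (44,0), (31,0), (29,0), (57,0), (15,0), (59,0), (18,0), (21,0), (33,0), (39,0), (47,0)], [(17,0), (32,0), (0,0), (25,0), (28,0), (50,0), (8,0), (27,0), (43,0), (35,0), (42,0), (2,0), (13,0), (3,0), (51,0), (30,0), (52,0), (55,0), (22,0), (24,0), (36,0), (5,0), (48,0), (12,0), (47,0), (21,0), (40,0), (9,0), (23,0), (16,0), (44,0), (18,0), (10,0), (26,0), (31,0)], [(48,0), (44,0), (18,0), (0,0), (56,0), (8,0), (35,0), (21,0), (22,0), (50,0), (37,0),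 (32,0), (17,0), (14,0), (59,0), (40,0), (58,0), (5,0), (16,0), (53,0), (27,0), (11,0), (13,0), (39,0), (49,0), (36,0), (26,0), (41,0), (46,0), (43,0), (2,0), (25,0), (29,0), (30,0), (54,0)], [(34,0), (20,0), (12,0), (29,0), (30,0), (27,0), (11,0), (55,0), (21,0), (43,0), (31,0), (24,0), (42,0), (0,0), (56,0), (47,0), (54,0), (50,0), (8,0), (9,0), (16,0), (36,0), (58,0), (3,0), (28,0), (35,0), (57,0), (2,0), (41,0), (5,0), (46,0), (6,0), (14,0), (59,0), (13,0)], [(27,0), (37,0), (40,0), (2,0), (41,0), (0,0), (56,0), (19,0), (24,0), (58,0), (29,0), (49,0), (38,0), (32,0), (20,0), (16,0), (46,0), (15,0), (18,0), (39,0), (25,0), (28,0), (7,0), (55,0), (14,0), (57,0), (31,0), (35,0), (50,0), (52,0), (8,0), (48,0), (44,0), (9,0), (23,0)], [(36,0), (42,0), (30,0), (44,0), (9,0), (25,0), (28,0), (53,0), (19,0), (52,0), (10,0), (47,0), (59,0), (2,0), (41,0), (22,0), (23,0), (58,0), (0,0), (12,0), (18,0), (57,0), (46,0), (11,0), (3,0), (56,0),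 (34,0), (8,0), (35,0), (15,0), (50,0), (17,0), (32,0), (20,0), (7,0)], [(46,0), (50,0), (17,0), (30,0), (54,0), (28,0), (52,0), (56,0), (0,0), (25,0), (27,0), (42,0), (36,0), (13,0), (14,0), (34,0), (29,0), (57,0), (15,0), (37,0), (53,0), (24,0), (59,0), (48,0), (31,0), (18,0), (20,0), (33,0), (39,0), (19,0), (47,0), (44,0), (55,0), (22,0), (21,0)], [(51,0), (45,0), (32,0), (13,0), (14,0), (15,0), (18,0), (0,0), (58,0), (57,0), (38,0), (35,0), (23,0), (55,0), (22,0), (41,0), (59,0), (19,0), (53,0), (49,0), (28,0), (52,0), (21,0), (40,0), (16,0), (24,0), (43,0), (39,0), (47,0), (25,0), (33,0), (26,0), (30,0), (54,0), (29,0)], [(21,0), (33,0), (26,0), (32,0), (20,0), (18,0), (57,0), (24,0), (53,0), (15,0), (1,0), (45,0), (51,0), (44,0), (9,0), (43,0), (7,0), (52,0), (25,0), (4,0), (0,0), (56,0), (23,0), (5,0), (6,0), (28,0), (54,0), (50,0), (8,0), (58,0), (35,0), (13,0), (2,0), (41,0), (46,0)], [(8,0), (15,0), (51,0), (41,0), (46,0),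 (14,0), (59,0), (20,0), (32,0), (13,0), (0,0), (38,0), (28,0), (23,0), (44,0), (27,0), (2,0), (31,0), (10,0), (1,0), (4,0), (49,0), (9,0), (21,0), (29,0), (26,0), (37,0), (36,0), (5,0), (42,0), (16,0), (33,0), (19,0), (53,0), (24,0)], [(18,0), (10,0), (22,0), (50,0), (8,0), (44,0), (9,0), (37,0), (45,0), (23,0), (32,0), (3,0), (14,0), (47,0), (33,0), (0,0), (35,0), (29,0), (30,0), (11,0), (17,0), (6,0), (39,0), (24,0), (2,0), (54,0), (1,0), (28,0), (52,0), (38,0), (25,0), (36,0), (42,0), (4,0), (49,0)], [(12,0), (18,0), (21,0), (43,0), (27,0), (20,0), (7,0), (31,0), (26,0), (32,0), (24,0), (1,0), (0,0), (51,0), (48,0), (29,0), (11,0), (14,0), (59,0), (36,0), (42,0), (4,0), (3,0), (23,0), (46,0), (13,0), (39,0), (38,0), (17,0), (49,0), (6,0), (35,0), (52,0), (25,0), (28,0)], [(40,0), (26,0), (24,0), (58,0), (0,0), (37,0), (12,0), (29,0), (54,0), (45,0), (49,0), (11,0), (32,0), (22,0), (21,0), (2,0), (56,0), (44,0), (9,0), (28,0), (38,0),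 (17,0), (55,0), (47,0), (8,0), (23,0), (5,0), (3,0), (51,0), (6,0), (48,0), (57,0), (59,0), (13,0), (14,0)], [(41,0), (43,0), (42,0), (59,0), (13,0), (38,0), (17,0), (30,0), (29,0), (6,0), (16,0), (52,0), (35,0), (58,0), (0,0), (33,0), (14,0), (45,0), (37,0), (31,0), (9,0), (23,0), (56,0), (34,0), (15,0), (12,0), (19,0), (48,0), (3,0), (44,0), (51,0), (20,0), (22,0), (21,0), (55,0)], [(6,0), (14,0), (8,0), (27,0), (11,0), (46,0), (2,0), (48,0), (51,0), (41,0), (20,0), (0,0), (4,0), (28,0), (52,0), (12,0), (43,0), (39,0), (47,0), (22,0), (34,0), (1,0), (25,0), (9,0), (24,0), (33,0), (18,0), (30,0), (54,0), (40,0), (29,0), (16,0), (31,0), (10,0), (26,0)], [(33,0), (19,0), (10,0), (14,0), (59,0), (16,0), (36,0), (22,0), (55,0), (5,0), (15,0), (23,0), (52,0), (29,0), (30,0), (51,0), (13,0), (43,0), (27,0), (7,0), (8,0), (35,0), (54,0), (1,0), (38,0), (11,0), (45,0), (46,0), (2,0), (50,0), (41,0), (4,0), (0,0), (56,0), (58,0)], [(29,0),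 (39,0), (5,0), (11,0), (43,0), (24,0), (19,0), (52,0), (28,0), (53,0), (46,0), (4,0), (1,0), (26,0), (31,0), (6,0), (27,0), (18,0), (57,0), (50,0), (58,0), (0,0), (10,0), (44,0), (20,0), (15,0), (14,0), (45,0), (37,0), (56,0), (12,0), (55,0), (48,0), (3,0), (51,0)], [(38,0), (49,0), (2,0), (48,0), (3,0), (58,0), (0,0), (25,0), (52,0), (56,0), (59,0), (8,0), (7,0), (11,0), (43,0), (9,0), (51,0), (53,0), (24,0), (47,0), (57,0), (15,0), (27,0), (30,0), (22,0), (19,0), (16,0), (12,0), (45,0), (18,0), (37,0), (40,0), (26,0), (31,0), (10,0)], [(15,0), (7,0), (3,0), (39,0), (47,0), (55,0), (22,0), (50,0), (35,0), (21,0), (13,0), (9,0), (31,0), (12,0), (45,0), (28,0), (33,0), (27,0), (11,0), (2,0), (5,0), (16,0), (37,0), (0,0), (30,0), (43,0), (38,0), (24,0), (19,0), (36,0), (53,0), (1,0), (4,0), (49,0), (42,0)], [(7,0), (8,0), (48,0), (40,0), (34,0), (56,0), (58,0), (57,0), (18,0), (0,0), (21,0), (37,0), (27,0), (17,0), (6,0), (31,0), (1,0),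 (28,0), (52,0), (33,0), (19,0), (53,0), (38,0), (13,0), (54,0), (25,0), (9,0), (42,0), (4,0), (24,0), (49,0), (2,0), (5,0), (16,0), (36,0)], [(10,0), (12,0), (55,0), (5,0), (16,0), (19,0), (53,0), (15,0), (57,0), (24,0), (23,0), (39,0), (29,0), (40,0), (34,0), (14,0), (36,0), (0,0), (56,0), (35,0), (52,0), (25,0), (1,0), (32,0), (41,0), (58,0), (3,0), (49,0), (42,0), (28,0), (4,0), (11,0), (17,0), (6,0), (38,0)], [(39,0), (25,0), (36,0), (22,0), (21,0), (9,0), (23,0), (54,0), (30,0), (44,0), (53,0), (10,0), (18,0), (59,0), (13,0), (1,0), (55,0), (6,0), (38,0), (27,0), (37,0), (12,0), (14,0), (46,0), (7,0), (17,0), (4,0), (51,0), (48,0), (45,0), (3,0), (50,0), (58,0), (0,0), (56,0)], [(5,0), (13,0), (28,0), (53,0), (24,0), (39,0), (47,0), (46,0), (41,0), (33,0), (4,0), (30,0), (26,0), (9,0), (23,0), (11,0), (19,0), (48,0), (3,0), (0,0), (1,0), (40,0), (44,0), (8,0), (12,0), (51,0), (17,0), (22,0), (21,0), (34,0), (55,0), (15,0), (7,0),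 (32,0), (20,0)], [(16,0), (31,0), (47,0), (46,0), (2,0), (29,0), (30,0), (44,0), (23,0), (54,0), (14,0), (28,0), (49,0), (24,0), (19,0), (8,0), (41,0), (37,0), (12,0), (3,0), (6,0), (38,0), (53,0), (22,0), (0,0), (45,0), (15,0), (11,0), (43,0), (17,0), (27,0), (34,0), (20,0), (7,0), (32,0)], [(23,0), (35,0), (13,0), (26,0), (31,0), (57,0), (15,0), (28,0), (25,0), (18,0), (36,0), (33,0), (21,0), (48,0), (3,0), (54,0), (10,0), (56,0), (58,0), (42,0), (24,0), (19,0), (51,0), (17,0), (34,0), (0,0), (41,0), (37,0), (12,0), (53,0), (45,0), (32,0), (11,0), (43,0), (27,0)], [(14,0), (3,0), (50,0), (36,0), (5,0), (23,0), (44,0), (17,0), (38,0), (9,0), (41,0), (25,0), (39,0), (57,0), (15,0), (4,0), (16,0), (12,0), (45,0), (43,0), (54,0), (29,0), (18,0), (20,0), (19,0), (37,0), (0,0), (26,0), (31,0), (30,0), (10,0), (22,0), (34,0), (1,0), (40,0)], [(57,0), (59,0), (9,0), (37,0), (12,0), (48,0), (3,0), (39,0), (33,0), (51,0), (26,0), (22,0), (20,0),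 (8,0), (35,0), (24,0), (45,0), (46,0), (2,0), (30,0), (40,0), (34,0), (50,0), (28,0), (11,0), (41,0), (36,0), (0,0), (56,0), (1,0), (58,0), (38,0), (49,0), (42,0), (4,0)], [(19,0), (21,0), (31,0), (49,0), (42,0), (40,0), (34,0), (47,0), (39,0), (1,0), (5,0), (54,0), (43,0), (37,0), (12,0), (52,0), (4,0), (51,0), (48,0), (13,0), (2,0), (41,0), (45,0), (15,0), (17,0), (3,0), (23,0), (58,0), (0,0), (46,0), (56,0), (7,0), (8,0), (35,0), (50,0)], [(59,0), (47,0), (44,0), (17,0), (6,0), (52,0), (25,0), (18,0), (15,0), (28,0), (51,0), (50,0), (46,0), (5,0), (16,0), (20,0), (38,0), (24,0), (19,0), (45,0), (56,0), (58,0), (36,0), (26,0), (43,0), (53,0), (22,0), (4,0), (49,0), (0,0), (42,0), (30,0), (40,0), (34,0), (1,0)], [(25,0), (29,0), (16,0), (8,0), (35,0), (2,0), (41,0), (33,0), (47,0), (46,0), (44,0), (14,0), (6,0), (49,0), (42,0), (18,0), (50,0), (1,0), (40,0), (55,0), (48,0), (3,0), (4,0), (53,0), (32,0), (34,0), (10,0), (56,0), (58,0),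 (51,0), (0,0), (27,0), (37,0), (12,0), (45,0)], [(13,0), (2,0), (25,0), (18,0), (57,0), (35,0), (50,0), (36,0), (16,0), (8,0), (33,0), (44,0), (48,0), (6,0), (38,0), (26,0), (15,0), (11,0), (43,0), (19,0), (21,0), (55,0), (17,0), (4,0), (45,0), (27,0), (30,0), (20,0), (7,0), (22,0), (32,0), (0,0), (1,0), (40,0), (34,0)], [(2,0), (5,0), (52,0), (56,0), (58,0), (49,0), (42,0), (59,0), (14,0), (4,0), (8,0), (17,0), (11,0), (54,0), (29,0), (48,0), (0,0), (26,0), (31,0), (15,0), (7,0), (32,0), (30,0), (33,0), (37,0), (10,0), (44,0), (34,0), (1,0), (20,0), (40,0), (19,0), (21,0), (55,0), (22,0)], [(3,0), (6,0), (35,0), (21,0), (55,0), (7,0), (32,0), (13,0), (59,0), (20,0), (9,0), (18,0), (12,0), (56,0), (58,0), (39,0), (22,0), (4,0), (49,0), (16,0), (31,0), (10,0), (0,0), (41,0), (53,0), (42,0), (25,0), (40,0), (34,0), (26,0), (1,0), (43,0), (54,0), (29,0), (30,0)], [(47,0), (57,0), (23,0), (54,0), (29,0), (31,0), (10,0), (14,0), (13,0),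 (26,0), (28,0), (36,0), (24,0), (21,0), (55,0), (46,0), (30,0), (20,0), (7,0), (38,0), (49,0), (42,0), (22,0), (51,0), (27,0), (32,0), (50,0), (1,0), (40,0), (4,0), (34,0), (45,0), (56,0), (58,0), (0,0)]]

def wC : List (List (ℕ × ℕ)) := [[(20,0), (22,0), (37,0), (38,0), (17,0), (51,0), (48,0), (40,0), (1,0), (3,0), (43,0), (58,0), (50,0), (15,0), (18,0), (42,0), (6,0), (47,0), (33,0), (54,0), (41,0), (46,0), (57,0), (31,0), (52,0), (39,0), (24,0), (13,0), (14,0), (2,0), (59,0), (9,0), (16,0), (36,0), (5,0)], [(34,0)]]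

def wEC : List (List (ℕ × ℕ)) := [[(42,0)], [(58,0)], [(38,0)], [(51,0)], [(40,0)], [(43,0)], [(16,0)], [(41,0)], [(3,0)], [(22,0)], [(50,0)], [(15,0)], [(37,0)], [(1,0)], [(2,0)], [(17,0)], [(47,0)], [(54,0)], [(6,0)], [(57,0)], [(20,0)], [(31,0)], [(33,0)], [(36,0)], [(5,0)], [(9,0)], [(13,0)], [(18,0)], [(24,0)], [(14,0)], [(52,0)], [(59,0)], [(46,0)], [(48,0)], [(39,0)]]

def repsT : BT := (.node (.node (.node (.node (.node (.node (.leaf 0x9876543210) (.leaf 0x9876543021)) (.node (.leaf 0x9876540231) (.leaf 0x9876503241))) (.node (.node (.leaf 0x9876543102) (.leaf 0x9876540123)) (.node (.leaf 0x9876503124) (.leaf 0x9876541032)))) (.node (.node (.node (.leaf 0x9876541203) (.leaf 0x9876501234)) (.node (.leaf 0x9876513042) (.leaf 0x9876510243))) (.node (.node (.leaf 0x9876513204) (.leaf 0x9876540312)) (.node (.leaf 0x9876503412) (.leaf 0x9876541320))))) (.node (.node (.node (.node (.leaf 0x9876501423) (.leaf 0x9876510324)) (.node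 (.leaf 0x9876513420) (.leaf 0x9876542130))) (.node (.node (.leaf 0x9876504132) (.leaf 0x9876542013)) (.node (.leaf 0x9876504213) (.leaf 0x9876512034)))) (.node (.node (.node (.leaf 0x9876514230) (.leaf 0x9876523140)) (.node (.leaf 0x9876530142) (.leaf 0x9876521043))) (.node (.node (.leaf 0x9876531240) (.leaf 0x9876523014)) (.node (.leaf 0x9876530214) (.leaf 0x9876501342)))))) (.node (.node (.node (.node (.node (.leaf 0x9876510432) (.leaf 0x9876542301)) (.node (.leaf 0x9876504321) (.leaf 0x9876512403))) (.node (.node (.leaf 0x9876514023) (.leaf 0x9876521304)) (.node (.leaf 0x9876531024) (.leaf 0x9876523401)))) (.node (.node (.node (.leaf 0x9876530421) (.leaf 0x9876502431)) (.node (.leaf 0x9876514302) (.leaf 0x9876502143))) (.node (.node (.leaf 0x9876520134) (.leaf 0x9876532104)) (.node (.leaf 0x9876524031) (.leaf 0x9876534201))))) (.node (.node (.node (.node (.leaf 0x9876520341) (.leaf 0x9876531402)) (.node (.leaf 0x9876524103) (.leaf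 0x9876532041))) (.node (.node (.leaf 0x9876512340) (.leaf 0x9876521430)) (.node (.leaf 0x9876502314) (.leaf 0x9876520413)))) (.node (.node (.node (.leaf 0x9876532410) (.leaf 0x9876534120)) (.node (.leaf 0x9876524310) (.leaf 0x9876534012))) (.leaf 0)))))

def repsP : BT := (.node (.node (.node (.node (.node (.node (.leaf 0x0) (.leaf 0x0)) (.node (.leaf 0x1) (.leaf 0x2))) (.node (.node (.leaf 0x100) (.leaf 0x101)) (.node (.leaf 0x102) (.leaf 0x200)))) (.node (.node (.node (.leaf 0x201) (.leaf 0x202)) (.node (.leaf 0x300) (.leaf 0x301))) (.node (.node (.leaf 0x302) (.leaf 0x401)) (.node (.leaf 0x402) (.leaf 0x501))))) (.node (.node (.node (.node (.leaf 0x502) (.leaf 0x601)) (.node (.leaf 0x602) (.leaf 0x700))) (.node (.node (.leaf 0x702) (.leaf 0x800)) (.node (.leaf 0x802) (.leaf 0x900)))) (.node (.node (.node (.leaf 0x902) (.leaf 0xa00)) (.node (.leaf 0xa01) (.leaf 0xb00))) (.node (.node (.leaf 0xb01) (.leaf 0xc00)) (.node (.leaf 0xc01)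 (.leaf 0xd02)))))) (.node (.node (.node (.node (.node (.leaf 0xe01) (.leaf 0xf00)) (.node (.leaf 0xf02) (.leaf 0x1000))) (.node (.node (.leaf 0x1002) (.leaf 0x1100)) (.node (.leaf 0x1101) (.leaf 0x1200)))) (.node (.node (.node (.leaf 0x1201) (.leaf 0x1302)) (.node (.leaf 0x1401) (.leaf 0x1502))) (.node (.node (.leaf 0x1700) (.leaf 0x1701)) (.node (.leaf 0x1800) (.leaf 0x1801))))) (.node (.node (.node (.node (.leaf 0x1901) (.leaf 0x1a02)) (.node (.leaf 0x1b02) (.leaf 0x1c00))) (.node (.node (.leaf 0x1f00) (.leaf 0x2000)) (.node (.leaf 0x2102) (.leaf 0x2300)))) (.node (.node (.node (.leaf 0x2301) (.leaf 0x2401)) (.node (.leaf 0x2502) (.leaf 0x2a01))) (.leaf 0)))))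

def eltsT : BT := (.node (.node (.node (.leaf 0x9876543210) (.leaf 0x9876543021)) (.node (.leaf 0x9876540123) (.leaf 0x9876541320))) (.node (.node (.leaf 0x9876504321) (.leaf 0)) (.leaf 0)))

def eltsP : BT := (.node (.node (.node (.leaf 0x0) (.leaf 0x0)) (.node (.leaf 0x101) (.leaf 0x201))) (.node (.node (.leaf 0x302) (.leaf 0)) (.leaf 0)))

def hsT : BT := (.node (.leaf 0x9876543210) (.leaf 0))

def hsP : BT := (.node (.leaf 0x0) (.leaf 0))

def quads : List (Fin 10 × Fin 10 × Fin 10 × Fin 10) := [(0,1,1,2), (0,1,1,3), (0,1,1,4)]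

def gens : List ℕ := quads.map quadCode

def gensH : List ℕ := []

def elts : Tab := ⟨10, 5, 3, eltsT, []⟩

def hsTab : Tab := ⟨10, 1, 1, hsT, []⟩

def tab : Tab := ⟨10, 60, 6, repsT, [654820258320]⟩

def seedIx : List (ℕ × ℕ) := []

def seeds : List (ℕ × ℕ) := seedIx.map fun s => (elts.rep s.1, elts.rep s.2)

end IdA

end Cfsg.Lib.AltSection.Five
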