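import Cfsg.Agent.AltSection.Five.Ops

/-! Certificate data IdB. -/

set_option maxHeartbeats 0
set_option maxRecDepth 100000

namespace Cfsg.Lib.AltSection.Five


namespace IdB

def orbs : List Fixd := []

def wE : List (List (ℕ × ℕ)) := [[(1,0)], [(4,0)], [(11,0)], [(55,0)], [(22,0)], [(53,0)], [(24,0)], [(58,0)], [(56,0)], [(19,0)], [(7,0)], [(12,0)], [(10,0)], [(30,0)], [(54,0)], [(3,0)], [(21,0)], [(25,0)], [(28,0)], [(8,0)], [(15,0)], [(18,0)], [(29,0)], [(2,0)], [(9,0)], [(52,0)], [(6,0)], [(47,0)], [(33,0)], [(57,0)], [(39,0)], [(5,0)], [(13,0)], [(14,0)], [(59,0)]]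

def wEE : List (List (ℕ × ℕ)) := [[(4,0), (0,0), (27,0), (16,0), (36,0), (41,0), (46,0), (34,0), (40,0), (2,0), (19,0), (29,0), (25,0), (38,0), (17,0), (10,0), (5,0), (3,0), (51,0), (21,0), (33,0), (39,0), (6,0), (7,0), (23,0), (48,0), (12,0), (59,0), (13,0), (47,0), (14,0), (8,0), (15,0), (18,0), (57,0)], [(0,0), (1,0), (43,0), (35,0), (50,0), (32,0), (20,0), (42,0), (49,0), (7,0), (2,0), (6,0), (3,0), (45,0), (37,0), (25,0), (8,0), (10,0), (26,0), (5,0), (13,0), (14,0), (12,0), (19,0), (44,0), (31,0), (29,0), (57,0), (15,0), (59,0), (18,0), (21,0), (33,0), (39,0), (47,0)], [(17,0), (32,0), (0,0), (25,0), (28,0), (50,0), (8,0), (27,0), (43,0), (35,0), (42,0), (2,0), (13,0), (3,0), (51,0), (30,0), (52,0), (55,0), (22,0), (24,0), (36,0), (5,0), (48,0), (12,0), (47,0), (21,0), (40,0), (9,0), (23,0), (16,0), (44,0), (18,0), (10,0), (26,0), (31,0)], [(48,0), (44,0), (18,0), (0,0), (56,0), (8,0), (35,0), (21,0), (22,0), (50,0), (37,0),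 (32,0), (17,0), (14,0), (59,0), (40,0), (58,0), (5,0), (16,0), (53,0), (27,0), (11,0), (13,0), (39,0), (49,0), (36,0), (26,0), (41,0), (46,0), (43,0), (2,0), (25,0), (29,0), (30,0), (54,0)], [(34,0), (20,0), (12,0), (29,0), (30,0), (27,0), (11,0), (55,0), (21,0), (43,0), (31,0), (24,0), (42,0), (0,0), (56,0), (47,0), (54,0), (50,0), (8,0), (9,0), (16,0), (36,0), (58,0), (3,0), (28,0), (35,0), (57,0), (2,0), (41,0), (5,0), (46,0), (6,0), (14,0), (59,0), (13,0)], [(27,0), (37,0), (40,0), (2,0), (41,0), (0,0), (56,0), (19,0), (24,0), (58,0), (29,0), (49,0), (38,0), (32,0), (20,0), (16,0), (46,0), (15,0), (18,0), (39,0), (25,0), (28,0), (7,0), (55,0), (14,0), (57,0), (31,0), (35,0), (50,0), (52,0), (8,0), (48,0), (44,0), (9,0), (23,0)], [(36,0), (42,0), (30,0), (44,0), (9,0), (25,0), (28,0), (53,0), (19,0), (52,0), (10,0), (47,0), (59,0), (2,0), (41,0), (22,0), (23,0), (58,0), (0,0), (12,0), (18,0), (57,0), (46,0), (11,0), (3,0), (56,0),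 (34,0), (8,0), (35,0), (15,0), (50,0), (17,0), (32,0), (20,0), (7,0)], [(46,0), (50,0), (17,0), (30,0), (54,0), (28,0), (52,0), (56,0), (0,0), (25,0), (27,0), (42,0), (36,0), (13,0), (14,0), (34,0), (29,0), (57,0), (15,0), (37,0), (53,0), (24,0), (59,0), (48,0), (31,0), (18,0), (20,0), (33,0), (39,0), (19,0), (47,0), (44,0), (55,0), (22,0), (21,0)], [(51,0), (45,0), (32,0), (13,0), (14,0), (15,0), (18,0), (0,0), (58,0), (57,0), (38,0), (35,0), (23,0), (55,0), (22,0), (41,0), (59,0), (19,0), (53,0), (49,0), (28,0), (52,0), (21,0), (40,0), (16,0), (24,0), (43,0), (39,0), (47,0), (25,0), (33,0), (26,0), (30,0), (54,0), (29,0)], [(21,0), (33,0), (26,0), (32,0), (20,0), (18,0), (57,0), (24,0), (53,0), (15,0), (1,0), (45,0), (51,0), (44,0), (9,0), (43,0), (7,0), (52,0), (25,0), (4,0), (0,0), (56,0), (23,0), (5,0), (6,0), (28,0), (54,0), (50,0), (8,0), (58,0), (35,0), (13,0), (2,0), (41,0), (46,0)], [(8,0), (15,0), (51,0), (41,0), (46,0),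 (14,0), (59,0), (20,0), (32,0), (13,0), (0,0), (38,0), (28,0), (23,0), (44,0), (27,0), (2,0), (31,0), (10,0), (1,0), (4,0), (49,0), (9,0), (21,0), (29,0), (26,0), (37,0), (36,0), (5,0), (42,0), (16,0), (33,0), (19,0), (53,0), (24,0)], [(18,0), (10,0), (22,0), (50,0), (8,0), (44,0), (9,0), (37,0), (45,0), (23,0), (32,0), (3,0), (14,0), (47,0), (33,0), (0,0), (35,0), (29,0), (30,0), (11,0), (17,0), (6,0), (39,0), (24,0), (2,0), (54,0), (1,0), (28,0), (52,0), (38,0), (25,0), (36,0), (42,0), (4,0), (49,0)], [(12,0), (18,0), (21,0), (43,0), (27,0), (20,0), (7,0), (31,0), (26,0), (32,0), (24,0), (1,0), (0,0), (51,0), (48,0), (29,0), (11,0), (14,0), (59,0), (36,0), (42,0), (4,0), (3,0), (23,0), (46,0), (13,0), (39,0), (38,0), (17,0), (49,0), (6,0), (35,0), (52,0), (25,0), (28,0)], [(40,0), (26,0), (24,0), (58,0), (0,0), (37,0), (12,0), (29,0), (54,0), (45,0), (49,0), (11,0), (32,0), (22,0), (21,0), (2,0), (56,0), (44,0), (9,0), (28,0), (38,0),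 (17,0), (55,0), (47,0), (8,0), (23,0), (5,0), (3,0), (51,0), (6,0), (48,0), (57,0), (59,0), (13,0), (14,0)], [(41,0), (43,0), (42,0), (59,0), (13,0), (38,0), (17,0), (30,0), (29,0), (6,0), (16,0), (52,0), (35,0), (58,0), (0,0), (33,0), (14,0), (45,0), (37,0), (31,0), (9,0), (23,0), (56,0), (34,0), (15,0), (12,0), (19,0), (48,0), (3,0), (44,0), (51,0), (20,0), (22,0), (21,0), (55,0)], [(6,0), (14,0), (8,0), (27,0), (11,0), (46,0), (2,0), (48,0), (51,0), (41,0), (20,0), (0,0), (4,0), (28,0), (52,0), (12,0), (43,0), (39,0), (47,0), (22,0), (34,0), (1,0), (25,0), (9,0), (24,0), (33,0), (18,0), (30,0), (54,0), (40,0), (29,0), (16,0), (31,0), (10,0), (26,0)], [(33,0), (19,0), (10,0), (14,0), (59,0), (16,0), (36,0), (22,0), (55,0), (5,0), (15,0), (23,0), (52,0), (29,0), (30,0), (51,0), (13,0), (43,0), (27,0), (7,0), (8,0), (35,0), (54,0), (1,0), (38,0), (11,0), (45,0), (46,0), (2,0), (50,0), (41,0), (4,0), (0,0), (56,0), (58,0)], [(29,0),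 (39,0), (5,0), (11,0), (43,0), (24,0), (19,0), (52,0), (28,0), (53,0), (46,0), (4,0), (1,0), (26,0), (31,0), (6,0), (27,0), (18,0), (57,0), (50,0), (58,0), (0,0), (10,0), (44,0), (20,0), (15,0), (14,0), (45,0), (37,0), (56,0), (12,0), (55,0), (48,0), (3,0), (51,0)], [(38,0), (49,0), (2,0), (48,0), (3,0), (58,0), (0,0), (25,0), (52,0), (56,0), (59,0), (8,0), (7,0), (11,0), (43,0), (9,0), (51,0), (53,0), (24,0), (47,0), (57,0), (15,0), (27,0), (30,0), (22,0), (19,0), (16,0), (12,0), (45,0), (18,0), (37,0), (40,0), (26,0), (31,0), (10,0)], [(15,0), (7,0), (3,0), (39,0), (47,0), (55,0), (22,0), (50,0), (35,0), (21,0), (13,0), (9,0), (31,0), (12,0), (45,0), (28,0), (33,0), (27,0), (11,0), (2,0), (5,0), (16,0), (37,0), (0,0), (30,0), (43,0), (38,0), (24,0), (19,0), (36,0), (53,0), (1,0), (4,0), (49,0), (42,0)], [(7,0), (8,0), (48,0), (40,0), (34,0), (56,0), (58,0), (57,0), (18,0), (0,0), (21,0), (37,0), (27,0), (17,0), (6,0), (31,0), (1,0),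 (28,0), (52,0), (33,0), (19,0), (53,0), (38,0), (13,0), (54,0), (25,0), (9,0), (42,0), (4,0), (24,0), (49,0), (2,0), (5,0), (16,0), (36,0)], [(10,0), (12,0), (55,0), (5,0), (16,0), (19,0), (53,0), (15,0), (57,0), (24,0), (23,0), (39,0), (29,0), (40,0), (34,0), (14,0), (36,0), (0,0), (56,0), (35,0), (52,0), (25,0), (1,0), (32,0), (41,0), (58,0), (3,0), (49,0), (42,0), (28,0), (4,0), (11,0), (17,0), (6,0), (38,0)], [(39,0), (25,0), (36,0), (22,0), (21,0), (9,0), (23,0), (54,0), (30,0), (44,0), (53,0), (10,0), (18,0), (59,0), (13,0), (1,0), (55,0), (6,0), (38,0), (27,0), (37,0), (12,0), (14,0), (46,0), (7,0), (17,0), (4,0), (51,0), (48,0), (45,0), (3,0), (50,0), (58,0), (0,0), (56,0)], [(5,0), (13,0), (28,0), (53,0), (24,0), (39,0), (47,0), (46,0), (41,0), (33,0), (4,0), (30,0), (26,0), (9,0), (23,0), (11,0), (19,0), (48,0), (3,0), (0,0), (1,0), (40,0), (44,0), (8,0), (12,0), (51,0), (17,0), (22,0), (21,0), (34,0), (55,0), (15,0), (7,0),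 (32,0), (20,0)], [(16,0), (31,0), (47,0), (46,0), (2,0), (29,0), (30,0), (44,0), (23,0), (54,0), (14,0), (28,0), (49,0), (24,0), (19,0), (8,0), (41,0), (37,0), (12,0), (3,0), (6,0), (38,0), (53,0), (22,0), (0,0), (45,0), (15,0), (11,0), (43,0), (17,0), (27,0), (34,0), (20,0), (7,0), (32,0)], [(23,0), (35,0), (13,0), (26,0), (31,0), (57,0), (15,0), (28,0), (25,0), (18,0), (36,0), (33,0), (21,0), (48,0), (3,0), (54,0), (10,0), (56,0), (58,0), (42,0), (24,0), (19,0), (51,0), (17,0), (34,0), (0,0), (41,0), (37,0), (12,0), (53,0), (45,0), (32,0), (11,0), (43,0), (27,0)], [(14,0), (3,0), (50,0), (36,0), (5,0), (23,0), (44,0), (17,0), (38,0), (9,0), (41,0), (25,0), (39,0), (57,0), (15,0), (4,0), (16,0), (12,0), (45,0), (43,0), (54,0), (29,0), (18,0), (20,0), (19,0), (37,0), (0,0), (26,0), (31,0), (30,0), (10,0), (22,0), (34,0), (1,0), (40,0)], [(57,0), (59,0), (9,0), (37,0), (12,0), (48,0), (3,0), (39,0), (33,0), (51,0), (26,0), (22,0), (20,0),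 (8,0), (35,0), (24,0), (45,0), (46,0), (2,0), (30,0), (40,0), (34,0), (50,0), (28,0), (11,0), (41,0), (36,0), (0,0), (56,0), (1,0), (58,0), (38,0), (49,0), (42,0), (4,0)], [(19,0), (21,0), (31,0), (49,0), (42,0), (40,0), (34,0), (47,0), (39,0), (1,0), (5,0), (54,0), (43,0), (37,0), (12,0), (52,0), (4,0), (51,0), (48,0), (13,0), (2,0), (41,0), (45,0), (15,0), (17,0), (3,0), (23,0), (58,0), (0,0), (46,0), (56,0), (7,0), (8,0), (35,0), (50,0)], [(59,0), (47,0), (44,0), (17,0), (6,0), (52,0), (25,0), (18,0), (15,0), (28,0), (51,0), (50,0), (46,0), (5,0), (16,0), (20,0), (38,0), (24,0), (19,0), (45,0), (56,0), (58,0), (36,0), (26,0), (43,0), (53,0), (22,0), (4,0), (49,0), (0,0), (42,0), (30,0), (40,0), (34,0), (1,0)], [(25,0), (29,0), (16,0), (8,0), (35,0), (2,0), (41,0), (33,0), (47,0), (46,0), (44,0), (14,0), (6,0), (49,0), (42,0), (18,0), (50,0), (1,0), (40,0), (55,0), (48,0), (3,0), (4,0), (53,0), (32,0), (34,0), (10,0), (56,0), (58,0),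 (51,0), (0,0), (27,0), (37,0), (12,0), (45,0)], [(13,0), (2,0), (25,0), (18,0), (57,0), (35,0), (50,0), (36,0), (16,0), (8,0), (33,0), (44,0), (48,0), (6,0), (38,0), (26,0), (15,0), (11,0), (43,0), (19,0), (21,0), (55,0), (17,0), (4,0), (45,0), (27,0), (30,0), (20,0), (7,0), (22,0), (32,0), (0,0), (1,0), (40,0), (34,0)], [(2,0), (5,0), (52,0), (56,0), (58,0), (49,0), (42,0), (59,0), (14,0), (4,0), (8,0), (17,0), (11,0), (54,0), (29,0), (48,0), (0,0), (26,0), (31,0), (15,0), (7,0), (32,0), (30,0), (33,0), (37,0), (10,0), (44,0), (34,0), (1,0), (20,0), (40,0), (19,0), (21,0), (55,0), (22,0)], [(3,0), (6,0), (35,0), (21,0), (55,0), (7,0), (32,0), (13,0), (59,0), (20,0), (9,0), (18,0), (12,0), (56,0), (58,0), (39,0), (22,0), (4,0), (49,0), (16,0), (31,0), (10,0), (0,0), (41,0), (53,0), (42,0), (25,0), (40,0), (34,0), (26,0), (1,0), (43,0), (54,0), (29,0), (30,0)], [(47,0), (57,0), (23,0), (54,0), (29,0), (31,0), (10,0), (14,0), (13,0),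 (26,0), (28,0), (36,0), (24,0), (21,0), (55,0), (46,0), (30,0), (20,0), (7,0), (38,0), (49,0), (42,0), (22,0), (51,0), (27,0), (32,0), (50,0), (1,0), (40,0), (4,0), (34,0), (45,0), (56,0), (58,0), (0,0)]]

def wC : List (List (ℕ × ℕ)) := [[(20,0), (22,0), (37,0), (38,0), (17,0), (51,0), (48,0), (40,0), (1,0), (3,0), (43,0), (58,0), (50,0), (15,0), (18,0), (42,0), (6,0), (47,0), (33,0), (54,0), (41,0), (46,0), (57,0), (31,0), (52,0), (39,0), (24,0), (13,0), (14,0), (2,0), (59,0), (9,0), (16,0), (36,0), (5,0)], [(34,0)]]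

def wEC : List (List (ℕ × ℕ)) := [[(42,0)], [(58,0)], [(38,0)], [(51,0)], [(40,0)], [(43,0)], [(16,0)], [(41,0)], [(3,0)], [(22,0)], [(50,0)], [(15,0)], [(37,0)], [(1,0)], [(2,0)], [(17,0)], [(47,0)], [(54,0)], [(6,0)], [(57,0)], [(20,0)], [(31,0)], [(33,0)], [(36,0)], [(5,0)], [(9,0)], [(13,0)], [(18,0)], [(24,0)], [(14,0)], [(52,0)], [(59,0)], [(46,0)], [(48,0)], [(39,0)]]

def repsT : BT := (.node (.node (.node (.node (.node (.node (.leaf 0x9876543210) (.leaf 0x9857643210)) (.node (.leaf 0x9578643210) (.leaf 0x5879643210))) (.node (.node (.leaf 0x9865743210) (.leaf 0x9567843210)) (.node (.leaf 0x5867943210) (.leaf 0x9658743210)))) (.node (.node (.node (.leaf 0x9675843210) (.leaf 0x5678943210)) (.node (.leaf 0x6859743210) (.leaf 0x6579843210))) (.node (.node (.leaf 0x6875943210) (.leaf 0x9586743210)) (.node (.leaf 0x5896743210) (.leaf 0x9687543210))))) (.node (.node (.node (.node (.leaf 0x5697843210) (.leaf 0x6587943210)) (.node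 (.leaf 0x6897543210) (.leaf 0x9768543210))) (.node (.node (.leaf 0x5968743210) (.leaf 0x9756843210)) (.node (.leaf 0x5976843210) (.leaf 0x6758943210)))) (.node (.node (.node (.leaf 0x6978543210) (.leaf 0x7869543210)) (.node (.leaf 0x8569743210) (.leaf 0x7659843210))) (.node (.node (.leaf 0x8679543210) (.leaf 0x7856943210)) (.node (.leaf 0x8576943210) (.leaf 0x5689743210)))))) (.node (.node (.node (.node (.node (.leaf 0x6598743210) (.leaf 0x9785643210)) (.node (.leaf 0x5987643210) (.leaf 0x6795843210))) (.node (.node (.leaf 0x6957843210) (.leaf 0x7685943210)) (.node (.leaf 0x8657943210) (.leaf 0x7895643210)))) (.node (.node (.node (.leaf 0x8597643210) (.leaf 0x5798643210)) (.node (.leaf 0x6985743210) (.leaf 0x5769843210))) (.node (.node (.leaf 0x7568943210) (.leaf 0x8765943210)) (.node (.leaf 0x7958643210) (.leaf 0x8975643210))))) (.node (.node (.node (.node (.leaf 0x7589643210) (.leaf 0x8695743210)) (.node (.leaf 0x7965843210) (.leaf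 0x8759643210))) (.node (.node (.leaf 0x6789543210) (.leaf 0x7698543210)) (.node (.leaf 0x5786943210) (.leaf 0x7596843210)))) (.node (.node (.node (.leaf 0x8796543210) (.leaf 0x8967543210)) (.node (.leaf 0x7986543210) (.leaf 0x8956743210))) (.leaf 0)))))

def repsP : BT := (.node (.node (.node (.node (.node (.node (.leaf 0x0) (.leaf 0x0)) (.node (.leaf 0x1) (.leaf 0x2))) (.node (.node (.leaf 0x100) (.leaf 0x101)) (.node (.leaf 0x102) (.leaf 0x200)))) (.node (.node (.node (.leaf 0x201) (.leaf 0x202)) (.node (.leaf 0x300) (.leaf 0x301))) (.node (.node (.leaf 0x302) (.leaf 0x401)) (.node (.leaf 0x402) (.leaf 0x501))))) (.node (.node (.node (.node (.leaf 0x502) (.leaf 0x601)) (.node (.leaf 0x602) (.leaf 0x700))) (.node (.node (.leaf 0x702) (.leaf 0x800)) (.node (.leaf 0x802) (.leaf 0x900)))) (.node (.node (.node (.leaf 0x902) (.leaf 0xa00)) (.node (.leaf 0xa01) (.leaf 0xb00))) (.node (.node (.leaf 0xb01) (.leaf 0xc00)) (.node (.leaf 0xc01)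 (.leaf 0xd02)))))) (.node (.node (.node (.node (.node (.leaf 0xe01) (.leaf 0xf00)) (.node (.leaf 0xf02) (.leaf 0x1000))) (.node (.node (.leaf 0x1002) (.leaf 0x1100)) (.node (.leaf 0x1101) (.leaf 0x1200)))) (.node (.node (.node (.leaf 0x1201) (.leaf 0x1302)) (.node (.leaf 0x1401) (.leaf 0x1502))) (.node (.node (.leaf 0x1700) (.leaf 0x1701)) (.node (.leaf 0x1800) (.leaf 0x1801))))) (.node (.node (.node (.node (.leaf 0x1901) (.leaf 0x1a02)) (.node (.leaf 0x1b02) (.leaf 0x1c00))) (.node (.node (.leaf 0x1f00) (.leaf 0x2000)) (.node (.leaf 0x2102) (.leaf 0x2300)))) (.node (.node (.node (.leaf 0x2301) (.leaf 0x2401)) (.node (.leaf 0x2502) (.leaf 0x2a01))) (.leaf 0)))))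

def eltsT : BT := (.node (.node (.node (.leaf 0x9876543210) (.leaf 0x9857643210)) (.node (.leaf 0x9567843210) (.leaf 0x9687543210))) (.node (.node (.leaf 0x5987643210) (.leaf 0)) (.leaf 0)))

def eltsP : BT := (.node (.node (.node (.leaf 0x0) (.leaf 0x0)) (.node (.leaf 0x101) (.leaf 0x201))) (.node (.node (.leaf 0x302) (.leaf 0)) (.leaf 0)))

def hsT : BT := (.node (.leaf 0x9876543210) (.leaf 0))

def hsP : BT := (.node (.leaf 0x0) (.leaf 0))

def quads : List (Fin 10 × Fin 10 × Fin 10 × Fin 10) := [(5,6,6,7), (5,6,6,8), (5,6,6,9)]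

def gens : List ℕ := quads.map quadCode

def gensH : List ℕ := []

def elts : Tab := ⟨10, 5, 3, eltsT, []⟩

def hsTab : Tab := ⟨10, 1, 1, hsT, []⟩

def tab : Tab := ⟨10, 60, 6, repsT, [654820258320]⟩

def seedIx : List (ℕ × ℕ) := []

def seeds : List (ℕ × ℕ) := seedIx.map fun s => (elts.rep s.1, elts.rep s.2)

end IdB

end Cfsg.Lib.AltSection.Five
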