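import Cfsg.Agent.AltSection.Five.Ops

/-! Certificate data Local. -/

set_option maxHeartbeats 0
set_option maxRecDepth 100000

namespace Cfsg.Lib.AltSection.Five


namespace Local

def orb0 : Fixd := ⟨0, [(0,1), (8,1), (1,1), (3,1), (20,1), (10,1), (2,1), (21,1), (44,1), (15,1), (49,1), (9,1)], [(8,6), (0,3), (3,1), (1,10), (10,1), (20,10), (21,0), (2,0), (15,1), (44,10), (9,0), (49,0)], [(1,0), (0,0), (8,0), (20,0), (2,6), (21,0), (3,3), (44,3), (10,6), (49,6), (9,3), (15,0)], [], []⟩

def orb1 : Fixd := ⟨0, [(4,1), (41,1), (11,1), (22,1), (84,1), (50,1), (16,1), (87,1), (133,1), (67,1), (148,1), (45,1)], [(41,6), (4,3), (22,1), (11,10), (50,1), (84,10), (87,0), (16,0), (67,1), (133,10), (45,0), (148,0)], [(11,0), (4,0), (41,0), (84,0), (16,6), (87,0), (22,3), (133,3), (50,6), (148,6), (45,3), (67,0)], [], []⟩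

def orb2 : Fixd := ⟨0, [(5,1), (42,1), (12,1), (23,1), (85,1), (51,1), (17,1), (88,1), (134,1), (68,1), (149,1), (46,1)], [(42,6), (5,3), (23,1), (12,10), (51,1), (85,10), (88,0), (17,0), (68,1), (134,10), (46,0), (149,0)], [(12,0), (5,0), (42,0), (85,0), (17,6), (88,0), (23,3), (134,3), (51,6), (149,6), (46,3), (68,0)], [], []⟩

def orb3 : Fixd := ⟨0, [(6,1), (43,1), (13,1), (24,1), (86,1), (52,1), (18,1), (89,1), (135,1), (69,1), (150,1), (47,1)], [(43,6), (6,3), (24,1), (13,10), (52,1), (86,10), (89,0), (18,0), (69,1), (135,10), (47,0), (150,0)], [(13,0), (6,0), (43,0), (86,0), (18,6), (89,0), (24,3), (135,3), (52,6), (150,6), (47,3), (69,0)], [], []⟩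

def orb4 : Fixd := ⟨0, [(26,1), (127,1), (54,1), (90,1), (201,1), (151,1), (70,1), (207,1), (237,1), (176,1), (250,1), (136,1)], [(127,6), (26,3), (90,1), (54,10), (151,1), (201,10), (207,0), (70,0), (176,1), (237,10), (136,0), (250,0)], [(54,0), (26,0), (127,0), (201,0), (70,6), (207,0), (90,3), (237,3), (151,6), (250,6), (136,3), (176,0)], [], []⟩

def orb5 : Fixd := ⟨0, [(27,1), (128,1), (55,1), (91,1), (202,1), (152,1), (71,1), (208,1), (238,1), (177,1), (251,1), (137,1)], [(128,6), (27,3), (91,1), (55,10), (152,1), (202,10), (208,0), (71,0), (177,1), (238,10), (137,0), (251,0)], [(55,0), (27,0), (128,0), (202,0), (71,6), (208,0), (91,3), (238,3), (152,6), (251,6), (137,3), (177,0)], [], []⟩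

def orb6 : Fixd := ⟨0, [(28,1), (129,1), (56,1), (92,1), (203,1), (153,1), (72,1), (209,1), (239,1), (178,1), (252,1), (138,1)], [(129,6), (28,3), (92,1), (56,10), (153,1), (203,10), (209,0), (72,0), (178,1), (239,10), (138,0), (252,0)], [(56,0), (28,0), (129,0), (203,0), (72,6), (209,0), (92,3), (239,3), (153,6), (252,6), (138,3), (178,0)], [], []⟩

def orb7 : Fixd := ⟨0, [(30,1), (130,1), (58,1), (94,1), (204,1), (155,1), (74,1), (210,1), (240,1), (179,1), (253,1), (140,1)], [(130,6), (30,3), (94,1), (58,10), (155,1), (204,10), (210,0), (74,0), (179,1), (240,10), (140,0), (253,0)], [(58,0), (30,0), (130,0), (204,0), (74,6), (210,0), (94,3), (240,3), (155,6), (253,6), (140,3), (179,0)], [], []⟩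

def orb8 : Fixd := ⟨0, [(32,1), (131,1), (60,1), (96,1), (205,1), (157,1), (76,1), (211,1), (241,1), (180,1), (254,1), (142,1)], [(131,6), (32,3), (96,1), (60,10), (157,1), (205,10), (211,0), (76,0), (180,1), (241,10), (142,0), (254,0)], [(60,0), (32,0), (131,0), (205,0), (76,6), (211,0), (96,3), (241,3), (157,6), (254,6), (142,3), (180,0)], [], []⟩

def orb9 : Fixd := ⟨0, [(33,1), (132,1), (61,1), (97,1), (206,1), (158,1), (77,1), (212,1), (242,1), (181,1), (255,1), (143,1)], [(132,6), (33,3), (97,1), (61,10), (158,1), (206,10), (212,0), (77,0), (181,1), (242,10), (143,0), (255,0)], [(61,0), (33,0), (132,0), (206,0), (77,6), (212,0), (97,3), (242,3), (158,6), (255,6), (143,3), (181,0)], [], []⟩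

def orb10 : Fixd := ⟨0, [(102,1), (235,1), (163,1), (213,1), (280,1), (256,1), (182,1), (282,1), (284,1), (268,1), (286,1), (243,1)], [(235,6), (102,3), (213,1), (163,10), (256,1), (280,10), (282,0), (182,0), (268,1), (284,10), (243,0), (286,0)], [(163,0), (102,0), (235,0), (280,0), (182,6), (282,0), (213,3), (284,3), (256,6), (286,6), (243,3), (268,0)], [], []⟩

def orb11 : Fixd := ⟨0, [(104,1), (236,1), (165,1), (215,1), (281,1), (258,1), (184,1), (283,1), (285,1), (269,1), (287,1), (245,1)], [(236,6), (104,3), (215,1), (165,10), (258,1), (281,10), (283,0), (184,0), (269,1), (285,10), (245,0), (287,0)], [(165,0), (104,0), (236,0), (281,0), (184,6), (283,0), (215,3), (285,3), (258,6), (287,6), (245,3), (269,0)], [], []⟩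

def orb12 : Fixd := ⟨1, [(0,1), (26,1), (4,1), (6,1), (32,1), (28,1), (5,1), (33,1), (102,1), (30,1), (104,1), (27,1)], [(26,9), (0,5), (6,2), (4,14), (28,2), (32,14), (33,0), (5,0), (30,2), (102,14), (27,0), (104,0)], [(4,0), (0,0), (26,0), (32,0), (5,9), (33,0), (6,5), (102,5), (28,9), (104,9), (27,5), (30,0)], [], []⟩

def orb13 : Fixd := ⟨1, [(1,1), (54,1), (11,1), (13,1), (60,1), (56,1), (12,1), (61,1), (163,1), (58,1), (165,1), (55,1)], [(54,9), (1,5), (13,2), (11,14), (56,2), (60,14), (61,0), (12,0), (58,2), (163,14), (55,0), (165,0)], [(11,0), (1,0), (54,0), (60,0), (12,9), (61,0), (13,5), (163,5), (56,9), (165,9), (55,5), (58,0)], [], []⟩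

def orb14 : Fixd := ⟨1, [(2,1), (70,1), (16,1), (18,1), (76,1), (72,1), (17,1), (77,1), (182,1), (74,1), (184,1), (71,1)], [(70,9), (2,5), (18,2), (16,14), (72,2), (76,14), (77,0), (17,0), (74,2), (182,14), (71,0), (184,0)], [(16,0), (2,0), (70,0), (76,0), (17,9), (77,0), (18,5), (182,5), (72,9), (184,9), (71,5), (74,0)], [], []⟩

def orb15 : Fixd := ⟨1, [(3,1), (90,1), (22,1), (24,1), (96,1), (92,1), (23,1), (97,1), (213,1), (94,1), (215,1), (91,1)], [(90,9), (3,5), (24,2), (22,14), (92,2), (96,14), (97,0), (23,0), (94,2), (213,14), (91,0), (215,0)], [(22,0), (3,0), (90,0), (96,0), (23,9), (97,0), (24,5), (213,5), (92,9), (215,9), (91,5), (94,0)], [], []⟩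

def orb16 : Fixd := ⟨1, [(9,1), (136,1), (45,1), (47,1), (142,1), (138,1), (46,1), (143,1), (243,1), (140,1), (245,1), (137,1)], [(136,9), (9,5), (47,2), (45,14), (138,2), (142,14), (143,0), (46,0), (140,2), (243,14), (137,0), (245,0)], [(45,0), (9,0), (136,0), (142,0), (46,9), (143,0), (47,5), (243,5), (138,9), (245,9), (137,5), (140,0)], [], []⟩

def orb17 : Fixd := ⟨1, [(10,1), (151,1), (50,1), (52,1), (157,1), (153,1), (51,1), (158,1), (256,1), (155,1), (258,1), (152,1)], [(151,9), (10,5), (52,2), (50,14), (153,2), (157,14), (158,0), (51,0), (155,2), (256,14), (152,0), (258,0)], [(50,0), (10,0), (151,0), (157,0), (51,9), (158,0), (52,5), (256,5), (153,9), (258,9), (152,5), (155,0)], [], []⟩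

def orb18 : Fixd := ⟨1, [(15,1), (176,1), (67,1), (69,1), (180,1), (178,1), (68,1), (181,1), (268,1), (179,1), (269,1), (177,1)], [(176,9), (15,5), (69,2), (67,14), (178,2), (180,14), (181,0), (68,0), (179,2), (268,14), (177,0), (269,0)], [(67,0), (15,0), (176,0), (180,0), (68,9), (181,0), (69,5), (268,5), (178,9), (269,9), (177,5), (179,0)], [], []⟩

def orb19 : Fixd := ⟨1, [(20,1), (201,1), (84,1), (86,1), (205,1), (203,1), (85,1), (206,1), (280,1), (204,1), (281,1), (202,1)], [(201,9), (20,5), (86,2), (84,14), (203,2), (205,14), (206,0), (85,0), (204,2), (280,14), (202,0), (281,0)], [(84,0), (20,0), (201,0), (205,0), (85,9), (206,0), (86,5), (280,5), (203,9), (281,9), (202,5), (204,0)], [], []⟩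

def orb20 : Fixd := ⟨1, [(21,1), (207,1), (87,1), (89,1), (211,1), (209,1), (88,1), (212,1), (282,1), (210,1), (283,1), (208,1)], [(207,9), (21,5), (89,2), (87,14), (209,2), (211,14), (212,0), (88,0), (210,2), (282,14), (208,0), (283,0)], [(87,0), (21,0), (207,0), (211,0), (88,9), (212,0), (89,5), (282,5), (209,9), (283,9), (208,5), (210,0)], [], []⟩

def orb21 : Fixd := ⟨1, [(44,1), (237,1), (133,1), (135,1), (241,1), (239,1), (134,1), (242,1), (284,1), (240,1), (285,1), (238,1)], [(237,9), (44,5), (135,2), (133,14), (239,2), (241,14), (242,0), (134,0), (240,2), (284,14), (238,0), (285,0)], [(133,0), (44,0), (237,0), (241,0), (134,9), (242,0), (135,5), (284,5), (239,9), (285,9), (238,5), (240,0)], [], []⟩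

def orb22 : Fixd := ⟨2, [(0,1), (127,1), (11,1), (24,1), (205,1), (153,1), (17,1), (212,1), (284,1), (179,1), (287,1), (137,1)], [(127,20), (0,12), (24,4), (11,24), (153,4), (205,24), (212,0), (17,0), (179,4), (284,24), (137,0), (287,0)], [(11,0), (0,0), (127,0), (205,0), (17,20), (212,0), (24,12), (284,12), (153,20), (287,20), (137,12), (179,0)], [], []⟩

def orb23 : Fixd := ⟨2, [(1,1), (90,1), (41,1), (20,1), (6,1), (26,1), (151,1), (16,1), (60,1), (8,1), (21,1), (89,1), (92,1), (42,1), (4,1), (70,1), (133,1), (241,1), (206,1), (33,1), (43,1), (54,1), (3,1), (69,1), (178,1), (51,1), (182,1), (163,1), (32,1), (84,1), (254,1), (255,1), (210,1), (94,1), (129,1), (12,1), (52,1), (138,1), (46,1), (243,1), (285,1), (281,1), (97,1), (211,1), (181,1), (253,1), (177,1), (152,1), (71,1), (280,1), (72,1), (134,1), (286,1), (245,1), (283,1), (155,1), (140,1), (251,1), (238,1), (269,1)], [(90,13), (1,19), (6,7), (151,13), (41,23), (8,16), (20,19), (89,2), (92,4), (26,17), (70,9), (16,14), (60,24), (33,3),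 (43,11), (21,5), (69,4), (178,4), (51,1), (42,6), (4,21), (3,8), (54,22), (133,24), (241,24), (206,10), (210,2), (94,4), (129,11), (52,4), (138,2), (46,0), (182,14), (163,24), (32,21), (97,1), (84,24), (254,14), (255,0), (253,2), (177,1), (152,1), (12,10), (72,2), (134,10), (243,14), (285,10), (281,10), (283,0), (155,4), (211,14), (181,1), (140,2), (251,0), (71,0), (280,24), (286,14), (245,0), (269,1), (238,10)], [(41,0), (20,0), (26,0), (16,6), (60,0), (1,0), (21,0), (90,3), (42,9), (4,0), (133,3), (241,3), (206,0), (6,5), (54,0), (3,3), (151,6), (51,20), (182,16), (163,5), (32,0), (8,0), (84,0), (254,6), (255,6), (89,5), (92,17), (129,9), (12,9), (70,6), (46,17), (243,12), (285,17), (281,9), (33,0), (43,5), (211,0), (181,0), (69,5), (178,9), (152,16), (71,16), (280,5), (134,17), (286,16), (245,17), (253,6), (210,0), (94,3), (72,20), (97,3), (52,16), (138,17), (177,5), (238,12), (283,9), (269,9), (140,3), (155,6), (251,16)], [], []⟩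

def orb24 : Fixd := ⟨2, [(9,1), (250,1), (67,1), (135,1), (157,1), (203,1), (88,1), (77,1), (213,1), (58,1), (236,1), (27,1)], [(250,9), (9,5), (135,15), (67,18), (203,15), (157,18), (77,0), (88,0), (58,15), (213,18), (27,3), (236,6)], [(67,0), (9,3), (250,6), (157,6), (88,9), (77,6), (135,12), (213,12), (203,9), (236,9), (27,5), (58,0)], [], []⟩

def orb25 : Fixd := ⟨3, [(0,1), (128,1), (54,1), (104,1), (215,1), (41,1), (127,1), (58,1), (204,1), (102,1), (4,1), (24,1), (52,1), (71,1), (61,1), (235,1), (1,1), (85,1), (88,1), (21,1), (92,1), (129,1), (33,1), (91,1), (157,1), (76,1), (241,1), (237,1), (280,1), (56,1), (281,1), (89,1), (68,1), (269,1), (50,1), (77,1), (97,1), (151,1), (74,1), (134,1), (254,1), (253,1), (209,1), (203,1), (87,1), (180,1), (46,1), (47,1), (137,1), (284,1), (158,1), (182,1), (44,1), (150,1), (49,1), (67,1), (177,1), (140,1), (136,1), (287,1)], [(128,23), (0,7), (215,4), (127,23), (54,24), (102,3), (104,7), (24,1), (52,1), (41,6), (235,6), (58,10), (204,10), (21,2),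 (92,18), (4,3), (91,18), (157,13), (76,9), (71,14), (61,15), (33,7), (129,23), (1,15), (85,19), (88,5), (68,8), (269,4), (50,1), (97,4), (151,18), (74,0), (241,22), (237,24), (280,10), (209,14), (56,24), (281,15), (89,0), (180,13), (46,5), (47,0), (77,2), (158,4), (182,0), (134,19), (254,9), (253,0), (49,2), (67,1), (203,24), (87,0), (177,18), (140,0), (137,14), (284,10), (44,15), (150,0), (287,2), (136,14)], [(54,0), (104,9), (41,0), (58,5), (204,5), (0,0), (4,0), (128,0), (71,6), (61,9), (1,0), (85,9), (88,9), (215,17), (129,0), (33,9), (127,0), (76,16), (241,12), (237,3), (280,5), (102,5), (56,0), (281,9), (89,0), (24,3), (52,6), (50,6), (77,20), (235,5), (74,16), (134,17), (254,16), (253,16), (21,0), (92,3), (203,0), (87,0), (91,3), (157,16), (47,3), (137,3), (284,12), (182,16), (44,3), (150,6), (180,5), (68,9), (269,9), (158,20), (209,0), (97,17), (151,6), (46,17), (136,3), (49,6), (287,20), (177,0), (67,0), (140,12)], [], []⟩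

def orb26 : Fixd := ⟨3, [(10,1), (202,1), (207,1), (184,1), (133,1), (94,1), (268,1), (13,1), (255,1), (42,1), (138,1), (32,1)], [(202,24), (10,4), (184,2), (207,14), (268,1), (13,10), (133,10), (94,1), (138,14), (32,17), (255,2), (42,16)], [(207,0), (184,20), (133,3), (94,12), (10,6), (202,0), (255,20), (42,9), (138,3), (32,5), (268,5), (13,0)], [], []⟩

def orb27 : Fixd := ⟨3, [(20,1), (152,1), (70,1), (283,1), (22,1), (240,1), (163,1), (69,1), (132,1), (149,1), (28,1), (142,1)], [(152,18), (20,15), (283,2), (70,14), (163,10), (69,1), (22,1), (240,10), (28,21), (142,9), (132,11), (149,5)], [(70,6), (283,9), (22,3), (240,12), (20,0), (152,6), (132,9), (149,20), (28,0), (142,12), (163,5), (69,0)], [], []⟩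

def orbs : List Fixd := [orb0, orb1, orb2, orb3, orb4, orb5, orb6, orb7, orb8, orb9, orb10, orb11, orb12, orb13, orb14, orb15, orb16, orb17, orb18, orb19, orb20, orb21, orb22, orb23, orb24, orb25, orb26, orb27]

def f0a0 : Term := (3, 0, 0, [(0,0), (8,0), (1,0), (3,0), (20,0), (10,0), (2,0), (21,0), (44,0), (15,0), (49,0), (9,0)])

def f0a1 : Term := (4, 0, 1, [(4,0), (41,0), (11,0), (22,0), (84,0), (50,0), (16,0), (87,0), (133,0), (67,0), (148,0), (45,0)])

def f0a2 : Term := (3, 0, 2, [(5,0), (42,0), (12,0), (23,0), (85,0), (51,0), (17,0), (88,0), (134,0), (68,0), (149,0), (46,0)])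

def f0a3 : Term := (2, 0, 3, [(6,0), (43,0), (13,0), (24,0), (86,0), (52,0), (18,0), (89,0), (135,0), (69,0), (150,0), (47,0)])

def f0a4 : Term := (3, 0, 4, [(26,0), (127,0), (54,0), (90,0), (201,0), (151,0), (70,0), (207,0), (237,0), (176,0), (250,0), (136,0)])

def f0a5 : Term := (3, 0, 5, [(27,0), (128,0), (55,0), (91,0), (202,0), (152,0), (71,0), (208,0), (238,0), (177,0), (251,0), (137,0)])

def f0a6 : Term := (4, 0, 6, [(28,0), (129,0), (56,0), (92,0), (203,0), (153,0), (72,0), (209,0), (239,0), (178,0), (252,0), (138,0)])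

def f0a7 : Term := (4, 0, 7, [(30,0), (130,0), (58,0), (94,0), (204,0), (155,0), (74,0), (210,0), (240,0), (179,0), (253,0), (140,0)])

def f0a8 : Term := (2, 0, 8, [(32,0), (131,0), (60,0), (96,0), (205,0), (157,0), (76,0), (211,0), (241,0), (180,0), (254,0), (142,0)])

def f0a9 : Term := (3, 0, 9, [(33,0), (132,0), (61,0), (97,0), (206,0), (158,0), (77,0), (212,0), (242,0), (181,0), (255,0), (143,0)])

def f0a10 : Term := (2, 0, 10, [(102,0), (235,0), (163,0), (213,0), (280,0), (256,0), (182,0), (282,0), (284,0), (268,0), (286,0), (243,0)])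

def f0a11 : Term := (3, 0, 11, [(104,0), (236,0), (165,0), (215,0), (281,0), (258,0), (184,0), (283,0), (285,0), (269,0), (287,0), (245,0)])

def f0a12 : Term := (1, 0, 12, [(0,0), (26,0), (4,0), (6,0), (32,0), (28,0), (5,0), (33,0), (102,0), (30,0), (104,0), (27,0)])

def f0a13 : Term := (4, 0, 13, [(1,0), (54,0), (11,0), (13,0), (60,0), (56,0), (12,0), (61,0), (163,0), (58,0), (165,0), (55,0)])

def f0a14 : Term := (3, 0, 14, [(2,0), (70,0), (16,0), (18,0), (76,0), (72,0), (17,0), (77,0), (182,0), (74,0), (184,0), (71,0)])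

def f0a15 : Term := (2, 0, 15, [(3,0), (90,0), (22,0), (24,0), (96,0), (92,0), (23,0), (97,0), (213,0), (94,0), (215,0), (91,0)])

def f0a16 : Term := (1, 0, 16, [(9,0), (136,0), (45,0), (47,0), (142,0), (138,0), (46,0), (143,0), (243,0), (140,0), (245,0), (137,0)])

def f0a17 : Term := (3, 0, 17, [(10,0), (151,0), (50,0), (52,0), (157,0), (153,0), (51,0), (158,0), (256,0), (155,0), (258,0), (152,0)])

def f0a18 : Term := (4, 0, 18, [(15,0), (176,0), (67,0), (69,0), (180,0), (178,0), (68,0), (181,0), (268,0), (179,0), (269,0), (177,0)])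

def f0a19 : Term := (3, 0, 19, [(20,0), (201,0), (84,0), (86,0), (205,0), (203,0), (85,0), (206,0), (280,0), (204,0), (281,0), (202,0)])

def f0a20 : Term := (3, 0, 20, [(21,0), (207,0), (87,0), (89,0), (211,0), (209,0), (88,0), (212,0), (282,0), (210,0), (283,0), (208,0)])

def f0a21 : Term := (2, 0, 21, [(44,0), (237,0), (133,0), (135,0), (241,0), (239,0), (134,0), (242,0), (284,0), (240,0), (285,0), (238,0)])

def f0a22 : Term := (2, 0, 22, [(0,0), (127,0), (11,0), (24,0), (205,0), (153,0), (17,0), (212,0), (284,0), (179,0), (287,0), (137,0)])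

def f0a23 : Term := (4, 0, 24, [(9,0), (250,0), (67,0), (135,0), (157,0), (203,0), (88,0), (77,0), (213,0), (58,0), (236,0), (27,0)])

def f0a24 : Term := (3, 0, 26, [(10,0), (202,0), (207,0), (184,0), (133,0), (94,0), (268,0), (13,0), (255,0), (42,0), (138,0), (32,0)])

def f0a25 : Term := (3, 0, 27, [(20,0), (152,0), (70,0), (283,0), (22,0), (240,0), (163,0), (69,0), (132,0), (149,0), (28,0), (142,0)])

def f0a26 : Term := (3, 0, 23, [(1,0), (90,0), (41,0), (20,0), (6,0), (26,0), (151,0), (16,0), (60,0), (8,0), (21,0), (89,0), (92,0), (42,0), (4,0), (70,0), (133,0), (241,0), (206,0), (33,0), (43,0), (54,0), (3,0), (69,0), (178,0), (51,0), (182,0), (163,0), (32,0), (84,0), (254,0), (255,0), (210,0), (94,0), (129,0), (12,0), (52,0), (138,0), (46,0), (243,0), (285,0), (281,0), (97,0), (211,0), (181,0), (253,0), (177,0), (152,0), (71,0), (280,0), (72,0), (134,0), (286,0), (245,0), (283,0), (155,0), (140,0), (251,0), (238,0), (269,0)])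

def f0a27 : Term := (1, 0, 25, [(0,0), (128,0), (54,0), (104,0), (215,0), (41,0), (127,0), (58,0), (204,0), (102,0), (4,0), (24,0), (52,0), (71,0), (61,0), (235,0), (1,0), (85,0), (88,0), (21,0), (92,0), (129,0), (33,0), (91,0), (157,0), (76,0), (241,0), (237,0), (280,0), (56,0), (281,0), (89,0), (68,0), (269,0), (50,0), (77,0), (97,0), (151,0), (74,0), (134,0), (254,0), (253,0), (209,0), (203,0), (87,0), (180,0), (46,0), (47,0), (137,0), (284,0), (158,0), (182,0), (44,0), (150,0), (49,0), (67,0), (177,0), (140,0), (136,0), (287,0)])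

def f0a28 : Term := (4, 1, 22, [(1,0), (26,0), (41,0), (86,0), (76,6), (209,0), (23,3), (242,3), (256,6), (253,6), (245,3), (177,0)])

def f0a29 : Term := (3, 19, 22, [(2,0), (151,1), (45,0), (43,6), (241,1), (92,1), (68,0), (61,10), (286,0), (30,0), (281,10), (208,1)])

def f0a30 : Term := (2, 9, 22, [(3,0), (176,3), (50,0), (89,0), (131,0), (252,0), (46,10), (33,0), (182,1), (204,6), (165,0), (238,0)])

def f0a31 : Term := (2, 5, 22, [(4,0), (8,0), (54,0), (96,0), (85,9), (158,0), (18,5), (282,5), (239,9), (269,9), (251,5), (140,0)])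

def f0a32 : Term := (4, 20, 22, [(5,0), (129,2), (55,0), (90,9), (280,2), (52,2), (74,0), (87,14), (285,0), (15,0), (254,14), (143,2)])

def f0a33 : Term := (4, 11, 22, [(6,0), (130,5), (56,0), (97,0), (201,0), (258,0), (71,14), (21,0), (134,2), (180,9), (148,0), (243,0)])

def f0a34 : Term := (1, 1, 24, [(15,0), (136,3), (148,6), (52,6), (211,0), (72,6), (134,3), (97,3), (280,0), (130,0), (104,0), (55,0)])

def f0a35 : Term := (3, 19, 24, [(21,1), (201,10), (4,0), (150,0), (96,1), (239,1), (12,10), (181,0), (235,6), (140,0), (258,1), (71,0)])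

def f0a36 : Term := (2, 5, 24, [(45,0), (49,0), (176,0), (241,0), (51,9), (206,0), (89,5), (182,5), (92,9), (165,9), (128,5), (30,0)])

def f0a37 : Term := (2, 20, 24, [(46,0), (252,2), (177,0), (237,9), (256,2), (86,2), (210,0), (16,14), (215,0), (1,0), (131,14), (33,2)])

def f0a38 : Term := (2, 1, 26, [(21,0), (71,6), (237,3), (215,3), (50,6), (204,0), (286,6), (43,0), (143,3), (5,0), (178,0), (60,0)])

def f0a39 : Term := (4, 9, 26, [(49,0), (128,0), (26,0), (245,10), (16,1), (210,0), (280,6), (52,0), (61,0), (68,3), (239,0), (96,0)])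

def f0a40 : Term := (1, 1, 27, [(2,6), (208,0), (90,3), (285,3), (84,0), (155,6), (235,0), (150,6), (33,0), (46,3), (56,0), (180,0)])

def f0a41 : Term := (4, 19, 27, [(44,1), (91,1), (176,0), (165,10), (41,6), (253,0), (243,0), (6,0), (158,1), (85,10), (72,0), (211,1)])

def f0a42 : Term := (3, 9, 27, [(8,0), (251,0), (136,10), (104,0), (87,0), (74,1), (256,0), (86,6), (181,3), (12,0), (92,0), (241,0)])

def f0a43 : Term := (2, 1, 23, [(8,0), (201,0), (4,0), (2,6), (13,0), (54,0), (207,0), (22,3), (131,0), (0,0), (44,3), (135,3), (203,0), (5,0), (11,0), (90,3), (50,6), (157,6), (77,6), (61,0), (6,0), (127,0), (20,0), (150,6), (252,6), (88,0), (213,3), (235,0), (60,0), (16,6), (142,3), (143,3), (240,3), (204,0), (28,0), (42,0), (89,0), (178,0), (68,0), (268,0), (258,6), (184,6), (206,0), (241,3), (255,6), (140,3), (251,6), (208,0), (91,3), (182,6), (92,3), (51,6), (243,3), (269,0), (285,3), (210,0), (179,0), (137,3), (152,6), (287,6)])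

def f0a44 : Term := (2, 19, 23, [(9,0), (127,6), (50,1), (44,1), (18,0), (70,0), (90,1), (67,0), (142,0), (10,1), (1,10), (13,10), (129,6), (51,1), (16,0), (176,0), (148,0), (254,0), (242,1), (77,0), (52,1), (136,0), (8,6), (6,0), (28,0), (23,1), (268,0), (243,0), (76,0), (133,1), (205,10), (206,10), (58,10), (130,6), (153,1), (46,0), (24,1), (209,1), (88,1), (282,1), (287,0), (285,1), (132,6), (60,10), (33,0), (204,10), (27,0), (91,1), (177,0), (284,1), (178,0), (149,0), (280,10), (283,1), (165,10), (94,1), (210,1), (202,10), (251,0), (104,0)])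

def f0a45 : Term := (2, 5, 23, [(11,0), (3,0), (127,0), (84,0), (32,0), (0,0), (10,0), (70,0), (12,9), (41,0), (87,0), (211,0), (97,0), (43,5), (26,0), (2,0), (237,0), (134,9), (280,5), (102,5), (131,0), (1,0), (22,0), (180,0), (181,0), (52,5), (72,9), (56,9), (5,9), (201,0), (149,9), (286,5), (283,9), (215,9), (132,0), (13,5), (157,0), (143,0), (47,5), (138,9), (238,5), (202,5), (213,5), (88,9), (268,5), (287,9), (179,0), (155,0), (74,0), (203,9), (77,0), (135,5), (252,9), (137,5), (208,5), (258,9), (245,9), (253,0), (240,0), (177,5)])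

def f0a46 : Term := (3, 1, 25, [(1,0), (27,0), (127,0), (165,0), (281,0), (4,0), (26,0), (130,0), (74,6), (163,0), (11,0), (86,0), (89,0), (91,3), (132,0), (102,0), (8,0), (17,6), (134,3), (44,3), (203,0), (28,0), (61,0), (202,0), (211,0), (96,3), (157,6), (151,6), (182,6), (129,0), (184,6), (135,3), (149,6), (287,6), (87,0), (97,3), (206,0), (207,0), (94,3), (51,6), (142,3), (140,3), (239,3), (72,6), (133,3), (254,6), (68,0), (69,0), (177,0), (256,6), (212,0), (213,3), (10,6), (47,3), (9,3), (148,6), (251,6), (179,0), (176,0), (245,3)])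

def f0a47 : Term := (1, 19, 25, [(2,0), (152,1), (136,0), (184,0), (236,6), (50,1), (151,1), (140,0), (240,1), (182,0), (16,0), (43,6), (24,1), (177,0), (143,0), (256,1), (9,0), (134,1), (12,10), (1,10), (129,6), (153,1), (77,0), (128,6), (96,1), (180,0), (254,0), (250,0), (284,1), (138,0), (285,1), (13,10), (5,0), (104,0), (22,1), (181,0), (132,6), (90,1), (179,0), (149,0), (205,10), (204,10), (56,10), (239,1), (11,10), (32,0), (88,1), (89,1), (208,1), (286,0), (97,1), (268,0), (49,0), (86,10), (20,10), (4,0), (27,0), (210,1), (207,1), (281,10)])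

def f0a48 : Term := (3, 2, 22, [(9,0), (70,0), (50,1), (135,1), (180,6), (56,10), (42,0), (255,3), (213,10), (204,3), (283,6), (27,0)])

def f0a49 : Term := (2, 21, 22, [(10,0), (90,0), (67,3), (43,0), (142,3), (28,0), (88,3), (77,6), (286,6), (58,6), (285,3), (202,6)])

def f0a50 : Term := (4, 22, 22, [(12,0), (28,2), (128,0), (201,9), (182,11), (89,2), (94,3), (133,21), (258,6), (49,6), (142,21), (181,2)])

def f0a51 : Term := (2, 23, 22, [(13,0), (30,5), (129,0), (206,0), (70,6), (283,0), (91,21), (44,3), (51,11), (254,20), (45,3), (268,0)])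

def f0a52 : Term := (3, 24, 22, [(3,3), (207,1), (67,0), (6,6), (157,10), (203,1), (149,6), (132,10), (243,3), (58,0), (184,3), (238,6)])

def f0a53 : Term := (2, 25, 22, [(9,10), (250,1), (133,0), (69,0), (76,3), (209,1), (85,6), (158,10), (163,0), (94,0), (236,10), (27,1)])

def f0a54 : Term := (1, 26, 22, [(16,0), (10,1), (136,0), (131,6), (134,13), (97,1), (69,5), (163,19), (252,9), (104,9), (202,19), (210,1)])

def f0a55 : Term := (2, 27, 22, [(18,0), (155,8), (138,0), (132,6), (237,1), (215,1), (177,14), (1,10), (149,2), (32,9), (84,10), (282,1)])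

def f0a56 : Term := (1, 28, 22, [(20,0), (250,0), (87,0), (135,3), (32,0), (138,3), (68,10), (61,0), (213,6), (74,1), (236,0), (152,6)])

def f0a57 : Term := (1, 29, 22, [(22,0), (15,3), (151,0), (211,0), (42,9), (255,0), (47,19), (102,5), (72,13), (281,20), (55,5), (240,0)])

def f0a58 : Term := (1, 21, 24, [(20,6), (237,3), (11,6), (150,6), (32,0), (138,3), (17,6), (212,3), (235,0), (179,3), (215,0), (152,0)])

def f0a59 : Term := (2, 22, 24, [(68,0), (138,7), (251,6), (151,20), (282,2), (18,11), (240,3), (22,21), (281,0), (8,0), (32,14), (61,2)])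

def f0a60 : Term := (4, 30, 26, [(44,3), (91,0), (151,0), (281,3), (87,6), (74,6), (243,0), (6,0), (181,3), (12,0), (252,6), (131,0)])

def f0a61 : Term := (3, 2, 26, [(1,10), (177,6), (250,3), (236,0), (22,10), (240,1), (280,3), (52,1), (212,6), (17,0), (28,0), (142,0)])

def f0a62 : Term := (4, 21, 26, [(0,0), (137,3), (70,6), (283,3), (148,6), (130,0), (163,6), (69,3), (242,3), (23,0), (203,6), (157,0)])

def f0a63 : Term := (3, 22, 26, [(88,0), (77,11), (239,7), (96,21), (152,6), (20,0), (287,6), (127,9), (45,21), (30,0), (69,2), (163,2)])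

def f0a64 : Term := (1, 25, 26, [(21,1), (71,3), (151,10), (281,6), (11,0), (179,0), (213,0), (135,0), (132,10), (149,1), (28,1), (142,10)])

def f0a65 : Term := (2, 2, 27, [(15,6), (55,10), (127,0), (287,3), (133,1), (94,10), (256,1), (86,3), (77,0), (88,6), (138,0), (32,0)])

def f0a66 : Term := (2, 21, 27, [(9,3), (27,0), (207,3), (184,6), (41,0), (253,6), (268,3), (13,6), (97,0), (134,3), (153,0), (205,6)])

def f0a67 : Term := (2, 31, 22, [(44,0), (136,10), (148,1), (18,3), (205,1), (153,10), (68,3), (61,3), (282,10), (130,3), (104,6), (91,0)])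

def f0b0 : Term := (4, 0, 0, [(0,0), (8,0), (1,0), (3,0), (20,0), (10,0), (2,0), (21,0), (44,0), (15,0), (49,0), (9,0)])

def f0b1 : Term := (4, 0, 1, [(4,0), (41,0), (11,0), (22,0), (84,0), (50,0), (16,0), (87,0), (133,0), (67,0), (148,0), (45,0)])

def f0b2 : Term := (4, 0, 2, [(5,0), (42,0), (12,0), (23,0), (85,0), (51,0), (17,0), (88,0), (134,0), (68,0), (149,0), (46,0)])

def f0b3 : Term := (4, 0, 3, [(6,0), (43,0), (13,0), (24,0), (86,0), (52,0), (18,0), (89,0), (135,0), (69,0), (150,0), (47,0)])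

def f0b4 : Term := (4, 0, 4, [(26,0), (127,0), (54,0), (90,0), (201,0), (151,0), (70,0), (207,0), (237,0), (176,0), (250,0), (136,0)])

def f0b5 : Term := (4, 0, 5, [(27,0), (128,0), (55,0), (91,0), (202,0), (152,0), (71,0), (208,0), (238,0), (177,0), (251,0), (137,0)])

def f0b6 : Term := (4, 0, 7, [(30,0), (130,0), (58,0), (94,0), (204,0), (155,0), (74,0), (210,0), (240,0), (179,0), (253,0), (140,0)])

def f0b7 : Term := (4, 0, 8, [(32,0), (131,0), (60,0), (96,0), (205,0), (157,0), (76,0), (211,0), (241,0), (180,0), (254,0), (142,0)])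

def f0b8 : Term := (3, 0, 9, [(33,0), (132,0), (61,0), (97,0), (206,0), (158,0), (77,0), (212,0), (242,0), (181,0), (255,0), (143,0)])

def f0b9 : Term := (4, 0, 10, [(102,0), (235,0), (163,0), (213,0), (280,0), (256,0), (182,0), (282,0), (284,0), (268,0), (286,0), (243,0)])

def f0b10 : Term := (4, 0, 11, [(104,0), (236,0), (165,0), (215,0), (281,0), (258,0), (184,0), (283,0), (285,0), (269,0), (287,0), (245,0)])

def f0b11 : Term := (1, 0, 12, [(0,0), (26,0), (4,0), (6,0), (32,0), (28,0), (5,0), (33,0), (102,0), (30,0), (104,0), (27,0)])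

def f0b12 : Term := (3, 0, 13, [(1,0), (54,0), (11,0), (13,0), (60,0), (56,0), (12,0), (61,0), (163,0), (58,0), (165,0), (55,0)])

def f0b13 : Term := (2, 0, 14, [(2,0), (70,0), (16,0), (18,0), (76,0), (72,0), (17,0), (77,0), (182,0), (74,0), (184,0), (71,0)])

def f0b14 : Term := (3, 0, 15, [(3,0), (90,0), (22,0), (24,0), (96,0), (92,0), (23,0), (97,0), (213,0), (94,0), (215,0), (91,0)])

def f0b15 : Term := (1, 0, 16, [(9,0), (136,0), (45,0), (47,0), (142,0), (138,0), (46,0), (143,0), (243,0), (140,0), (245,0), (137,0)])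

def f0b16 : Term := (4, 0, 17, [(10,0), (151,0), (50,0), (52,0), (157,0), (153,0), (51,0), (158,0), (256,0), (155,0), (258,0), (152,0)])

def f0b17 : Term := (3, 0, 18, [(15,0), (176,0), (67,0), (69,0), (180,0), (178,0), (68,0), (181,0), (268,0), (179,0), (269,0), (177,0)])

def f0b18 : Term := (4, 0, 19, [(20,0), (201,0), (84,0), (86,0), (205,0), (203,0), (85,0), (206,0), (280,0), (204,0), (281,0), (202,0)])

def f0b19 : Term := (2, 0, 20, [(21,0), (207,0), (87,0), (89,0), (211,0), (209,0), (88,0), (212,0), (282,0), (210,0), (283,0), (208,0)])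

def f0b20 : Term := (3, 0, 21, [(44,0), (237,0), (133,0), (135,0), (241,0), (239,0), (134,0), (242,0), (284,0), (240,0), (285,0), (238,0)])

def f0b21 : Term := (4, 0, 22, [(0,0), (127,0), (11,0), (24,0), (205,0), (153,0), (17,0), (212,0), (284,0), (179,0), (287,0), (137,0)])

def f0b22 : Term := (2, 0, 26, [(10,0), (202,0), (207,0), (184,0), (133,0), (94,0), (268,0), (13,0), (255,0), (42,0), (138,0), (32,0)])

def f0b23 : Term := (4, 0, 27, [(20,0), (152,0), (70,0), (283,0), (22,0), (240,0), (163,0), (69,0), (132,0), (149,0), (28,0), (142,0)])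

def f0b24 : Term := (4, 0, 23, [(1,0), (90,0), (41,0), (20,0), (6,0), (26,0), (151,0), (16,0), (60,0), (8,0), (21,0), (89,0), (92,0), (42,0), (4,0), (70,0), (133,0), (241,0), (206,0), (33,0), (43,0), (54,0), (3,0), (69,0), (178,0), (51,0), (182,0), (163,0), (32,0), (84,0), (254,0), (255,0), (210,0), (94,0), (129,0), (12,0), (52,0), (138,0), (46,0), (243,0), (285,0), (281,0), (97,0), (211,0), (181,0), (253,0), (177,0), (152,0), (71,0), (280,0), (72,0), (134,0), (286,0), (245,0), (283,0), (155,0), (140,0), (251,0), (238,0), (269,0)])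

def f0b25 : Term := (1, 0, 25, [(0,0), (128,0), (54,0), (104,0), (215,0), (41,0), (127,0), (58,0), (204,0), (102,0), (4,0), (24,0), (52,0), (71,0), (61,0), (235,0), (1,0), (85,0), (88,0), (21,0), (92,0), (129,0), (33,0), (91,0), (157,0), (76,0), (241,0), (237,0), (280,0), (56,0), (281,0), (89,0), (68,0), (269,0), (50,0), (77,0), (97,0), (151,0), (74,0), (134,0), (254,0), (253,0), (209,0), (203,0), (87,0), (180,0), (46,0), (47,0), (137,0), (284,0), (158,0), (182,0), (44,0), (150,0), (49,0), (67,0), (177,0), (140,0), (136,0), (287,0)])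

def f0b26 : Term := (1, 1, 22, [(1,0), (26,0), (41,0), (86,0), (76,6), (209,0), (23,3), (242,3), (256,6), (253,6), (245,3), (177,0)])

def f0b27 : Term := (2, 9, 22, [(3,0), (176,3), (50,0), (89,0), (131,0), (252,0), (46,10), (33,0), (182,1), (204,6), (165,0), (238,0)])

def f0b28 : Term := (1, 5, 22, [(4,0), (8,0), (54,0), (96,0), (85,9), (158,0), (18,5), (282,5), (239,9), (269,9), (251,5), (140,0)])

def f0b29 : Term := (2, 20, 22, [(5,0), (129,2), (55,0), (90,9), (280,2), (52,2), (74,0), (87,14), (285,0), (15,0), (254,14), (143,2)])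

def f0b30 : Term := (2, 11, 22, [(6,0), (130,5), (56,0), (97,0), (201,0), (258,0), (71,14), (21,0), (134,2), (180,9), (148,0), (243,0)])

def f0b31 : Term := (4, 19, 24, [(21,1), (201,10), (4,0), (150,0), (96,1), (239,1), (12,10), (181,0), (235,6), (140,0), (258,1), (71,0)])

def f0b32 : Term := (2, 9, 24, [(44,0), (54,0), (84,6), (18,1), (254,0), (129,0), (5,0), (143,10), (282,0), (155,0), (269,3), (91,0)])

def f0b33 : Term := (3, 20, 24, [(46,0), (252,2), (177,0), (237,9), (256,2), (86,2), (210,0), (16,14), (215,0), (1,0), (131,14), (33,2)])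

def f0b34 : Term := (2, 11, 24, [(47,0), (253,5), (178,0), (242,0), (151,0), (281,0), (208,14), (2,0), (23,2), (60,9), (41,0), (102,0)])

def f0b35 : Term := (2, 1, 26, [(21,0), (71,6), (237,3), (215,3), (50,6), (204,0), (286,6), (43,0), (143,3), (5,0), (178,0), (60,0)])

def f0b36 : Term := (1, 19, 26, [(3,1), (238,1), (54,10), (269,0), (148,0), (130,6), (102,0), (47,0), (206,10), (51,1), (209,1), (76,0)])

def f0b37 : Term := (3, 9, 26, [(49,0), (128,0), (26,0), (245,10), (16,1), (210,0), (280,6), (52,0), (61,0), (68,3), (239,0), (96,0)])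

def f0b38 : Term := (2, 1, 27, [(2,6), (208,0), (90,3), (285,3), (84,0), (155,6), (235,0), (150,6), (33,0), (46,3), (56,0), (180,0)])

def f0b39 : Term := (3, 19, 27, [(44,1), (91,1), (176,0), (165,10), (41,6), (253,0), (243,0), (6,0), (158,1), (85,10), (72,0), (211,1)])

def f0b40 : Term := (4, 1, 23, [(8,0), (201,0), (4,0), (2,6), (13,0), (54,0), (207,0), (22,3), (131,0), (0,0), (44,3), (135,3), (203,0), (5,0), (11,0), (90,3), (50,6), (157,6), (77,6), (61,0), (6,0), (127,0), (20,0), (150,6), (252,6), (88,0), (213,3), (235,0), (60,0), (16,6), (142,3), (143,3), (240,3), (204,0), (28,0), (42,0), (89,0), (178,0), (68,0), (268,0), (258,6), (184,6), (206,0), (241,3), (255,6), (140,3), (251,6), (208,0), (91,3), (182,6), (92,3), (51,6), (243,3), (269,0), (285,3), (210,0), (179,0), (137,3), (152,6), (287,6)])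

def f0b41 : Term := (4, 19, 23, [(9,0), (127,6), (50,1), (44,1), (18,0), (70,0), (90,1), (67,0), (142,0), (10,1), (1,10), (13,10), (129,6), (51,1), (16,0), (176,0), (148,0), (254,0), (242,1), (77,0), (52,1), (136,0), (8,6), (6,0), (28,0), (23,1), (268,0), (243,0), (76,0), (133,1), (205,10), (206,10), (58,10), (130,6), (153,1), (46,0), (24,1), (209,1), (88,1), (282,1), (287,0), (285,1), (132,6), (60,10), (33,0), (204,10), (27,0), (91,1), (177,0), (284,1), (178,0), (149,0), (280,10), (283,1), (165,10), (94,1), (210,1), (202,10), (251,0), (104,0)])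

def f0b42 : Term := (3, 5, 23, [(11,0), (3,0), (127,0), (84,0), (32,0), (0,0), (10,0), (70,0), (12,9), (41,0), (87,0), (211,0), (97,0), (43,5), (26,0), (2,0), (237,0), (134,9), (280,5), (102,5), (131,0), (1,0), (22,0), (180,0), (181,0), (52,5), (72,9), (56,9), (5,9), (201,0), (149,9), (286,5), (283,9), (215,9), (132,0), (13,5), (157,0), (143,0), (47,5), (138,9), (238,5), (202,5), (213,5), (88,9), (268,5), (287,9), (179,0), (155,0), (74,0), (203,9), (77,0), (135,5), (252,9), (137,5), (208,5), (258,9), (245,9), (253,0), (240,0), (177,5)])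

def f0b43 : Term := (4, 1, 25, [(1,0), (27,0), (127,0), (165,0), (281,0), (4,0), (26,0), (130,0), (74,6), (163,0), (11,0), (86,0), (89,0), (91,3), (132,0), (102,0), (8,0), (17,6), (134,3), (44,3), (203,0), (28,0), (61,0), (202,0), (211,0), (96,3), (157,6), (151,6), (182,6), (129,0), (184,6), (135,3), (149,6), (287,6), (87,0), (97,3), (206,0), (207,0), (94,3), (51,6), (142,3), (140,3), (239,3), (72,6), (133,3), (254,6), (68,0), (69,0), (177,0), (256,6), (212,0), (213,3), (10,6), (47,3), (9,3), (148,6), (251,6), (179,0), (176,0), (245,3)])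

def f0b44 : Term := (2, 19, 25, [(2,0), (152,1), (136,0), (184,0), (236,6), (50,1), (151,1), (140,0), (240,1), (182,0), (16,0), (43,6), (24,1), (177,0), (143,0), (256,1), (9,0), (134,1), (12,10), (1,10), (129,6), (153,1), (77,0), (128,6), (96,1), (180,0), (254,0), (250,0), (284,1), (138,0), (285,1), (13,10), (5,0), (104,0), (22,1), (181,0), (132,6), (90,1), (179,0), (149,0), (205,10), (204,10), (56,10), (239,1), (11,10), (32,0), (88,1), (89,1), (208,1), (286,0), (97,1), (268,0), (49,0), (86,10), (20,10), (4,0), (27,0), (210,1), (207,1), (281,10)])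

def f0b45 : Term := (2, 2, 22, [(9,0), (70,0), (50,1), (135,1), (180,6), (56,10), (42,0), (255,3), (213,10), (204,3), (283,6), (27,0)])

def f0b46 : Term := (1, 23, 22, [(13,0), (30,5), (129,0), (206,0), (70,6), (283,0), (91,21), (44,3), (51,11), (254,20), (45,3), (268,0)])

def f0b47 : Term := (3, 24, 22, [(3,3), (207,1), (67,0), (6,6), (157,10), (203,1), (149,6), (132,10), (243,3), (58,0), (184,3), (238,6)])

def f0b48 : Term := (2, 25, 22, [(9,10), (250,1), (133,0), (69,0), (76,3), (209,1), (85,6), (158,10), (163,0), (94,0), (236,10), (27,1)])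

def f0b49 : Term := (4, 26, 22, [(16,0), (10,1), (136,0), (131,6), (134,13), (97,1), (69,5), (163,19), (252,9), (104,9), (202,19), (210,1)])

def f0b50 : Term := (4, 27, 22, [(18,0), (155,8), (138,0), (132,6), (237,1), (215,1), (177,14), (1,10), (149,2), (32,9), (84,10), (282,1)])

def f0b51 : Term := (4, 28, 22, [(20,0), (250,0), (87,0), (135,3), (32,0), (138,3), (68,10), (61,0), (213,6), (74,1), (236,0), (152,6)])

def f0b52 : Term := (4, 29, 22, [(22,0), (15,3), (151,0), (211,0), (42,9), (255,0), (47,19), (102,5), (72,13), (281,20), (55,5), (240,0)])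

def f0b53 : Term := (2, 2, 24, [(0,0), (207,6), (84,3), (24,10), (60,10), (178,6), (149,3), (132,0), (284,1), (155,1), (184,0), (137,0)])

def f0b54 : Term := (4, 22, 24, [(68,0), (138,7), (251,6), (151,20), (282,2), (18,11), (240,3), (22,21), (281,0), (8,0), (32,14), (61,2)])

def f0b55 : Term := (2, 2, 26, [(1,10), (177,6), (250,3), (236,0), (22,10), (240,1), (280,3), (52,1), (212,6), (17,0), (28,0), (142,0)])

def f0b56 : Term := (1, 21, 26, [(0,0), (137,3), (70,6), (283,3), (148,6), (130,0), (163,6), (69,3), (242,3), (23,0), (203,6), (157,0)])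

def f0b57 : Term := (4, 22, 26, [(88,0), (77,11), (239,7), (96,21), (152,6), (20,0), (287,6), (127,9), (45,21), (30,0), (69,2), (163,2)])

def f0b58 : Term := (1, 25, 26, [(21,1), (71,3), (151,10), (281,6), (11,0), (179,0), (213,0), (135,0), (132,10), (149,1), (28,1), (142,10)])

def f0b59 : Term := (2, 2, 27, [(15,6), (55,10), (127,0), (287,3), (133,1), (94,10), (256,1), (86,3), (77,0), (88,6), (138,0), (32,0)])

def f0b60 : Term := (2, 21, 27, [(9,3), (27,0), (207,3), (184,6), (41,0), (253,6), (268,3), (13,6), (97,0), (134,3), (153,0), (205,6)])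

def f0b61 : Term := (4, 31, 22, [(44,0), (136,10), (148,1), (18,3), (205,1), (153,10), (68,3), (61,3), (282,10), (130,3), (104,6), (91,0)])

def fx0 : Fixd := ⟨2, [(89,3), (97,3), (134,3), (138,1), (142,4), (157,4), (178,1), (180,4), (182,3), (201,1), (205,4), (209,1), (211,4), (236,4), (239,1), (241,4), (250,4), (252,1), (254,4), (258,1)], [(16,14), (12,10), (181,1), (254,14), (252,2), (203,15), (241,24), (239,15), (210,2), (10,8), (153,4), (76,14), (72,2), (27,3), (180,18), (178,4), (9,5), (142,14), (138,2), (202,10)], [(241,3), (280,5), (52,16), (181,0), (68,9), (88,9), (255,6), (149,20), (92,17), (2,6), (17,20), (242,3), (134,17), (27,5), (158,6), (51,20), (9,3), (143,3), (46,17), (208,5)], [f0a0, f0a1, f0a2, f0a3, f0a4, f0a5, f0a6, f0a7, f0a8, f0a9, f0a10, f0a11, f0a12, f0a13, f0a14, f0a15, f0a16, f0a17, f0a18, f0a19, f0a20, f0a21, f0a22, f0a23, f0a24, f0a25, f0a26, f0a27, f0a28, f0a29, f0a30, f0a31, f0a32, f0a33, f0a34, f0a35, f0a36, f0a37, f0a38, f0a39, f0a40, f0a41, f0a42, f0a43, f0a44,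 f0a45, f0a46, f0a47, f0a48, f0a49, f0a50, f0a51, f0a52, f0a53, f0a54, f0a55, f0a56, f0a57, f0a58, f0a59, f0a60, f0a61, f0a62, f0a63, f0a64, f0a65, f0a66, f0a67], [f0b0, f0b1, f0b2, f0b3, f0b4, f0b5, f0b6, f0b7, f0b8, f0b9, f0b10, f0b11, f0b12, f0b13, f0b14, f0b15, f0b16, f0b17, f0b18, f0b19, f0b20, f0b21, f0b22, f0b23, f0b24, f0b25, f0b26, f0b27, f0b28, f0b29, f0b30, f0b31, f0b32, f0b33, f0b34, f0b35, f0b36, f0b37, f0b38, f0b39, f0b40, f0b41, f0b42, f0b43, f0b44, f0b45, f0b46, f0b47, f0b48, f0b49, f0b50, f0b51, f0b52, f0b53, f0b54, f0b55, f0b56, f0b57, f0b58, f0b59, f0b60, f0b61]⟩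

def f1a0 : Term := (4, 0, 0, [(0,0), (8,0), (1,0), (3,0), (20,0), (10,0), (2,0), (21,0), (44,0), (15,0), (49,0), (9,0)])

def f1a1 : Term := (2, 0, 1, [(4,0), (41,0), (11,0), (22,0), (84,0), (50,0), (16,0), (87,0), (133,0), (67,0), (148,0), (45,0)])

def f1a2 : Term := (1, 0, 2, [(5,0), (42,0), (12,0), (23,0), (85,0), (51,0), (17,0), (88,0), (134,0), (68,0), (149,0), (46,0)])

def f1a3 : Term := (1, 0, 3, [(6,0), (43,0), (13,0), (24,0), (86,0), (52,0), (18,0), (89,0), (135,0), (69,0), (150,0), (47,0)])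

def f1a4 : Term := (4, 0, 4, [(26,0), (127,0), (54,0), (90,0), (201,0), (151,0), (70,0), (207,0), (237,0), (176,0), (250,0), (136,0)])

def f1a5 : Term := (4, 0, 5, [(27,0), (128,0), (55,0), (91,0), (202,0), (152,0), (71,0), (208,0), (238,0), (177,0), (251,0), (137,0)])

def f1a6 : Term := (3, 0, 6, [(28,0), (129,0), (56,0), (92,0), (203,0), (153,0), (72,0), (209,0), (239,0), (178,0), (252,0), (138,0)])

def f1a7 : Term := (2, 0, 7, [(30,0), (130,0), (58,0), (94,0), (204,0), (155,0), (74,0), (210,0), (240,0), (179,0), (253,0), (140,0)])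

def f1a8 : Term := (2, 0, 8, [(32,0), (131,0), (60,0), (96,0), (205,0), (157,0), (76,0), (211,0), (241,0), (180,0), (254,0), (142,0)])

def f1a9 : Term := (1, 0, 10, [(102,0), (235,0), (163,0), (213,0), (280,0), (256,0), (182,0), (282,0), (284,0), (268,0), (286,0), (243,0)])

def f1a10 : Term := (4, 0, 11, [(104,0), (236,0), (165,0), (215,0), (281,0), (258,0), (184,0), (283,0), (285,0), (269,0), (287,0), (245,0)])

def f1a11 : Term := (3, 0, 13, [(1,0), (54,0), (11,0), (13,0), (60,0), (56,0), (12,0), (61,0), (163,0), (58,0), (165,0), (55,0)])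

def f1a12 : Term := (2, 0, 15, [(3,0), (90,0), (22,0), (24,0), (96,0), (92,0), (23,0), (97,0), (213,0), (94,0), (215,0), (91,0)])

def f1a13 : Term := (3, 0, 18, [(15,0), (176,0), (67,0), (69,0), (180,0), (178,0), (68,0), (181,0), (268,0), (179,0), (269,0), (177,0)])

def f1a14 : Term := (2, 0, 21, [(44,0), (237,0), (133,0), (135,0), (241,0), (239,0), (134,0), (242,0), (284,0), (240,0), (285,0), (238,0)])

def f1a15 : Term := (3, 0, 22, [(0,0), (127,0), (11,0), (24,0), (205,0), (153,0), (17,0), (212,0), (284,0), (179,0), (287,0), (137,0)])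

def f1a16 : Term := (4, 0, 24, [(9,0), (250,0), (67,0), (135,0), (157,0), (203,0), (88,0), (77,0), (213,0), (58,0), (236,0), (27,0)])

def f1a17 : Term := (2, 0, 26, [(10,0), (202,0), (207,0), (184,0), (133,0), (94,0), (268,0), (13,0), (255,0), (42,0), (138,0), (32,0)])

def f1a18 : Term := (3, 0, 27, [(20,0), (152,0), (70,0), (283,0), (22,0), (240,0), (163,0), (69,0), (132,0), (149,0), (28,0), (142,0)])

def f1a19 : Term := (2, 1, 22, [(1,0), (26,0), (41,0), (86,0), (76,6), (209,0), (23,3), (242,3), (256,6), (253,6), (245,3), (177,0)])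

def f1a20 : Term := (4, 19, 22, [(2,0), (151,1), (45,0), (43,6), (241,1), (92,1), (68,0), (61,10), (286,0), (30,0), (281,10), (208,1)])

def f1a21 : Term := (4, 9, 22, [(3,0), (176,3), (50,0), (89,0), (131,0), (252,0), (46,10), (33,0), (182,1), (204,6), (165,0), (238,0)])

def f1a22 : Term := (4, 5, 22, [(4,0), (8,0), (54,0), (96,0), (85,9), (158,0), (18,5), (282,5), (239,9), (269,9), (251,5), (140,0)])

def f1a23 : Term := (4, 11, 22, [(6,0), (130,5), (56,0), (97,0), (201,0), (258,0), (71,14), (21,0), (134,2), (180,9), (148,0), (243,0)])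

def f1a24 : Term := (4, 1, 24, [(15,0), (136,3), (148,6), (52,6), (211,0), (72,6), (134,3), (97,3), (280,0), (130,0), (104,0), (55,0)])

def f1a25 : Term := (4, 19, 24, [(21,1), (201,10), (4,0), (150,0), (96,1), (239,1), (12,10), (181,0), (235,6), (140,0), (258,1), (71,0)])

def f1a26 : Term := (1, 9, 24, [(44,0), (54,0), (84,6), (18,1), (254,0), (129,0), (5,0), (143,10), (282,0), (155,0), (269,3), (91,0)])

def f1a27 : Term := (2, 5, 24, [(45,0), (49,0), (176,0), (241,0), (51,9), (206,0), (89,5), (182,5), (92,9), (165,9), (128,5), (30,0)])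

def f1a28 : Term := (4, 20, 24, [(46,0), (252,2), (177,0), (237,9), (256,2), (86,2), (210,0), (16,14), (215,0), (1,0), (131,14), (33,2)])

def f1a29 : Term := (4, 11, 24, [(47,0), (253,5), (178,0), (242,0), (151,0), (281,0), (208,14), (2,0), (23,2), (60,9), (41,0), (102,0)])

def f1a30 : Term := (2, 1, 26, [(21,0), (71,6), (237,3), (215,3), (50,6), (204,0), (286,6), (43,0), (143,3), (5,0), (178,0), (60,0)])

def f1a31 : Term := (3, 19, 26, [(3,1), (238,1), (54,10), (269,0), (148,0), (130,6), (102,0), (47,0), (206,10), (51,1), (209,1), (76,0)])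

def f1a32 : Term := (2, 9, 26, [(49,0), (128,0), (26,0), (245,10), (16,1), (210,0), (280,6), (52,0), (61,0), (68,3), (239,0), (96,0)])

def f1a33 : Term := (2, 1, 27, [(2,6), (208,0), (90,3), (285,3), (84,0), (155,6), (235,0), (150,6), (33,0), (46,3), (56,0), (180,0)])

def f1a34 : Term := (1, 19, 27, [(44,1), (91,1), (176,0), (165,10), (41,6), (253,0), (243,0), (6,0), (158,1), (85,10), (72,0), (211,1)])

def f1a35 : Term := (4, 9, 27, [(8,0), (251,0), (136,10), (104,0), (87,0), (74,1), (256,0), (86,6), (181,3), (12,0), (92,0), (241,0)])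

def f1a36 : Term := (1, 1, 23, [(8,0), (201,0), (4,0), (2,6), (13,0), (54,0), (207,0), (22,3), (131,0), (0,0), (44,3), (135,3), (203,0), (5,0), (11,0), (90,3), (50,6), (157,6), (77,6), (61,0), (6,0), (127,0), (20,0), (150,6), (252,6), (88,0), (213,3), (235,0), (60,0), (16,6), (142,3), (143,3), (240,3), (204,0), (28,0), (42,0), (89,0), (178,0), (68,0), (268,0), (258,6), (184,6), (206,0), (241,3), (255,6), (140,3), (251,6), (208,0), (91,3), (182,6), (92,3), (51,6), (243,3), (269,0), (285,3), (210,0), (179,0), (137,3), (152,6), (287,6)])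

def f1a37 : Term := (3, 19, 23, [(9,0), (127,6), (50,1), (44,1), (18,0), (70,0), (90,1), (67,0), (142,0), (10,1), (1,10), (13,10), (129,6), (51,1), (16,0), (176,0), (148,0), (254,0), (242,1), (77,0), (52,1), (136,0), (8,6), (6,0), (28,0), (23,1), (268,0), (243,0), (76,0), (133,1), (205,10), (206,10), (58,10), (130,6), (153,1), (46,0), (24,1), (209,1), (88,1), (282,1), (287,0), (285,1), (132,6), (60,10), (33,0), (204,10), (27,0), (91,1), (177,0), (284,1), (178,0), (149,0), (280,10), (283,1), (165,10), (94,1), (210,1), (202,10), (251,0), (104,0)])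

def f1a38 : Term := (3, 5, 23, [(11,0), (3,0), (127,0), (84,0), (32,0), (0,0), (10,0), (70,0), (12,9), (41,0), (87,0), (211,0), (97,0), (43,5), (26,0), (2,0), (237,0), (134,9), (280,5), (102,5), (131,0), (1,0), (22,0), (180,0), (181,0), (52,5), (72,9), (56,9), (5,9), (201,0), (149,9), (286,5), (283,9), (215,9), (132,0), (13,5), (157,0), (143,0), (47,5), (138,9), (238,5), (202,5), (213,5), (88,9), (268,5), (287,9), (179,0), (155,0), (74,0), (203,9), (77,0), (135,5), (252,9), (137,5), (208,5), (258,9), (245,9), (253,0), (240,0), (177,5)])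

def f1a39 : Term := (4, 20, 23, [(12,0), (92,2), (128,0), (85,0), (26,9), (28,2), (153,2), (71,0), (163,2), (42,0), (88,0), (207,9), (24,2), (130,0), (27,0), (72,2), (238,0), (284,2), (84,14), (4,14), (127,9), (56,2), (23,0), (176,9), (69,2), (155,0), (184,0), (165,0), (102,2), (202,0), (286,2), (148,14), (21,0), (3,0), (43,2), (58,0), (151,9), (47,2), (140,0), (245,0), (241,14), (205,14), (22,14), (282,2), (67,14), (49,0), (181,2), (158,2), (77,2), (281,0), (18,2), (240,0), (287,0), (142,14), (211,14), (10,0), (9,0), (255,2), (242,2), (180,14)])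

def f1a40 : Term := (4, 1, 25, [(1,0), (27,0), (127,0), (165,0), (281,0), (4,0), (26,0), (130,0), (74,6), (163,0), (11,0), (86,0), (89,0), (91,3), (132,0), (102,0), (8,0), (17,6), (134,3), (44,3), (203,0), (28,0), (61,0), (202,0), (211,0), (96,3), (157,6), (151,6), (182,6), (129,0), (184,6), (135,3), (149,6), (287,6), (87,0), (97,3), (206,0), (207,0), (94,3), (51,6), (142,3), (140,3), (239,3), (72,6), (133,3), (254,6), (68,0), (69,0), (177,0), (256,6), (212,0), (213,3), (10,6), (47,3), (9,3), (148,6), (251,6), (179,0), (176,0), (245,3)])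

def f1a41 : Term := (2, 19, 25, [(2,0), (152,1), (136,0), (184,0), (236,6), (50,1), (151,1), (140,0), (240,1), (182,0), (16,0), (43,6), (24,1), (177,0), (143,0), (256,1), (9,0), (134,1), (12,10), (1,10), (129,6), (153,1), (77,0), (128,6), (96,1), (180,0), (254,0), (250,0), (284,1), (138,0), (285,1), (13,10), (5,0), (104,0), (22,1), (181,0), (132,6), (90,1), (179,0), (149,0), (205,10), (204,10), (56,10), (239,1), (11,10), (32,0), (88,1), (89,1), (208,1), (286,0), (97,1), (268,0), (49,0), (86,10), (20,10), (4,0), (27,0), (210,1), (207,1), (281,10)])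

def f1a42 : Term := (1, 2, 22, [(9,0), (70,0), (50,1), (135,1), (180,6), (56,10), (42,0), (255,3), (213,10), (204,3), (283,6), (27,0)])

def f1a43 : Term := (4, 21, 22, [(10,0), (90,0), (67,3), (43,0), (142,3), (28,0), (88,3), (77,6), (286,6), (58,6), (285,3), (202,6)])

def f1a44 : Term := (4, 22, 22, [(12,0), (28,2), (128,0), (201,9), (182,11), (89,2), (94,3), (133,21), (258,6), (49,6), (142,21), (181,2)])

def f1a45 : Term := (2, 23, 22, [(13,0), (30,5), (129,0), (206,0), (70,6), (283,0), (91,21), (44,3), (51,11), (254,20), (45,3), (268,0)])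

def f1a46 : Term := (1, 26, 22, [(16,0), (10,1), (136,0), (131,6), (134,13), (97,1), (69,5), (163,19), (252,9), (104,9), (202,19), (210,1)])

def f1a47 : Term := (3, 27, 22, [(18,0), (155,8), (138,0), (132,6), (237,1), (215,1), (177,14), (1,10), (149,2), (32,9), (84,10), (282,1)])

def f1a48 : Term := (4, 28, 22, [(20,0), (250,0), (87,0), (135,3), (32,0), (138,3), (68,10), (61,0), (213,6), (74,1), (236,0), (152,6)])

def f1a49 : Term := (1, 29, 22, [(22,0), (15,3), (151,0), (211,0), (42,9), (255,0), (47,19), (102,5), (72,13), (281,20), (55,5), (240,0)])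

def f1a50 : Term := (1, 21, 24, [(20,6), (237,3), (11,6), (150,6), (32,0), (138,3), (17,6), (212,3), (235,0), (179,3), (215,0), (152,0)])

def f1a51 : Term := (2, 2, 26, [(1,10), (177,6), (250,3), (236,0), (22,10), (240,1), (280,3), (52,1), (212,6), (17,0), (28,0), (142,0)])

def f1a52 : Term := (4, 21, 26, [(0,0), (137,3), (70,6), (283,3), (148,6), (130,0), (163,6), (69,3), (242,3), (23,0), (203,6), (157,0)])

def f1a53 : Term := (2, 25, 26, [(21,1), (71,3), (151,10), (281,6), (11,0), (179,0), (213,0), (135,0), (132,10), (149,1), (28,1), (142,10)])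

def f1a54 : Term := (3, 2, 27, [(15,6), (55,10), (127,0), (287,3), (133,1), (94,10), (256,1), (86,3), (77,0), (88,6), (138,0), (32,0)])

def f1a55 : Term := (3, 21, 27, [(9,3), (27,0), (207,3), (184,6), (41,0), (253,6), (268,3), (13,6), (97,0), (134,3), (153,0), (205,6)])

def f1a56 : Term := (2, 31, 22, [(44,0), (136,10), (148,1), (18,3), (205,1), (153,10), (68,3), (61,3), (282,10), (130,3), (104,6), (91,0)])

def f1a57 : Term := (2, 32, 26, [(49,3), (128,6), (90,1), (285,6), (11,3), (179,6), (282,1), (18,0), (33,3), (46,0), (203,3), (157,1)])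

def f1b0 : Term := (1, 0, 0, [(0,0), (8,0), (1,0), (3,0), (20,0), (10,0), (2,0), (21,0), (44,0), (15,0), (49,0), (9,0)])

def f1b1 : Term := (3, 0, 1, [(4,0), (41,0), (11,0), (22,0), (84,0), (50,0), (16,0), (87,0), (133,0), (67,0), (148,0), (45,0)])

def f1b2 : Term := (3, 0, 2, [(5,0), (42,0), (12,0), (23,0), (85,0), (51,0), (17,0), (88,0), (134,0), (68,0), (149,0), (46,0)])

def f1b3 : Term := (1, 0, 3, [(6,0), (43,0), (13,0), (24,0), (86,0), (52,0), (18,0), (89,0), (135,0), (69,0), (150,0), (47,0)])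

def f1b4 : Term := (4, 0, 4, [(26,0), (127,0), (54,0), (90,0), (201,0), (151,0), (70,0), (207,0), (237,0), (176,0), (250,0), (136,0)])

def f1b5 : Term := (1, 0, 5, [(27,0), (128,0), (55,0), (91,0), (202,0), (152,0), (71,0), (208,0), (238,0), (177,0), (251,0), (137,0)])

def f1b6 : Term := (3, 0, 7, [(30,0), (130,0), (58,0), (94,0), (204,0), (155,0), (74,0), (210,0), (240,0), (179,0), (253,0), (140,0)])

def f1b7 : Term := (4, 0, 8, [(32,0), (131,0), (60,0), (96,0), (205,0), (157,0), (76,0), (211,0), (241,0), (180,0), (254,0), (142,0)])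

def f1b8 : Term := (3, 0, 9, [(33,0), (132,0), (61,0), (97,0), (206,0), (158,0), (77,0), (212,0), (242,0), (181,0), (255,0), (143,0)])

def f1b9 : Term := (4, 0, 11, [(104,0), (236,0), (165,0), (215,0), (281,0), (258,0), (184,0), (283,0), (285,0), (269,0), (287,0), (245,0)])

def f1b10 : Term := (1, 0, 14, [(2,0), (70,0), (16,0), (18,0), (76,0), (72,0), (17,0), (77,0), (182,0), (74,0), (184,0), (71,0)])

def f1b11 : Term := (3, 0, 15, [(3,0), (90,0), (22,0), (24,0), (96,0), (92,0), (23,0), (97,0), (213,0), (94,0), (215,0), (91,0)])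

def f1b12 : Term := (1, 0, 17, [(10,0), (151,0), (50,0), (52,0), (157,0), (153,0), (51,0), (158,0), (256,0), (155,0), (258,0), (152,0)])

def f1b13 : Term := (1, 0, 19, [(20,0), (201,0), (84,0), (86,0), (205,0), (203,0), (85,0), (206,0), (280,0), (204,0), (281,0), (202,0)])

def f1b14 : Term := (1, 0, 20, [(21,0), (207,0), (87,0), (89,0), (211,0), (209,0), (88,0), (212,0), (282,0), (210,0), (283,0), (208,0)])

def f1b15 : Term := (3, 0, 21, [(44,0), (237,0), (133,0), (135,0), (241,0), (239,0), (134,0), (242,0), (284,0), (240,0), (285,0), (238,0)])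

def f1b16 : Term := (1, 0, 22, [(0,0), (127,0), (11,0), (24,0), (205,0), (153,0), (17,0), (212,0), (284,0), (179,0), (287,0), (137,0)])

def f1b17 : Term := (2, 0, 26, [(10,0), (202,0), (207,0), (184,0), (133,0), (94,0), (268,0), (13,0), (255,0), (42,0), (138,0), (32,0)])

def f1b18 : Term := (2, 0, 27, [(20,0), (152,0), (70,0), (283,0), (22,0), (240,0), (163,0), (69,0), (132,0), (149,0), (28,0), (142,0)])

def f1b19 : Term := (4, 0, 23, [(1,0), (90,0), (41,0), (20,0), (6,0), (26,0), (151,0), (16,0), (60,0), (8,0), (21,0), (89,0), (92,0), (42,0), (4,0), (70,0), (133,0), (241,0), (206,0), (33,0), (43,0), (54,0), (3,0), (69,0), (178,0), (51,0), (182,0), (163,0), (32,0), (84,0), (254,0), (255,0), (210,0), (94,0), (129,0), (12,0), (52,0), (138,0), (46,0), (243,0), (285,0), (281,0), (97,0), (211,0), (181,0), (253,0), (177,0), (152,0), (71,0), (280,0), (72,0), (134,0), (286,0), (245,0), (283,0), (155,0), (140,0), (251,0), (238,0), (269,0)])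

def f1b20 : Term := (1, 0, 25, [(0,0), (128,0), (54,0), (104,0), (215,0), (41,0), (127,0), (58,0), (204,0), (102,0), (4,0), (24,0), (52,0), (71,0), (61,0), (235,0), (1,0), (85,0), (88,0), (21,0), (92,0), (129,0), (33,0), (91,0), (157,0), (76,0), (241,0), (237,0), (280,0), (56,0), (281,0), (89,0), (68,0), (269,0), (50,0), (77,0), (97,0), (151,0), (74,0), (134,0), (254,0), (253,0), (209,0), (203,0), (87,0), (180,0), (46,0), (47,0), (137,0), (284,0), (158,0), (182,0), (44,0), (150,0), (49,0), (67,0), (177,0), (140,0), (136,0), (287,0)])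

def f1b21 : Term := (4, 19, 22, [(2,0), (151,1), (45,0), (43,6), (241,1), (92,1), (68,0), (61,10), (286,0), (30,0), (281,10), (208,1)])

def f1b22 : Term := (3, 9, 22, [(3,0), (176,3), (50,0), (89,0), (131,0), (252,0), (46,10), (33,0), (182,1), (204,6), (165,0), (238,0)])

def f1b23 : Term := (4, 5, 22, [(4,0), (8,0), (54,0), (96,0), (85,9), (158,0), (18,5), (282,5), (239,9), (269,9), (251,5), (140,0)])

def f1b24 : Term := (2, 20, 22, [(5,0), (129,2), (55,0), (90,9), (280,2), (52,2), (74,0), (87,14), (285,0), (15,0), (254,14), (143,2)])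

def f1b25 : Term := (2, 11, 22, [(6,0), (130,5), (56,0), (97,0), (201,0), (258,0), (71,14), (21,0), (134,2), (180,9), (148,0), (243,0)])

def f1b26 : Term := (4, 1, 24, [(15,0), (136,3), (148,6), (52,6), (211,0), (72,6), (134,3), (97,3), (280,0), (130,0), (104,0), (55,0)])

def f1b27 : Term := (3, 9, 24, [(44,0), (54,0), (84,6), (18,1), (254,0), (129,0), (5,0), (143,10), (282,0), (155,0), (269,3), (91,0)])

def f1b28 : Term := (2, 20, 24, [(46,0), (252,2), (177,0), (237,9), (256,2), (86,2), (210,0), (16,14), (215,0), (1,0), (131,14), (33,2)])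

def f1b29 : Term := (2, 11, 24, [(47,0), (253,5), (178,0), (242,0), (151,0), (281,0), (208,14), (2,0), (23,2), (60,9), (41,0), (102,0)])

def f1b30 : Term := (3, 19, 26, [(3,1), (238,1), (54,10), (269,0), (148,0), (130,6), (102,0), (47,0), (206,10), (51,1), (209,1), (76,0)])

def f1b31 : Term := (2, 9, 26, [(49,0), (128,0), (26,0), (245,10), (16,1), (210,0), (280,6), (52,0), (61,0), (68,3), (239,0), (96,0)])

def f1b32 : Term := (2, 19, 27, [(44,1), (91,1), (176,0), (165,10), (41,6), (253,0), (243,0), (6,0), (158,1), (85,10), (72,0), (211,1)])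

def f1b33 : Term := (1, 9, 27, [(8,0), (251,0), (136,10), (104,0), (87,0), (74,1), (256,0), (86,6), (181,3), (12,0), (92,0), (241,0)])

def f1b34 : Term := (1, 1, 23, [(8,0), (201,0), (4,0), (2,6), (13,0), (54,0), (207,0), (22,3), (131,0), (0,0), (44,3), (135,3), (203,0), (5,0), (11,0), (90,3), (50,6), (157,6), (77,6), (61,0), (6,0), (127,0), (20,0), (150,6), (252,6), (88,0), (213,3), (235,0), (60,0), (16,6), (142,3), (143,3), (240,3), (204,0), (28,0), (42,0), (89,0), (178,0), (68,0), (268,0), (258,6), (184,6), (206,0), (241,3), (255,6), (140,3), (251,6), (208,0), (91,3), (182,6), (92,3), (51,6), (243,3), (269,0), (285,3), (210,0), (179,0), (137,3), (152,6), (287,6)])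

def f1b35 : Term := (3, 19, 23, [(9,0), (127,6), (50,1), (44,1), (18,0), (70,0), (90,1), (67,0), (142,0), (10,1), (1,10), (13,10), (129,6), (51,1), (16,0), (176,0), (148,0), (254,0), (242,1), (77,0), (52,1), (136,0), (8,6), (6,0), (28,0), (23,1), (268,0), (243,0), (76,0), (133,1), (205,10), (206,10), (58,10), (130,6), (153,1), (46,0), (24,1), (209,1), (88,1), (282,1), (287,0), (285,1), (132,6), (60,10), (33,0), (204,10), (27,0), (91,1), (177,0), (284,1), (178,0), (149,0), (280,10), (283,1), (165,10), (94,1), (210,1), (202,10), (251,0), (104,0)])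

def f1b36 : Term := (2, 5, 23, [(11,0), (3,0), (127,0), (84,0), (32,0), (0,0), (10,0), (70,0), (12,9), (41,0), (87,0), (211,0), (97,0), (43,5), (26,0), (2,0), (237,0), (134,9), (280,5), (102,5), (131,0), (1,0), (22,0), (180,0), (181,0), (52,5), (72,9), (56,9), (5,9), (201,0), (149,9), (286,5), (283,9), (215,9), (132,0), (13,5), (157,0), (143,0), (47,5), (138,9), (238,5), (202,5), (213,5), (88,9), (268,5), (287,9), (179,0), (155,0), (74,0), (203,9), (77,0), (135,5), (252,9), (137,5), (208,5), (258,9), (245,9), (253,0), (240,0), (177,5)])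

def f1b37 : Term := (1, 20, 23, [(12,0), (92,2), (128,0), (85,0), (26,9), (28,2), (153,2), (71,0), (163,2), (42,0), (88,0), (207,9), (24,2), (130,0), (27,0), (72,2), (238,0), (284,2), (84,14), (4,14), (127,9), (56,2), (23,0), (176,9), (69,2), (155,0), (184,0), (165,0), (102,2), (202,0), (286,2), (148,14), (21,0), (3,0), (43,2), (58,0), (151,9), (47,2), (140,0), (245,0), (241,14), (205,14), (22,14), (282,2), (67,14), (49,0), (181,2), (158,2), (77,2), (281,0), (18,2), (240,0), (287,0), (142,14), (211,14), (10,0), (9,0), (255,2), (242,2), (180,14)])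

def f1b38 : Term := (2, 1, 25, [(1,0), (27,0), (127,0), (165,0), (281,0), (4,0), (26,0), (130,0), (74,6), (163,0), (11,0), (86,0), (89,0), (91,3), (132,0), (102,0), (8,0), (17,6), (134,3), (44,3), (203,0), (28,0), (61,0), (202,0), (211,0), (96,3), (157,6), (151,6), (182,6), (129,0), (184,6), (135,3), (149,6), (287,6), (87,0), (97,3), (206,0), (207,0), (94,3), (51,6), (142,3), (140,3), (239,3), (72,6), (133,3), (254,6), (68,0), (69,0), (177,0), (256,6), (212,0), (213,3), (10,6), (47,3), (9,3), (148,6), (251,6), (179,0), (176,0), (245,3)])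

def f1b39 : Term := (4, 19, 25, [(2,0), (152,1), (136,0), (184,0), (236,6), (50,1), (151,1), (140,0), (240,1), (182,0), (16,0), (43,6), (24,1), (177,0), (143,0), (256,1), (9,0), (134,1), (12,10), (1,10), (129,6), (153,1), (77,0), (128,6), (96,1), (180,0), (254,0), (250,0), (284,1), (138,0), (285,1), (13,10), (5,0), (104,0), (22,1), (181,0), (132,6), (90,1), (179,0), (149,0), (205,10), (204,10), (56,10), (239,1), (11,10), (32,0), (88,1), (89,1), (208,1), (286,0), (97,1), (268,0), (49,0), (86,10), (20,10), (4,0), (27,0), (210,1), (207,1), (281,10)])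

def f1b40 : Term := (4, 21, 22, [(10,0), (90,0), (67,3), (43,0), (142,3), (28,0), (88,3), (77,6), (286,6), (58,6), (285,3), (202,6)])

def f1b41 : Term := (1, 22, 22, [(12,0), (28,2), (128,0), (201,9), (182,11), (89,2), (94,3), (133,21), (258,6), (49,6), (142,21), (181,2)])

def f1b42 : Term := (1, 23, 22, [(13,0), (30,5), (129,0), (206,0), (70,6), (283,0), (91,21), (44,3), (51,11), (254,20), (45,3), (268,0)])

def f1b43 : Term := (3, 24, 22, [(3,3), (207,1), (67,0), (6,6), (157,10), (203,1), (149,6), (132,10), (243,3), (58,0), (184,3), (238,6)])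

def f1b44 : Term := (3, 25, 22, [(9,10), (250,1), (133,0), (69,0), (76,3), (209,1), (85,6), (158,10), (163,0), (94,0), (236,10), (27,1)])

def f1b45 : Term := (4, 26, 22, [(16,0), (10,1), (136,0), (131,6), (134,13), (97,1), (69,5), (163,19), (252,9), (104,9), (202,19), (210,1)])

def f1b46 : Term := (4, 28, 22, [(20,0), (250,0), (87,0), (135,3), (32,0), (138,3), (68,10), (61,0), (213,6), (74,1), (236,0), (152,6)])

def f1b47 : Term := (4, 29, 22, [(22,0), (15,3), (151,0), (211,0), (42,9), (255,0), (47,19), (102,5), (72,13), (281,20), (55,5), (240,0)])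

def f1b48 : Term := (1, 2, 24, [(0,0), (207,6), (84,3), (24,10), (60,10), (178,6), (149,3), (132,0), (284,1), (155,1), (184,0), (137,0)])

def f1b49 : Term := (2, 21, 24, [(20,6), (237,3), (11,6), (150,6), (32,0), (138,3), (17,6), (212,3), (235,0), (179,3), (215,0), (152,0)])

def f1b50 : Term := (4, 22, 24, [(68,0), (138,7), (251,6), (151,20), (282,2), (18,11), (240,3), (22,21), (281,0), (8,0), (32,14), (61,2)])

def f1b51 : Term := (4, 30, 26, [(44,3), (91,0), (151,0), (281,3), (87,6), (74,6), (243,0), (6,0), (181,3), (12,0), (252,6), (131,0)])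

def f1b52 : Term := (1, 2, 26, [(1,10), (177,6), (250,3), (236,0), (22,10), (240,1), (280,3), (52,1), (212,6), (17,0), (28,0), (142,0)])

def f1b53 : Term := (3, 21, 26, [(0,0), (137,3), (70,6), (283,3), (148,6), (130,0), (163,6), (69,3), (242,3), (23,0), (203,6), (157,0)])

def f1b54 : Term := (1, 22, 26, [(88,0), (77,11), (239,7), (96,21), (152,6), (20,0), (287,6), (127,9), (45,21), (30,0), (69,2), (163,2)])

def f1b55 : Term := (4, 2, 27, [(15,6), (55,10), (127,0), (287,3), (133,1), (94,10), (256,1), (86,3), (77,0), (88,6), (138,0), (32,0)])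

def f1b56 : Term := (1, 21, 27, [(9,3), (27,0), (207,3), (184,6), (41,0), (253,6), (268,3), (13,6), (97,0), (134,3), (153,0), (205,6)])

def f1b57 : Term := (4, 31, 22, [(44,0), (136,10), (148,1), (18,3), (205,1), (153,10), (68,3), (61,3), (282,10), (130,3), (104,6), (91,0)])

def fx1 : Fixd := ⟨3, [(89,3), (97,3), (134,3), (135,2), (138,1), (142,4), (150,4), (178,1), (180,4), (182,3), (201,1), (203,1), (205,4), (209,1), (211,4), (213,2), (215,4), (235,4), (236,1), (237,4), (239,1), (241,4), (250,1), (252,1), (254,4), (258,1)], [(74,0), (56,24), (180,13), (179,1), (255,2), (149,5), (140,0), (242,15), (134,19), (87,0), (258,4), (158,4), (51,8), (77,2), (17,5), (11,10), (54,24), (4,3), (26,21), (269,4), (181,4), (68,8), (245,2), (143,2), (46,5), (201,24)], [(134,17), (203,0), (157,16), (51,20), (268,5), (69,0), (46,17), (286,16), (150,6), (97,17), (16,6), (182,16), (18,6), (284,12), (135,3), (206,9), (204,5), (33,9), (30,5), (50,6), (256,16), (52,6), (45,3), (243,12), (47,3), (210,5)], [f1a0,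 f1a1, f1a2, f1a3, f1a4, f1a5, f1a6, f1a7, f1a8, f1a9, f1a10, f1a11, f1a12, f1a13, f1a14, f1a15, f1a16, f1a17, f1a18, f1a19, f1a20, f1a21, f1a22, f1a23, f1a24, f1a25, f1a26, f1a27, f1a28, f1a29, f1a30, f1a31, f1a32, f1a33, f1a34, f1a35, f1a36, f1a37, f1a38, f1a39, f1a40, f1a41, f1a42, f1a43, f1a44, f1a45, f1a46, f1a47, f1a48, f1a49, f1a50, f1a51, f1a52, f1a53, f1a54, f1a55, f1a56, f1a57], [f1b0, f1b1, f1b2, f1b3, f1b4, f1b5, f1b6, f1b7, f1b8, f1b9, f1b10, f1b11, f1b12, f1b13, f1b14, f1b15, f1b16, f1b17, f1b18, f1b19, f1b20, f1b21, f1b22, f1b23, f1b24, f1b25, f1b26, f1b27, f1b28, f1b29, f1b30, f1b31, f1b32, f1b33, f1b34, f1b35, f1b36, f1b37, f1b38, f1b39, f1b40, f1b41, f1b42, f1b43, f1b44, f1b45, f1b46, f1b47, f1b48, f1b49, f1b50, f1b51, f1b52, f1b53, f1b54, f1b55, f1b56, f1b57]⟩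

def fixds : List Fixd := [fx0, fx1]

def gT0 : Term := (4, 0, 0, [(0,0), (8,0), (1,0), (3,0), (20,0), (10,0), (2,0), (21,0), (44,0), (15,0), (49,0), (9,0)])

def gT1 : Term := (4, 0, 1, [(4,0), (41,0), (11,0), (22,0), (84,0), (50,0), (16,0), (87,0), (133,0), (67,0), (148,0), (45,0)])

def gT2 : Term := (4, 0, 2, [(5,0), (42,0), (12,0), (23,0), (85,0), (51,0), (17,0), (88,0), (134,0), (68,0), (149,0), (46,0)])

def gT3 : Term := (4, 0, 3, [(6,0), (43,0), (13,0), (24,0), (86,0), (52,0), (18,0), (89,0), (135,0), (69,0), (150,0), (47,0)])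

def gT4 : Term := (4, 0, 4, [(26,0), (127,0), (54,0), (90,0), (201,0), (151,0), (70,0), (207,0), (237,0), (176,0), (250,0), (136,0)])

def gT5 : Term := (4, 0, 5, [(27,0), (128,0), (55,0), (91,0), (202,0), (152,0), (71,0), (208,0), (238,0), (177,0), (251,0), (137,0)])

def gT6 : Term := (4, 0, 6, [(28,0), (129,0), (56,0), (92,0), (203,0), (153,0), (72,0), (209,0), (239,0), (178,0), (252,0), (138,0)])

def gT7 : Term := (4, 0, 7, [(30,0), (130,0), (58,0), (94,0), (204,0), (155,0), (74,0), (210,0), (240,0), (179,0), (253,0), (140,0)])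

def gT8 : Term := (4, 0, 8, [(32,0), (131,0), (60,0), (96,0), (205,0), (157,0), (76,0), (211,0), (241,0), (180,0), (254,0), (142,0)])

def gT9 : Term := (4, 0, 9, [(33,0), (132,0), (61,0), (97,0), (206,0), (158,0), (77,0), (212,0), (242,0), (181,0), (255,0), (143,0)])

def gT10 : Term := (4, 0, 10, [(102,0), (235,0), (163,0), (213,0), (280,0), (256,0), (182,0), (282,0), (284,0), (268,0), (286,0), (243,0)])

def gT11 : Term := (4, 0, 11, [(104,0), (236,0), (165,0), (215,0), (281,0), (258,0), (184,0), (283,0), (285,0), (269,0), (287,0), (245,0)])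

def gT12 : Term := (3, 0, 22, [(0,0), (127,0), (11,0), (24,0), (205,0), (153,0), (17,0), (212,0), (284,0), (179,0), (287,0), (137,0)])

def gT13 : Term := (2, 0, 26, [(10,0), (202,0), (207,0), (184,0), (133,0), (94,0), (268,0), (13,0), (255,0), (42,0), (138,0), (32,0)])

def gT14 : Term := (2, 0, 27, [(20,0), (152,0), (70,0), (283,0), (22,0), (240,0), (163,0), (69,0), (132,0), (149,0), (28,0), (142,0)])

def gT15 : Term := (4, 0, 23, [(1,0), (90,0), (41,0), (20,0), (6,0), (26,0), (151,0), (16,0), (60,0), (8,0), (21,0), (89,0), (92,0), (42,0), (4,0), (70,0), (133,0), (241,0), (206,0), (33,0), (43,0), (54,0), (3,0), (69,0), (178,0), (51,0), (182,0), (163,0), (32,0), (84,0), (254,0), (255,0), (210,0), (94,0), (129,0), (12,0), (52,0), (138,0), (46,0), (243,0), (285,0), (281,0), (97,0), (211,0), (181,0), (253,0), (177,0), (152,0), (71,0), (280,0), (72,0), (134,0), (286,0), (245,0), (283,0), (155,0), (140,0), (251,0), (238,0), (269,0)])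

def gT16 : Term := (3, 0, 25, [(0,0), (128,0), (54,0), (104,0), (215,0), (41,0), (127,0), (58,0), (204,0), (102,0), (4,0), (24,0), (52,0), (71,0), (61,0), (235,0), (1,0), (85,0), (88,0), (21,0), (92,0), (129,0), (33,0), (91,0), (157,0), (76,0), (241,0), (237,0), (280,0), (56,0), (281,0), (89,0), (68,0), (269,0), (50,0), (77,0), (97,0), (151,0), (74,0), (134,0), (254,0), (253,0), (209,0), (203,0), (87,0), (180,0), (46,0), (47,0), (137,0), (284,0), (158,0), (182,0), (44,0), (150,0), (49,0), (67,0), (177,0), (140,0), (136,0), (287,0)])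

def gT17 : Term := (3, 1, 22, [(1,0), (26,0), (41,0), (86,0), (76,6), (209,0), (23,3), (242,3), (256,6), (253,6), (245,3), (177,0)])

def gT18 : Term := (1, 9, 22, [(3,0), (176,3), (50,0), (89,0), (131,0), (252,0), (46,10), (33,0), (182,1), (204,6), (165,0), (238,0)])

def gT19 : Term := (3, 5, 22, [(4,0), (8,0), (54,0), (96,0), (85,9), (158,0), (18,5), (282,5), (239,9), (269,9), (251,5), (140,0)])

def gT20 : Term := (1, 11, 22, [(6,0), (130,5), (56,0), (97,0), (201,0), (258,0), (71,14), (21,0), (134,2), (180,9), (148,0), (243,0)])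

def gT21 : Term := (2, 1, 24, [(15,0), (136,3), (148,6), (52,6), (211,0), (72,6), (134,3), (97,3), (280,0), (130,0), (104,0), (55,0)])

def gT22 : Term := (3, 19, 24, [(21,1), (201,10), (4,0), (150,0), (96,1), (239,1), (12,10), (181,0), (235,6), (140,0), (258,1), (71,0)])

def gT23 : Term := (2, 9, 24, [(44,0), (54,0), (84,6), (18,1), (254,0), (129,0), (5,0), (143,10), (282,0), (155,0), (269,3), (91,0)])

def gT24 : Term := (2, 5, 24, [(45,0), (49,0), (176,0), (241,0), (51,9), (206,0), (89,5), (182,5), (92,9), (165,9), (128,5), (30,0)])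

def gT25 : Term := (3, 20, 24, [(46,0), (252,2), (177,0), (237,9), (256,2), (86,2), (210,0), (16,14), (215,0), (1,0), (131,14), (33,2)])

def gT26 : Term := (2, 11, 24, [(47,0), (253,5), (178,0), (242,0), (151,0), (281,0), (208,14), (2,0), (23,2), (60,9), (41,0), (102,0)])

def gT27 : Term := (4, 1, 26, [(21,0), (71,6), (237,3), (215,3), (50,6), (204,0), (286,6), (43,0), (143,3), (5,0), (178,0), (60,0)])

def gT28 : Term := (1, 19, 26, [(3,1), (238,1), (54,10), (269,0), (148,0), (130,6), (102,0), (47,0), (206,10), (51,1), (209,1), (76,0)])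

def gT29 : Term := (3, 9, 26, [(49,0), (128,0), (26,0), (245,10), (16,1), (210,0), (280,6), (52,0), (61,0), (68,3), (239,0), (96,0)])

def gT30 : Term := (4, 1, 27, [(2,6), (208,0), (90,3), (285,3), (84,0), (155,6), (235,0), (150,6), (33,0), (46,3), (56,0), (180,0)])

def gT31 : Term := (1, 19, 27, [(44,1), (91,1), (176,0), (165,10), (41,6), (253,0), (243,0), (6,0), (158,1), (85,10), (72,0), (211,1)])

def gT32 : Term := (3, 9, 27, [(8,0), (251,0), (136,10), (104,0), (87,0), (74,1), (256,0), (86,6), (181,3), (12,0), (92,0), (241,0)])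

def gT33 : Term := (4, 1, 23, [(8,0), (201,0), (4,0), (2,6), (13,0), (54,0), (207,0), (22,3), (131,0), (0,0), (44,3), (135,3), (203,0), (5,0), (11,0), (90,3), (50,6), (157,6), (77,6), (61,0), (6,0), (127,0), (20,0), (150,6), (252,6), (88,0), (213,3), (235,0), (60,0), (16,6), (142,3), (143,3), (240,3), (204,0), (28,0), (42,0), (89,0), (178,0), (68,0), (268,0), (258,6), (184,6), (206,0), (241,3), (255,6), (140,3), (251,6), (208,0), (91,3), (182,6), (92,3), (51,6), (243,3), (269,0), (285,3), (210,0), (179,0), (137,3), (152,6), (287,6)])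

def gT34 : Term := (1, 19, 23, [(9,0), (127,6), (50,1), (44,1), (18,0), (70,0), (90,1), (67,0), (142,0), (10,1), (1,10), (13,10), (129,6), (51,1), (16,0), (176,0), (148,0), (254,0), (242,1), (77,0), (52,1), (136,0), (8,6), (6,0), (28,0), (23,1), (268,0), (243,0), (76,0), (133,1), (205,10), (206,10), (58,10), (130,6), (153,1), (46,0), (24,1), (209,1), (88,1), (282,1), (287,0), (285,1), (132,6), (60,10), (33,0), (204,10), (27,0), (91,1), (177,0), (284,1), (178,0), (149,0), (280,10), (283,1), (165,10), (94,1), (210,1), (202,10), (251,0), (104,0)])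

def gT35 : Term := (4, 5, 23, [(11,0), (3,0), (127,0), (84,0), (32,0), (0,0), (10,0), (70,0), (12,9), (41,0), (87,0), (211,0), (97,0), (43,5), (26,0), (2,0), (237,0), (134,9), (280,5), (102,5), (131,0), (1,0), (22,0), (180,0), (181,0), (52,5), (72,9), (56,9), (5,9), (201,0), (149,9), (286,5), (283,9), (215,9), (132,0), (13,5), (157,0), (143,0), (47,5), (138,9), (238,5), (202,5), (213,5), (88,9), (268,5), (287,9), (179,0), (155,0), (74,0), (203,9), (77,0), (135,5), (252,9), (137,5), (208,5), (258,9), (245,9), (253,0), (240,0), (177,5)])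

def gT36 : Term := (1, 20, 23, [(12,0), (92,2), (128,0), (85,0), (26,9), (28,2), (153,2), (71,0), (163,2), (42,0), (88,0), (207,9), (24,2), (130,0), (27,0), (72,2), (238,0), (284,2), (84,14), (4,14), (127,9), (56,2), (23,0), (176,9), (69,2), (155,0), (184,0), (165,0), (102,2), (202,0), (286,2), (148,14), (21,0), (3,0), (43,2), (58,0), (151,9), (47,2), (140,0), (245,0), (241,14), (205,14), (22,14), (282,2), (67,14), (49,0), (181,2), (158,2), (77,2), (281,0), (18,2), (240,0), (287,0), (142,14), (211,14), (10,0), (9,0), (255,2), (242,2), (180,14)])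

def gT37 : Term := (1, 1, 25, [(1,0), (27,0), (127,0), (165,0), (281,0), (4,0), (26,0), (130,0), (74,6), (163,0), (11,0), (86,0), (89,0), (91,3), (132,0), (102,0), (8,0), (17,6), (134,3), (44,3), (203,0), (28,0), (61,0), (202,0), (211,0), (96,3), (157,6), (151,6), (182,6), (129,0), (184,6), (135,3), (149,6), (287,6), (87,0), (97,3), (206,0), (207,0), (94,3), (51,6), (142,3), (140,3), (239,3), (72,6), (133,3), (254,6), (68,0), (69,0), (177,0), (256,6), (212,0), (213,3), (10,6), (47,3), (9,3), (148,6), (251,6), (179,0), (176,0), (245,3)])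

def gT38 : Term := (2, 19, 25, [(2,0), (152,1), (136,0), (184,0), (236,6), (50,1), (151,1), (140,0), (240,1), (182,0), (16,0), (43,6), (24,1), (177,0), (143,0), (256,1), (9,0), (134,1), (12,10), (1,10), (129,6), (153,1), (77,0), (128,6), (96,1), (180,0), (254,0), (250,0), (284,1), (138,0), (285,1), (13,10), (5,0), (104,0), (22,1), (181,0), (132,6), (90,1), (179,0), (149,0), (205,10), (204,10), (56,10), (239,1), (11,10), (32,0), (88,1), (89,1), (208,1), (286,0), (97,1), (268,0), (49,0), (86,10), (20,10), (4,0), (27,0), (210,1), (207,1), (281,10)])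

def gT39 : Term := (2, 2, 22, [(9,0), (70,0), (50,1), (135,1), (180,6), (56,10), (42,0), (255,3), (213,10), (204,3), (283,6), (27,0)])

def gT40 : Term := (2, 21, 22, [(10,0), (90,0), (67,3), (43,0), (142,3), (28,0), (88,3), (77,6), (286,6), (58,6), (285,3), (202,6)])

def gT41 : Term := (4, 23, 22, [(13,0), (30,5), (129,0), (206,0), (70,6), (283,0), (91,21), (44,3), (51,11), (254,20), (45,3), (268,0)])

def gT42 : Term := (4, 25, 22, [(9,10), (250,1), (133,0), (69,0), (76,3), (209,1), (85,6), (158,10), (163,0), (94,0), (236,10), (27,1)])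

def gT43 : Term := (1, 28, 22, [(20,0), (250,0), (87,0), (135,3), (32,0), (138,3), (68,10), (61,0), (213,6), (74,1), (236,0), (152,6)])

def gT44 : Term := (4, 29, 22, [(22,0), (15,3), (151,0), (211,0), (42,9), (255,0), (47,19), (102,5), (72,13), (281,20), (55,5), (240,0)])

def gT45 : Term := (2, 2, 24, [(0,0), (207,6), (84,3), (24,10), (60,10), (178,6), (149,3), (132,0), (284,1), (155,1), (184,0), (137,0)])

def gT46 : Term := (3, 21, 24, [(20,6), (237,3), (11,6), (150,6), (32,0), (138,3), (17,6), (212,3), (235,0), (179,3), (215,0), (152,0)])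

def gTL0 : List Term := [gT0, gT1, gT2, gT3, gT4, gT5, gT6, gT7, gT8, gT9, gT10, gT11, gT12, gT13, gT14, gT15, gT16, gT17, gT18, gT19, gT20, gT21, gT22, gT23, gT24, gT25, gT26, gT27, gT28, gT29, gT30, gT31, gT32, gT33, gT34, gT35, gT36, gT37, gT38, gT39, gT40, gT41, gT42, gT43, gT44, gT45, gT46]

def gT : List Term := gTL0

def fT0 : Term := (1, 0, 1, [(4,0), (41,0), (11,0), (22,0), (84,0), (50,0), (16,0), (87,0), (133,0), (67,0), (148,0), (45,0)])

def fT1 : Term := (3, 0, 2, [(5,0), (42,0), (12,0), (23,0), (85,0), (51,0), (17,0), (88,0), (134,0), (68,0), (149,0), (46,0)])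

def fT2 : Term := (4, 0, 3, [(6,0), (43,0), (13,0), (24,0), (86,0), (52,0), (18,0), (89,0), (135,0), (69,0), (150,0), (47,0)])

def fT3 : Term := (2, 0, 4, [(26,0), (127,0), (54,0), (90,0), (201,0), (151,0), (70,0), (207,0), (237,0), (176,0), (250,0), (136,0)])

def fT4 : Term := (3, 0, 5, [(27,0), (128,0), (55,0), (91,0), (202,0), (152,0), (71,0), (208,0), (238,0), (177,0), (251,0), (137,0)])

def fT5 : Term := (3, 0, 6, [(28,0), (129,0), (56,0), (92,0), (203,0), (153,0), (72,0), (209,0), (239,0), (178,0), (252,0), (138,0)])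

def fT6 : Term := (1, 0, 7, [(30,0), (130,0), (58,0), (94,0), (204,0), (155,0), (74,0), (210,0), (240,0), (179,0), (253,0), (140,0)])

def fT7 : Term := (4, 0, 8, [(32,0), (131,0), (60,0), (96,0), (205,0), (157,0), (76,0), (211,0), (241,0), (180,0), (254,0), (142,0)])

def fT8 : Term := (1, 0, 10, [(102,0), (235,0), (163,0), (213,0), (280,0), (256,0), (182,0), (282,0), (284,0), (268,0), (286,0), (243,0)])

def fT9 : Term := (2, 0, 11, [(104,0), (236,0), (165,0), (215,0), (281,0), (258,0), (184,0), (283,0), (285,0), (269,0), (287,0), (245,0)])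

def fT10 : Term := (1, 0, 12, [(0,0), (26,0), (4,0), (6,0), (32,0), (28,0), (5,0), (33,0), (102,0), (30,0), (104,0), (27,0)])

def fT11 : Term := (4, 0, 13, [(1,0), (54,0), (11,0), (13,0), (60,0), (56,0), (12,0), (61,0), (163,0), (58,0), (165,0), (55,0)])

def fT12 : Term := (3, 0, 14, [(2,0), (70,0), (16,0), (18,0), (76,0), (72,0), (17,0), (77,0), (182,0), (74,0), (184,0), (71,0)])

def fT13 : Term := (1, 0, 15, [(3,0), (90,0), (22,0), (24,0), (96,0), (92,0), (23,0), (97,0), (213,0), (94,0), (215,0), (91,0)])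

def fT14 : Term := (4, 0, 16, [(9,0), (136,0), (45,0), (47,0), (142,0), (138,0), (46,0), (143,0), (243,0), (140,0), (245,0), (137,0)])

def fT15 : Term := (1, 0, 17, [(10,0), (151,0), (50,0), (52,0), (157,0), (153,0), (51,0), (158,0), (256,0), (155,0), (258,0), (152,0)])

def fT16 : Term := (4, 0, 18, [(15,0), (176,0), (67,0), (69,0), (180,0), (178,0), (68,0), (181,0), (268,0), (179,0), (269,0), (177,0)])

def fT17 : Term := (1, 0, 19, [(20,0), (201,0), (84,0), (86,0), (205,0), (203,0), (85,0), (206,0), (280,0), (204,0), (281,0), (202,0)])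

def fT18 : Term := (3, 0, 20, [(21,0), (207,0), (87,0), (89,0), (211,0), (209,0), (88,0), (212,0), (282,0), (210,0), (283,0), (208,0)])

def fT19 : Term := (1, 0, 21, [(44,0), (237,0), (133,0), (135,0), (241,0), (239,0), (134,0), (242,0), (284,0), (240,0), (285,0), (238,0)])

def fT20 : Term := (2, 0, 22, [(0,0), (127,0), (11,0), (24,0), (205,0), (153,0), (17,0), (212,0), (284,0), (179,0), (287,0), (137,0)])

def fT21 : Term := (2, 0, 26, [(10,0), (202,0), (207,0), (184,0), (133,0), (94,0), (268,0), (13,0), (255,0), (42,0), (138,0), (32,0)])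

def fT22 : Term := (1, 0, 27, [(20,0), (152,0), (70,0), (283,0), (22,0), (240,0), (163,0), (69,0), (132,0), (149,0), (28,0), (142,0)])

def fT23 : Term := (2, 0, 25, [(0,0), (128,0), (54,0), (104,0), (215,0), (41,0), (127,0), (58,0), (204,0), (102,0), (4,0), (24,0), (52,0), (71,0), (61,0), (235,0), (1,0), (85,0), (88,0), (21,0), (92,0), (129,0), (33,0), (91,0), (157,0), (76,0), (241,0), (237,0), (280,0), (56,0), (281,0), (89,0), (68,0), (269,0), (50,0), (77,0), (97,0), (151,0), (74,0), (134,0), (254,0), (253,0), (209,0), (203,0), (87,0), (180,0), (46,0), (47,0), (137,0), (284,0), (158,0), (182,0), (44,0), (150,0), (49,0), (67,0), (177,0), (140,0), (136,0), (287,0)])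

def fT24 : Term := (4, 19, 22, [(2,0), (151,1), (45,0), (43,6), (241,1), (92,1), (68,0), (61,10), (286,0), (30,0), (281,10), (208,1)])

def fT25 : Term := (2, 9, 22, [(3,0), (176,3), (50,0), (89,0), (131,0), (252,0), (46,10), (33,0), (182,1), (204,6), (165,0), (238,0)])

def fT26 : Term := (2, 5, 22, [(4,0), (8,0), (54,0), (96,0), (85,9), (158,0), (18,5), (282,5), (239,9), (269,9), (251,5), (140,0)])

def fT27 : Term := (4, 20, 22, [(5,0), (129,2), (55,0), (90,9), (280,2), (52,2), (74,0), (87,14), (285,0), (15,0), (254,14), (143,2)])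

def fT28 : Term := (4, 1, 24, [(15,0), (136,3), (148,6), (52,6), (211,0), (72,6), (134,3), (97,3), (280,0), (130,0), (104,0), (55,0)])

def fT29 : Term := (3, 9, 24, [(44,0), (54,0), (84,6), (18,1), (254,0), (129,0), (5,0), (143,10), (282,0), (155,0), (269,3), (91,0)])

def fT30 : Term := (4, 5, 24, [(45,0), (49,0), (176,0), (241,0), (51,9), (206,0), (89,5), (182,5), (92,9), (165,9), (128,5), (30,0)])

def fT31 : Term := (2, 20, 24, [(46,0), (252,2), (177,0), (237,9), (256,2), (86,2), (210,0), (16,14), (215,0), (1,0), (131,14), (33,2)])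

def fT32 : Term := (3, 11, 24, [(47,0), (253,5), (178,0), (242,0), (151,0), (281,0), (208,14), (2,0), (23,2), (60,9), (41,0), (102,0)])

def fT33 : Term := (4, 19, 26, [(3,1), (238,1), (54,10), (269,0), (148,0), (130,6), (102,0), (47,0), (206,10), (51,1), (209,1), (76,0)])

def fT34 : Term := (2, 9, 26, [(49,0), (128,0), (26,0), (245,10), (16,1), (210,0), (280,6), (52,0), (61,0), (68,3), (239,0), (96,0)])

def fT35 : Term := (1, 1, 27, [(2,6), (208,0), (90,3), (285,3), (84,0), (155,6), (235,0), (150,6), (33,0), (46,3), (56,0), (180,0)])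

def fT36 : Term := (2, 19, 27, [(44,1), (91,1), (176,0), (165,10), (41,6), (253,0), (243,0), (6,0), (158,1), (85,10), (72,0), (211,1)])

def fT37 : Term := (1, 9, 27, [(8,0), (251,0), (136,10), (104,0), (87,0), (74,1), (256,0), (86,6), (181,3), (12,0), (92,0), (241,0)])

def fT38 : Term := (4, 1, 23, [(8,0), (201,0), (4,0), (2,6), (13,0), (54,0), (207,0), (22,3), (131,0), (0,0), (44,3), (135,3), (203,0), (5,0), (11,0), (90,3), (50,6), (157,6), (77,6), (61,0), (6,0), (127,0), (20,0), (150,6), (252,6), (88,0), (213,3), (235,0), (60,0), (16,6), (142,3), (143,3), (240,3), (204,0), (28,0), (42,0), (89,0), (178,0), (68,0), (268,0), (258,6), (184,6), (206,0), (241,3), (255,6), (140,3), (251,6), (208,0), (91,3), (182,6), (92,3), (51,6), (243,3), (269,0), (285,3), (210,0), (179,0), (137,3), (152,6), (287,6)])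

def fT39 : Term := (1, 19, 23, [(9,0), (127,6), (50,1), (44,1), (18,0), (70,0), (90,1), (67,0), (142,0), (10,1), (1,10), (13,10), (129,6), (51,1), (16,0), (176,0), (148,0), (254,0), (242,1), (77,0), (52,1), (136,0), (8,6), (6,0), (28,0), (23,1), (268,0), (243,0), (76,0), (133,1), (205,10), (206,10), (58,10), (130,6), (153,1), (46,0), (24,1), (209,1), (88,1), (282,1), (287,0), (285,1), (132,6), (60,10), (33,0), (204,10), (27,0), (91,1), (177,0), (284,1), (178,0), (149,0), (280,10), (283,1), (165,10), (94,1), (210,1), (202,10), (251,0), (104,0)])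

def fT40 : Term := (1, 5, 23, [(11,0), (3,0), (127,0), (84,0), (32,0), (0,0), (10,0), (70,0), (12,9), (41,0), (87,0), (211,0), (97,0), (43,5), (26,0), (2,0), (237,0), (134,9), (280,5), (102,5), (131,0), (1,0), (22,0), (180,0), (181,0), (52,5), (72,9), (56,9), (5,9), (201,0), (149,9), (286,5), (283,9), (215,9), (132,0), (13,5), (157,0), (143,0), (47,5), (138,9), (238,5), (202,5), (213,5), (88,9), (268,5), (287,9), (179,0), (155,0), (74,0), (203,9), (77,0), (135,5), (252,9), (137,5), (208,5), (258,9), (245,9), (253,0), (240,0), (177,5)])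

def fT41 : Term := (2, 20, 23, [(12,0), (92,2), (128,0), (85,0), (26,9), (28,2), (153,2), (71,0), (163,2), (42,0), (88,0), (207,9), (24,2), (130,0), (27,0), (72,2), (238,0), (284,2), (84,14), (4,14), (127,9), (56,2), (23,0), (176,9), (69,2), (155,0), (184,0), (165,0), (102,2), (202,0), (286,2), (148,14), (21,0), (3,0), (43,2), (58,0), (151,9), (47,2), (140,0), (245,0), (241,14), (205,14), (22,14), (282,2), (67,14), (49,0), (181,2), (158,2), (77,2), (281,0), (18,2), (240,0), (287,0), (142,14), (211,14), (10,0), (9,0), (255,2), (242,2), (180,14)])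

def fT42 : Term := (4, 1, 25, [(1,0), (27,0), (127,0), (165,0), (281,0), (4,0), (26,0), (130,0), (74,6), (163,0), (11,0), (86,0), (89,0), (91,3), (132,0), (102,0), (8,0), (17,6), (134,3), (44,3), (203,0), (28,0), (61,0), (202,0), (211,0), (96,3), (157,6), (151,6), (182,6), (129,0), (184,6), (135,3), (149,6), (287,6), (87,0), (97,3), (206,0), (207,0), (94,3), (51,6), (142,3), (140,3), (239,3), (72,6), (133,3), (254,6), (68,0), (69,0), (177,0), (256,6), (212,0), (213,3), (10,6), (47,3), (9,3), (148,6), (251,6), (179,0), (176,0), (245,3)])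

def fT43 : Term := (1, 19, 25, [(2,0), (152,1), (136,0), (184,0), (236,6), (50,1), (151,1), (140,0), (240,1), (182,0), (16,0), (43,6), (24,1), (177,0), (143,0), (256,1), (9,0), (134,1), (12,10), (1,10), (129,6), (153,1), (77,0), (128,6), (96,1), (180,0), (254,0), (250,0), (284,1), (138,0), (285,1), (13,10), (5,0), (104,0), (22,1), (181,0), (132,6), (90,1), (179,0), (149,0), (205,10), (204,10), (56,10), (239,1), (11,10), (32,0), (88,1), (89,1), (208,1), (286,0), (97,1), (268,0), (49,0), (86,10), (20,10), (4,0), (27,0), (210,1), (207,1), (281,10)])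

def fT44 : Term := (4, 2, 22, [(9,0), (70,0), (50,1), (135,1), (180,6), (56,10), (42,0), (255,3), (213,10), (204,3), (283,6), (27,0)])

def fT45 : Term := (4, 21, 22, [(10,0), (90,0), (67,3), (43,0), (142,3), (28,0), (88,3), (77,6), (286,6), (58,6), (285,3), (202,6)])

def fT46 : Term := (1, 22, 22, [(12,0), (28,2), (128,0), (201,9), (182,11), (89,2), (94,3), (133,21), (258,6), (49,6), (142,21), (181,2)])

def fT47 : Term := (3, 23, 22, [(13,0), (30,5), (129,0), (206,0), (70,6), (283,0), (91,21), (44,3), (51,11), (254,20), (45,3), (268,0)])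

def fT48 : Term := (2, 24, 22, [(3,3), (207,1), (67,0), (6,6), (157,10), (203,1), (149,6), (132,10), (243,3), (58,0), (184,3), (238,6)])

def fT49 : Term := (2, 25, 22, [(9,10), (250,1), (133,0), (69,0), (76,3), (209,1), (85,6), (158,10), (163,0), (94,0), (236,10), (27,1)])

def fT50 : Term := (2, 26, 22, [(16,0), (10,1), (136,0), (131,6), (134,13), (97,1), (69,5), (163,19), (252,9), (104,9), (202,19), (210,1)])

def fT51 : Term := (4, 27, 22, [(18,0), (155,8), (138,0), (132,6), (237,1), (215,1), (177,14), (1,10), (149,2), (32,9), (84,10), (282,1)])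

def fT52 : Term := (2, 28, 22, [(20,0), (250,0), (87,0), (135,3), (32,0), (138,3), (68,10), (61,0), (213,6), (74,1), (236,0), (152,6)])

def fT53 : Term := (1, 29, 22, [(22,0), (15,3), (151,0), (211,0), (42,9), (255,0), (47,19), (102,5), (72,13), (281,20), (55,5), (240,0)])

def fT54 : Term := (3, 2, 24, [(0,0), (207,6), (84,3), (24,10), (60,10), (178,6), (149,3), (132,0), (284,1), (155,1), (184,0), (137,0)])

def fT55 : Term := (1, 21, 24, [(20,6), (237,3), (11,6), (150,6), (32,0), (138,3), (17,6), (212,3), (235,0), (179,3), (215,0), (152,0)])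

def fT56 : Term := (3, 30, 26, [(44,3), (91,0), (151,0), (281,3), (87,6), (74,6), (243,0), (6,0), (181,3), (12,0), (252,6), (131,0)])

def fT57 : Term := (3, 2, 26, [(1,10), (177,6), (250,3), (236,0), (22,10), (240,1), (280,3), (52,1), (212,6), (17,0), (28,0), (142,0)])

def fT58 : Term := (1, 21, 26, [(0,0), (137,3), (70,6), (283,3), (148,6), (130,0), (163,6), (69,3), (242,3), (23,0), (203,6), (157,0)])

def fT59 : Term := (4, 22, 26, [(88,0), (77,11), (239,7), (96,21), (152,6), (20,0), (287,6), (127,9), (45,21), (30,0), (69,2), (163,2)])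

def fT60 : Term := (4, 2, 27, [(15,6), (55,10), (127,0), (287,3), (133,1), (94,10), (256,1), (86,3), (77,0), (88,6), (138,0), (32,0)])

def fT61 : Term := (2, 21, 27, [(9,3), (27,0), (207,3), (184,6), (41,0), (253,6), (268,3), (13,6), (97,0), (134,3), (153,0), (205,6)])

def fT62 : Term := (4, 31, 22, [(44,0), (136,10), (148,1), (18,3), (205,1), (153,10), (68,3), (61,3), (282,10), (130,3), (104,6), (91,0)])

def fT63 : Term := (3, 32, 26, [(49,3), (128,6), (90,1), (285,6), (11,3), (179,6), (282,1), (18,0), (33,3), (46,0), (203,3), (157,1)])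

def fT64 : Term := (3, 0, 28, [(89,0), (97,0), (134,0), (138,0), (142,0), (157,0), (178,0), (180,0), (182,0), (201,0), (205,0), (209,0), (211,0), (236,0), (239,0), (241,0), (250,0), (252,0), (254,0), (258,0)])

def fT65 : Term := (3, 1, 28, [(135,3), (206,0), (51,6), (178,0), (180,0), (211,0), (252,6), (254,6), (213,3), (70,6), (76,6), (239,3), (241,3), (104,0), (153,6), (157,6), (136,3), (138,3), (142,3), (283,0)])

def fT66 : Term := (2, 19, 28, [(13,10), (132,6), (149,0), (209,1), (211,1), (96,1), (28,0), (32,0), (268,0), (237,1), (241,1), (56,10), (60,10), (258,1), (252,0), (254,0), (201,10), (203,10), (205,10), (215,1)])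

def fT67 : Term := (3, 5, 28, [(211,0), (213,5), (135,5), (143,0), (46,9), (51,9), (181,0), (68,9), (72,9), (20,0), (85,9), (212,0), (88,9), (128,5), (242,0), (134,9), (49,0), (255,0), (149,9), (152,5)])

def fT68 : Term := (2, 20, 28, [(207,9), (22,14), (240,0), (47,2), (243,2), (256,2), (69,2), (268,2), (184,0), (203,2), (280,2), (89,2), (282,2), (131,14), (135,2), (284,2), (252,2), (150,2), (286,2), (157,14)])

def fT69 : Term := (2, 1, 29, [(135,3), (206,0), (51,6), (52,6), (178,0), (180,0), (47,3), (252,6), (254,6), (213,3), (70,6), (72,6), (76,6), (239,3), (241,3), (280,0), (281,0), (102,0), (104,0), (151,6), (153,6), (157,6), (136,3), (138,3), (142,3), (283,0)])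

def fT70 : Term := (1, 19, 29, [(13,10), (132,6), (149,0), (150,0), (209,1), (211,1), (86,10), (28,0), (32,0), (268,0), (237,1), (239,1), (241,1), (56,10), (60,10), (235,6), (236,6), (256,1), (258,1), (250,0), (252,0), (254,0), (201,10), (203,10), (205,10), (215,1)])

def fTL0 : List Term := [fT0, fT1, fT2, fT3, fT4, fT5, fT6, fT7, fT8, fT9, fT10, fT11, fT12, fT13, fT14, fT15, fT16, fT17, fT18, fT19, fT20, fT21, fT22, fT23, fT24, fT25, fT26, fT27, fT28, fT29, fT30, fT31, fT32, fT33, fT34, fT35, fT36, fT37, fT38, fT39, fT40, fT41, fT42, fT43, fT44, fT45, fT46, fT47, fT48, fT49]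

def fTL1 : List Term := [fT50, fT51, fT52, fT53, fT54, fT55, fT56, fT57, fT58, fT59, fT60, fT61, fT62, fT63, fT64, fT65, fT66, fT67, fT68, fT69, fT70]

def fT : List Term := fTL0 ++ fTL1

def wEA : List (List (ℕ × ℕ)) := [[(1,0)], [(8,0)], [(8,6)], [(21,6)], [(20,6)], [(1,3)], [(44,10)], [(8,1)], [(3,10)], [(20,3)], [(3,3)], [(21,0)], [(20,0)], [(1,10)], [(2,10)], [(3,0)], [(49,6)], [(2,6)], [(10,10)], [(15,0)], [(21,1)], [(49,0)], [(44,3)], [(2,0)], [(9,10)], [(9,6)], [(10,0)], [(49,10)], [(44,6)], [(15,1)], [(9,3)], [(9,0)], [(10,1)], [(15,3)], [(9,1)]]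

def wEB : List (List (ℕ × ℕ)) := [[(4,0)], [(26,0)], [(26,9)], [(33,9)], [(32,9)], [(4,5)], [(102,14)], [(26,2)], [(6,14)], [(32,5)], [(6,5)], [(33,0)], [(32,0)], [(4,14)], [(5,14)], [(6,0)], [(104,9)], [(5,9)], [(28,14)], [(30,0)], [(33,2)], [(104,0)], [(102,5)], [(5,0)], [(27,14)], [(27,9)], [(28,0)], [(104,14)], [(102,9)], [(30,2)], [(27,5)], [(27,0)], [(28,2)], [(30,5)], [(27,2)]]

def wEAB : List (List (ℕ × ℕ)) := [[(11,0), (54,0), (54,0), (61,0), (60,0), (11,0), (163,0), (54,0), (13,0), (60,0), (13,0), (61,0), (60,0), (11,0), (12,0), (13,0), (165,0), (12,0), (56,0), (58,0), (61,0), (165,0), (163,0), (12,0), (55,0), (55,0), (56,0), (165,0), (163,0), (58,0), (55,0), (55,0), (56,0), (58,0), (55,0)], [(41,0), (127,0), (127,0), (132,0), (131,0), (41,0), (235,0), (127,0), (43,0), (131,0), (43,0), (132,0), (131,0), (41,0), (42,0), (43,0), (236,0), (42,0), (129,0), (130,0), (132,0), (236,0), (235,0), (42,0), (128,0), (128,0), (129,0), (236,0), (235,0), (130,0), (128,0), (128,0), (129,0), (130,0),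 (128,0)], [(41,6), (127,6), (127,6), (132,6), (131,6), (41,6), (235,6), (127,6), (43,6), (131,6), (43,6), (132,6), (131,6), (41,6), (42,6), (43,6), (236,6), (42,6), (129,6), (130,6), (132,6), (236,6), (235,6), (42,6), (128,6), (128,6), (129,6), (236,6), (235,6), (130,6), (128,6), (128,6), (129,6), (130,6), (128,6)], [(87,6), (207,6), (207,6), (212,6), (211,6), (87,6), (282,6), (207,6), (89,6), (211,6), (89,6), (212,6), (211,6), (87,6), (88,6), (89,6), (283,6), (88,6), (209,6), (210,6), (212,6), (283,6), (282,6), (88,6), (208,6), (208,6), (209,6), (283,6), (282,6), (210,6), (208,6), (208,6), (209,6), (210,6), (208,6)], [(84,6), (201,6), (201,6), (206,6), (205,6), (84,6), (280,6), (201,6), (86,6), (205,6), (86,6), (206,6), (205,6), (84,6), (85,6), (86,6), (281,6), (85,6), (203,6), (204,6), (206,6), (281,6), (280,6), (85,6), (202,6), (202,6), (203,6), (281,6), (280,6), (204,6), (202,6), (202,6), (203,6), (204,6), (202,6)], [(11,3), (54,3), (54,3), (61,3), (60,3), (11,3), (163,3), (54,3), (13,3),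 (60,3), (13,3), (61,3), (60,3), (11,3), (12,3), (13,3), (165,3), (12,3), (56,3), (58,3), (61,3), (165,3), (163,3), (12,3), (55,3), (55,3), (56,3), (165,3), (163,3), (58,3), (55,3), (55,3), (56,3), (58,3), (55,3)], [(133,10), (237,10), (237,10), (242,10), (241,10), (133,10), (284,10), (237,10), (135,10), (241,10), (135,10), (242,10), (241,10), (133,10), (134,10), (135,10), (285,10), (134,10), (239,10), (240,10), (242,10), (285,10), (284,10), (134,10), (238,10), (238,10), (239,10), (285,10), (284,10), (240,10), (238,10), (238,10), (239,10), (240,10), (238,10)], [(41,1), (127,1), (127,1), (132,1), (131,1), (41,1), (235,1), (127,1), (43,1), (131,1), (43,1), (132,1), (131,1), (41,1), (42,1), (43,1), (236,1), (42,1), (129,1), (130,1), (132,1), (236,1), (235,1), (42,1), (128,1), (128,1), (129,1), (236,1), (235,1), (130,1), (128,1), (128,1), (129,1), (130,1), (128,1)], [(22,10), (90,10), (90,10), (97,10), (96,10), (22,10), (213,10), (90,10), (24,10), (96,10), (24,10), (97,10), (96,10), (22,10), (23,10),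 (24,10), (215,10), (23,10), (92,10), (94,10), (97,10), (215,10), (213,10), (23,10), (91,10), (91,10), (92,10), (215,10), (213,10), (94,10), (91,10), (91,10), (92,10), (94,10), (91,10)], [(84,3), (201,3), (201,3), (206,3), (205,3), (84,3), (280,3), (201,3), (86,3), (205,3), (86,3), (206,3), (205,3), (84,3), (85,3), (86,3), (281,3), (85,3), (203,3), (204,3), (206,3), (281,3), (280,3), (85,3), (202,3), (202,3), (203,3), (281,3), (280,3), (204,3), (202,3), (202,3), (203,3), (204,3), (202,3)], [(22,3), (90,3), (90,3), (97,3), (96,3), (22,3), (213,3), (90,3), (24,3), (96,3), (24,3), (97,3), (96,3), (22,3), (23,3), (24,3), (215,3), (23,3), (92,3), (94,3), (97,3), (215,3), (213,3), (23,3), (91,3), (91,3), (92,3), (215,3), (213,3), (94,3), (91,3), (91,3), (92,3), (94,3), (91,3)], [(87,0), (207,0), (207,0), (212,0), (211,0), (87,0), (282,0), (207,0), (89,0), (211,0), (89,0), (212,0), (211,0), (87,0), (88,0), (89,0), (283,0), (88,0), (209,0), (210,0), (212,0), (283,0), (282,0), (88,0), (208,0), (208,0),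 (209,0), (283,0), (282,0), (210,0), (208,0), (208,0), (209,0), (210,0), (208,0)], [(84,0), (201,0), (201,0), (206,0), (205,0), (84,0), (280,0), (201,0), (86,0), (205,0), (86,0), (206,0), (205,0), (84,0), (85,0), (86,0), (281,0), (85,0), (203,0), (204,0), (206,0), (281,0), (280,0), (85,0), (202,0), (202,0), (203,0), (281,0), (280,0), (204,0), (202,0), (202,0), (203,0), (204,0), (202,0)], [(11,10), (54,10), (54,10), (61,10), (60,10), (11,10), (163,10), (54,10), (13,10), (60,10), (13,10), (61,10), (60,10), (11,10), (12,10), (13,10), (165,10), (12,10), (56,10), (58,10), (61,10), (165,10), (163,10), (12,10), (55,10), (55,10), (56,10), (165,10), (163,10), (58,10), (55,10), (55,10), (56,10), (58,10), (55,10)], [(16,10), (70,10), (70,10), (77,10), (76,10), (16,10), (182,10), (70,10), (18,10), (76,10), (18,10), (77,10), (76,10), (16,10), (17,10), (18,10), (184,10), (17,10), (72,10), (74,10), (77,10), (184,10), (182,10), (17,10), (71,10), (71,10), (72,10), (184,10), (182,10), (74,10), (71,10), (71,10),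 (72,10), (74,10), (71,10)], [(22,0), (90,0), (90,0), (97,0), (96,0), (22,0), (213,0), (90,0), (24,0), (96,0), (24,0), (97,0), (96,0), (22,0), (23,0), (24,0), (215,0), (23,0), (92,0), (94,0), (97,0), (215,0), (213,0), (23,0), (91,0), (91,0), (92,0), (215,0), (213,0), (94,0), (91,0), (91,0), (92,0), (94,0), (91,0)], [(148,6), (250,6), (250,6), (255,6), (254,6), (148,6), (286,6), (250,6), (150,6), (254,6), (150,6), (255,6), (254,6), (148,6), (149,6), (150,6), (287,6), (149,6), (252,6), (253,6), (255,6), (287,6), (286,6), (149,6), (251,6), (251,6), (252,6), (287,6), (286,6), (253,6), (251,6), (251,6), (252,6), (253,6), (251,6)], [(16,6), (70,6), (70,6), (77,6), (76,6), (16,6), (182,6), (70,6), (18,6), (76,6), (18,6), (77,6), (76,6), (16,6), (17,6), (18,6), (184,6), (17,6), (72,6), (74,6), (77,6), (184,6), (182,6), (17,6), (71,6), (71,6), (72,6), (184,6), (182,6), (74,6), (71,6), (71,6), (72,6), (74,6), (71,6)], [(50,10), (151,10), (151,10), (158,10), (157,10), (50,10), (256,10), (151,10), (52,10),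 (157,10), (52,10), (158,10), (157,10), (50,10), (51,10), (52,10), (258,10), (51,10), (153,10), (155,10), (158,10), (258,10), (256,10), (51,10), (152,10), (152,10), (153,10), (258,10), (256,10), (155,10), (152,10), (152,10), (153,10), (155,10), (152,10)], [(67,0), (176,0), (176,0), (181,0), (180,0), (67,0), (268,0), (176,0), (69,0), (180,0), (69,0), (181,0), (180,0), (67,0), (68,0), (69,0), (269,0), (68,0), (178,0), (179,0), (181,0), (269,0), (268,0), (68,0), (177,0), (177,0), (178,0), (269,0), (268,0), (179,0), (177,0), (177,0), (178,0), (179,0), (177,0)], [(87,1), (207,1), (207,1), (212,1), (211,1), (87,1), (282,1), (207,1), (89,1), (211,1), (89,1), (212,1), (211,1), (87,1), (88,1), (89,1), (283,1), (88,1), (209,1), (210,1), (212,1), (283,1), (282,1), (88,1), (208,1), (208,1), (209,1), (283,1), (282,1), (210,1), (208,1), (208,1), (209,1), (210,1), (208,1)], [(148,0), (250,0), (250,0), (255,0), (254,0), (148,0), (286,0), (250,0), (150,0), (254,0), (150,0), (255,0), (254,0), (148,0), (149,0),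 (150,0), (287,0), (149,0), (252,0), (253,0), (255,0), (287,0), (286,0), (149,0), (251,0), (251,0), (252,0), (287,0), (286,0), (253,0), (251,0), (251,0), (252,0), (253,0), (251,0)], [(133,3), (237,3), (237,3), (242,3), (241,3), (133,3), (284,3), (237,3), (135,3), (241,3), (135,3), (242,3), (241,3), (133,3), (134,3), (135,3), (285,3), (134,3), (239,3), (240,3), (242,3), (285,3), (284,3), (134,3), (238,3), (238,3), (239,3), (285,3), (284,3), (240,3), (238,3), (238,3), (239,3), (240,3), (238,3)], [(16,0), (70,0), (70,0), (77,0), (76,0), (16,0), (182,0), (70,0), (18,0), (76,0), (18,0), (77,0), (76,0), (16,0), (17,0), (18,0), (184,0), (17,0), (72,0), (74,0), (77,0), (184,0), (182,0), (17,0), (71,0), (71,0), (72,0), (184,0), (182,0), (74,0), (71,0), (71,0), (72,0), (74,0), (71,0)], [(45,10), (136,10), (136,10), (143,10), (142,10), (45,10), (243,10), (136,10), (47,10), (142,10), (47,10), (143,10), (142,10), (45,10), (46,10), (47,10), (245,10), (46,10), (138,10), (140,10), (143,10), (245,10), (243,10),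 (46,10), (137,10), (137,10), (138,10), (245,10), (243,10), (140,10), (137,10), (137,10), (138,10), (140,10), (137,10)], [(45,6), (136,6), (136,6), (143,6), (142,6), (45,6), (243,6), (136,6), (47,6), (142,6), (47,6), (143,6), (142,6), (45,6), (46,6), (47,6), (245,6), (46,6), (138,6), (140,6), (143,6), (245,6), (243,6), (46,6), (137,6), (137,6), (138,6), (245,6), (243,6), (140,6), (137,6), (137,6), (138,6), (140,6), (137,6)], [(50,0), (151,0), (151,0), (158,0), (157,0), (50,0), (256,0), (151,0), (52,0), (157,0), (52,0), (158,0), (157,0), (50,0), (51,0), (52,0), (258,0), (51,0), (153,0), (155,0), (158,0), (258,0), (256,0), (51,0), (152,0), (152,0), (153,0), (258,0), (256,0), (155,0), (152,0), (152,0), (153,0), (155,0), (152,0)], [(148,10), (250,10), (250,10), (255,10), (254,10), (148,10), (286,10), (250,10), (150,10), (254,10), (150,10), (255,10), (254,10), (148,10), (149,10), (150,10), (287,10), (149,10), (252,10), (253,10), (255,10), (287,10), (286,10), (149,10), (251,10), (251,10), (252,10),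 (287,10), (286,10), (253,10), (251,10), (251,10), (252,10), (253,10), (251,10)], [(133,6), (237,6), (237,6), (242,6), (241,6), (133,6), (284,6), (237,6), (135,6), (241,6), (135,6), (242,6), (241,6), (133,6), (134,6), (135,6), (285,6), (134,6), (239,6), (240,6), (242,6), (285,6), (284,6), (134,6), (238,6), (238,6), (239,6), (285,6), (284,6), (240,6), (238,6), (238,6), (239,6), (240,6), (238,6)], [(67,1), (176,1), (176,1), (181,1), (180,1), (67,1), (268,1), (176,1), (69,1), (180,1), (69,1), (181,1), (180,1), (67,1), (68,1), (69,1), (269,1), (68,1), (178,1), (179,1), (181,1), (269,1), (268,1), (68,1), (177,1), (177,1), (178,1), (269,1), (268,1), (179,1), (177,1), (177,1), (178,1), (179,1), (177,1)], [(45,3), (136,3), (136,3), (143,3), (142,3), (45,3), (243,3), (136,3), (47,3), (142,3), (47,3), (143,3), (142,3), (45,3), (46,3), (47,3), (245,3), (46,3), (138,3), (140,3), (143,3), (245,3), (243,3), (46,3), (137,3), (137,3), (138,3), (245,3), (243,3), (140,3), (137,3), (137,3), (138,3), (140,3), (137,3)],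 [(45,0), (136,0), (136,0), (143,0), (142,0), (45,0), (243,0), (136,0), (47,0), (142,0), (47,0), (143,0), (142,0), (45,0), (46,0), (47,0), (245,0), (46,0), (138,0), (140,0), (143,0), (245,0), (243,0), (46,0), (137,0), (137,0), (138,0), (245,0), (243,0), (140,0), (137,0), (137,0), (138,0), (140,0), (137,0)], [(50,1), (151,1), (151,1), (158,1), (157,1), (50,1), (256,1), (151,1), (52,1), (157,1), (52,1), (158,1), (157,1), (50,1), (51,1), (52,1), (258,1), (51,1), (153,1), (155,1), (158,1), (258,1), (256,1), (51,1), (152,1), (152,1), (153,1), (258,1), (256,1), (155,1), (152,1), (152,1), (153,1), (155,1), (152,1)], [(67,3), (176,3), (176,3), (181,3), (180,3), (67,3), (268,3), (176,3), (69,3), (180,3), (69,3), (181,3), (180,3), (67,3), (68,3), (69,3), (269,3), (68,3), (178,3), (179,3), (181,3), (269,3), (268,3), (68,3), (177,3), (177,3), (178,3), (269,3), (268,3), (179,3), (177,3), (177,3), (178,3), (179,3), (177,3)], [(45,1), (136,1), (136,1), (143,1), (142,1), (45,1), (243,1), (136,1), (47,1), (142,1),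 (47,1), (143,1), (142,1), (45,1), (46,1), (47,1), (245,1), (46,1), (138,1), (140,1), (143,1), (245,1), (243,1), (46,1), (137,1), (137,1), (138,1), (245,1), (243,1), (140,1), (137,1), (137,1), (138,1), (140,1), (137,1)]]

def repsT : BT := (.node (.node (.node (.node (.node (.node (.node (.node (.node (.leaf 0x9876543210) (.leaf 0x9876543021)) (.node (.leaf 0x9876540231) (.leaf 0x9876503241))) (.node (.node (.leaf 0x9857643210) (.leaf 0x9578643210)) (.node (.leaf 0x5879643210) (.leaf 0x9875643201)))) (.node (.node (.node (.leaf 0x9876543102) (.leaf 0x9876540123)) (.node (.leaf 0x9876503124) (.leaf 0x9857643021))) (.node (.node (.leaf 0x9578643021) (.leaf 0x5879643021)) (.node (.leaf 0x9875643120) (.leaf 0x9876541203))))) (.node (.node (.node (.node (.leaf 0x9857640231) (.leaf 0x9578640231)) (.node (.leaf 0x5879640231) (.leaf 0x9875641230))) (.node (.node (.leaf 0x9876513042) (.leaf 0x9876513204)) (.node (.leaf 0x9857603241) (.leaf 0x9578603241)))) (.node (.node (.node (.leaf 0x5879603241) (.leaf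 0x9875613240)) (.node (.leaf 0x9865743210) (.leaf 0x9567843210))) (.node (.node (.leaf 0x5867943210) (.leaf 0x9867543201)) (.node (.leaf 0x9675843210) (.leaf 0x9678543201)))))) (.node (.node (.node (.node (.node (.leaf 0x6859743210) (.leaf 0x6875943210)) (.node (.leaf 0x6879543201) (.leaf 0x9875643012))) (.node (.node (.leaf 0x9875640213) (.leaf 0x9875603214)) (.node (.leaf 0x9856743201) (.leaf 0x9576843201)))) (.node (.node (.node (.leaf 0x5876943201) (.leaf 0x9857643102)) (.node (.leaf 0x9578643102) (.leaf 0x5879643102))) (.node (.node (.leaf 0x9876501423) (.leaf 0x9857640123)) (.node (.leaf 0x9578640123) (.leaf 0x5879640123))))) (.node (.node (.node (.node (.leaf 0x9875641023) (.leaf 0x9876513420)) (.node (.leaf 0x9857603124) (.leaf 0x9578603124))) (.node (.node (.leaf 0x5879603124) (.leaf 0x9875613024)) (.node (.leaf 0x9865743021) (.leaf 0x9567843021)))) (.node (.node (.node (.leaf 0x5867943021) (.leaf 0x9867543120)) (.node (.leaf 0x9675843021) (.leaf 0x9678543120))) (.node (.node (.leaf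 0x6859743021) (.leaf 0x6875943021)) (.node (.leaf 0x6879543120) (.leaf 0x9875603421))))))) (.node (.node (.node (.node (.node (.node (.leaf 0x9856743120) (.leaf 0x9576843120)) (.node (.leaf 0x5876943120) (.leaf 0x9857641203))) (.node (.node (.leaf 0x9578641203) (.leaf 0x5879641203)) (.node (.leaf 0x9865740231) (.leaf 0x9567840231)))) (.node (.node (.node (.leaf 0x5867940231) (.leaf 0x9867541230)) (.node (.leaf 0x9675840231) (.leaf 0x9678541230))) (.node (.node (.leaf 0x6859740231) (.leaf 0x6875940231)) (.node (.leaf 0x6879541230) (.leaf 0x9875642031))))) (.node (.node (.node (.node (.leaf 0x9875604231) (.leaf 0x9856741230)) (.node (.leaf 0x9576841230) (.leaf 0x5876941230))) (.node (.node (.leaf 0x9857613042) (.leaf 0x9578613042)) (.node (.leaf 0x5879613042) (.leaf 0x9857613204)))) (.node (.node (.node (.leaf 0x9578613204) (.leaf 0x5879613204)) (.node (.leaf 0x9865703241) (.leaf 0x9567803241))) (.node (.node (.leaf 0x5867903241) (.leaf 0x9867513240)) (.node (.leaf 0x9675803241) (.leaf 0x9678513240))))))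 (.node (.node (.node (.node (.node (.leaf 0x6859703241) (.leaf 0x6875903241)) (.node (.leaf 0x6879513240) (.leaf 0x9856713240))) (.node (.node (.leaf 0x9576813240) (.leaf 0x5876913240)) (.node (.leaf 0x5697843210) (.leaf 0x9657843201)))) (.node (.node (.node (.leaf 0x6897543210) (.leaf 0x6857943201)) (.node (.leaf 0x9867543012) (.leaf 0x9867540213))) (.node (.node (.leaf 0x9867503214) (.leaf 0x5897643201)) (.node (.leaf 0x9678543012) (.leaf 0x9678540213))))) (.node (.node (.node (.node (.leaf 0x9678503214) (.leaf 0x9758643201)) (.node (.leaf 0x5978643201) (.leaf 0x6879543012))) (.node (.node (.leaf 0x6879540213) (.leaf 0x6879503214)) (.node (.leaf 0x9856743012) (.leaf 0x9576843012)))) (.node (.node (.node (.leaf 0x5876943012) (.leaf 0x9856740213)) (.node (.leaf 0x9576840213) (.leaf 0x5876940213))) (.node (.node (.leaf 0x9856703214) (.leaf 0x9576803214)) (.node (.leaf 0x5876903214) (.leaf 0x9865743102)))))))) (.node (.node (.node (.node (.node (.node (.node (.leaf 0x9567843102) (.leaf 0x5867943102))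 (.node (.leaf 0x9675843102) (.leaf 0x6859743102))) (.node (.node (.leaf 0x6875943102) (.leaf 0x9857601423)) (.node (.leaf 0x9578601423) (.leaf 0x5879601423)))) (.node (.node (.node (.leaf 0x9865740123) (.leaf 0x9567840123)) (.node (.leaf 0x5867940123) (.leaf 0x9867541023))) (.node (.node (.leaf 0x9675840123) (.leaf 0x9678541023)) (.node (.leaf 0x6859740123) (.leaf 0x6875940123))))) (.node (.node (.node (.node (.leaf 0x6879541023) (.leaf 0x9856741023)) (.node (.leaf 0x9576841023) (.leaf 0x5876941023))) (.node (.node (.leaf 0x9857613420) (.leaf 0x9578613420)) (.node (.leaf 0x5879613420) (.leaf 0x9865703124)))) (.node (.node (.node (.leaf 0x9567803124) (.leaf 0x5867903124)) (.node (.leaf 0x9867513024) (.leaf 0x9675803124))) (.node (.node (.leaf 0x9678513024) (.leaf 0x6859703124)) (.node (.leaf 0x6875903124) (.leaf 0x6879513024)))))) (.node (.node (.node (.node (.node (.leaf 0x9856713024) (.leaf 0x9576813024)) (.node (.leaf 0x5876913024) (.leaf 0x5697843021))) (.node (.node (.leaf 0x9657843120)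 (.leaf 0x6897543021)) (.node (.leaf 0x6857943120) (.leaf 0x9867503421)))) (.node (.node (.node (.leaf 0x5897643120) (.leaf 0x9678503421)) (.node (.leaf 0x9758643120) (.leaf 0x5978643120))) (.node (.node (.leaf 0x6879503421) (.leaf 0x9856703421)) (.node (.leaf 0x9576803421) (.leaf 0x5876903421))))) (.node (.node (.node (.node (.leaf 0x9865741203) (.leaf 0x9567841203)) (.node (.leaf 0x5867941203) (.leaf 0x9675841203))) (.node (.node (.leaf 0x6859741203) (.leaf 0x6875941203)) (.node (.leaf 0x5697840231) (.leaf 0x9657841230)))) (.node (.node (.node (.leaf 0x6897540231) (.leaf 0x6857941230)) (.node (.leaf 0x9867542031) (.leaf 0x9867504231))) (.node (.node (.leaf 0x5897641230) (.leaf 0x9678542031)) (.node (.leaf 0x9678504231) (.leaf 0x9758641230))))))) (.node (.node (.node (.node (.node (.node (.leaf 0x5978641230) (.leaf 0x6879542031)) (.node (.leaf 0x6879504231) (.leaf 0x9856742031))) (.node (.node (.leaf 0x9576842031) (.leaf 0x5876942031)) (.node (.leaf 0x9856704231) (.leaf 0x9576804231)))) (.node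 (.node (.node (.leaf 0x5876904231) (.leaf 0x9865713042)) (.node (.leaf 0x9567813042) (.leaf 0x5867913042))) (.node (.node (.leaf 0x9675813042) (.leaf 0x6859713042)) (.node (.leaf 0x6875913042) (.leaf 0x9865713204))))) (.node (.node (.node (.node (.leaf 0x9567813204) (.leaf 0x5867913204)) (.node (.leaf 0x9675813204) (.leaf 0x6859713204))) (.node (.node (.leaf 0x6875913204) (.leaf 0x5697803241)) (.node (.leaf 0x9657813240) (.leaf 0x6897503241)))) (.node (.node (.node (.leaf 0x6857913240) (.leaf 0x5897613240)) (.node (.leaf 0x9758613240) (.leaf 0x5978613240))) (.node (.node (.leaf 0x9657843012) (.leaf 0x9657840213)) (.node (.leaf 0x9657803214) (.leaf 0x6857943012)))))) (.node (.node (.node (.node (.node (.leaf 0x6857940213) (.leaf 0x6857903214)) (.node (.leaf 0x5897643012) (.leaf 0x5897640213))) (.node (.node (.leaf 0x5897603214) (.leaf 0x9758643012)) (.node (.leaf 0x5978643012) (.leaf 0x9758640213)))) (.node (.node (.node (.leaf 0x5978640213) (.leaf 0x9758603214)) (.node (.leaf 0x5978603214)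 (.leaf 0x5697843102))) (.node (.node (.leaf 0x6897543102) (.leaf 0x9865701423)) (.node (.leaf 0x9567801423) (.leaf 0x5867901423))))) (.node (.node (.node (.node (.leaf 0x9675801423) (.leaf 0x6859701423)) (.node (.leaf 0x6875901423) (.leaf 0x5697840123))) (.node (.node (.leaf 0x9657841023) (.leaf 0x6897540123)) (.node (.leaf 0x6857941023) (.leaf 0x5897641023)))) (.node (.node (.node (.leaf 0x9758641023) (.leaf 0x5978641023)) (.node (.leaf 0x9865713420) (.leaf 0x9567813420))) (.node (.node (.leaf 0x5867913420) (.leaf 0x9675813420)) (.node (.leaf 0x6859713420) (.leaf 0x6875913420))))))))) (.node (.node (.node (.node (.node (.node (.node (.node (.leaf 0x5697803124) (.leaf 0x9657813024)) (.node (.leaf 0x6897503124) (.leaf 0x6857913024))) (.node (.node (.leaf 0x5897613024) (.leaf 0x9758613024)) (.node (.leaf 0x5978613024) (.leaf 0x9657803421)))) (.node (.node (.node (.leaf 0x6857903421) (.leaf 0x5897603421)) (.node (.leaf 0x9758603421) (.leaf 0x5978603421))) (.node (.node (.leaf 0x5697841203) (.leaf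 0x6897541203)) (.node (.leaf 0x9657842031) (.leaf 0x9657804231))))) (.node (.node (.node (.node (.leaf 0x6857942031) (.leaf 0x6857904231)) (.node (.leaf 0x5897642031) (.leaf 0x5897604231))) (.node (.node (.leaf 0x9758642031) (.leaf 0x5978642031)) (.node (.leaf 0x9758604231) (.leaf 0x5978604231)))) (.node (.node (.node (.leaf 0x5697813042) (.leaf 0x6897513042)) (.node (.leaf 0x5697813204) (.leaf 0x6897513204))) (.node (.node (.leaf 0x5697801423) (.leaf 0x6897501423)) (.node (.leaf 0x5697813420) (.leaf 0x6897513420)))))) (.leaf 0)) (.leaf 0)) (.leaf 0)))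

def repsP : BT := (.node (.node (.node (.node (.node (.node (.node (.node (.node (.leaf 0x0) (.leaf 0x0)) (.node (.leaf 0x1) (.leaf 0x2))) (.node (.node (.leaf 0x3) (.leaf 0x4)) (.node (.leaf 0x5) (.leaf 0x6)))) (.node (.node (.node (.leaf 0x100) (.leaf 0x101)) (.node (.leaf 0x102) (.leaf 0x103))) (.node (.node (.leaf 0x104) (.leaf 0x105)) (.node (.leaf 0x106) (.leaf 0x201))))) (.node (.node (.node (.node (.leaf 0x203) (.leaf 0x204)) (.node (.leaf 0x205) (.leaf 0x206))) (.node (.node (.leaf 0x300) (.leaf 0x302)) (.node (.leaf 0x303) (.leaf 0x304)))) (.node (.node (.node (.leaf 0x305) (.leaf 0x306)) (.node (.leaf 0x403) (.leaf 0x404))) (.node (.node (.leaf 0x405) (.leaf 0x406)) (.node (.leaf 0x504) (.leaf 0x506)))))) (.node (.node (.node (.node (.node (.leaf 0x603) (.leaf 0x605)) (.node (.leaf 0x606) (.leaf 0x700))) (.node (.node (.leaf 0x701) (.leaf 0x702)) (.node (.leaf 0x703) (.leaf 0x704)))) (.node (.node (.node (.leaf 0x705) (.leaf 0x803)) (.node (.leaf 0x804) (.leaf 0x805))) (.node (.node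 (.leaf 0x902) (.leaf 0x903)) (.node (.leaf 0x904) (.leaf 0x905))))) (.node (.node (.node (.node (.leaf 0x906) (.leaf 0xa02)) (.node (.leaf 0xa03) (.leaf 0xa04))) (.node (.node (.leaf 0xa05) (.leaf 0xa06)) (.node (.leaf 0xb03) (.leaf 0xb04)))) (.node (.node (.node (.leaf 0xb05) (.leaf 0xb06)) (.node (.leaf 0xc04) (.leaf 0xc06))) (.node (.node (.leaf 0xd03) (.leaf 0xd05)) (.node (.leaf 0xd06) (.leaf 0xe02))))))) (.node (.node (.node (.node (.node (.node (.leaf 0xe03) (.leaf 0xe04)) (.node (.leaf 0xe05) (.leaf 0xf03))) (.node (.node (.leaf 0xf04) (.leaf 0xf05)) (.node (.leaf 0x1003) (.leaf 0x1004)))) (.node (.node (.node (.leaf 0x1005) (.leaf 0x1006)) (.node (.leaf 0x1104) (.leaf 0x1106))) (.node (.node (.leaf 0x1203) (.leaf 0x1205)) (.node (.leaf 0x1206) (.leaf 0x1300))))) (.node (.node (.node (.node (.leaf 0x1302) (.leaf 0x1303)) (.node (.leaf 0x1304) (.leaf 0x1305))) (.node (.node (.leaf 0x1403) (.leaf 0x1404)) (.node (.leaf 0x1405) (.leaf 0x1503)))) (.node (.node (.node (.leaf 0x1504) (.leaf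 0x1505)) (.node (.leaf 0x1603) (.leaf 0x1604))) (.node (.node (.leaf 0x1605) (.leaf 0x1606)) (.node (.leaf 0x1704) (.leaf 0x1706)))))) (.node (.node (.node (.node (.node (.leaf 0x1803) (.leaf 0x1805)) (.node (.leaf 0x1806) (.leaf 0x1903))) (.node (.node (.leaf 0x1904) (.leaf 0x1905)) (.node (.leaf 0x1b05) (.leaf 0x1b06)))) (.node (.node (.node (.leaf 0x1c05) (.leaf 0x1c06)) (.node (.leaf 0x1d00) (.leaf 0x1d01))) (.node (.node (.leaf 0x1d02) (.leaf 0x1d05)) (.node (.leaf 0x1f00) (.leaf 0x1f01))))) (.node (.node (.node (.node (.leaf 0x1f02) (.leaf 0x1f03)) (.node (.leaf 0x1f05) (.leaf 0x2200))) (.node (.node (.leaf 0x2201) (.leaf 0x2202)) (.node (.leaf 0x2303) (.leaf 0x2304)))) (.node (.node (.node (.leaf 0x2305) (.leaf 0x2403)) (.node (.leaf 0x2404) (.leaf 0x2405))) (.node (.node (.leaf 0x2503) (.leaf 0x2504)) (.node (.leaf 0x2505) (.leaf 0x2903)))))))) (.node (.node (.node (.node (.node (.node (.node (.leaf 0x2904) (.leaf 0x2905)) (.node (.leaf 0x2a04) (.leaf 0x2b03))) (.node (.node (.leaf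 0x2b05) (.leaf 0x2c03)) (.node (.leaf 0x2c04) (.leaf 0x2c05)))) (.node (.node (.node (.leaf 0x2d03) (.leaf 0x2d04)) (.node (.leaf 0x2d05) (.leaf 0x2d06))) (.node (.node (.leaf 0x2e04) (.leaf 0x2e06)) (.node (.leaf 0x2f03) (.leaf 0x2f05))))) (.node (.node (.node (.node (.leaf 0x2f06) (.leaf 0x3003)) (.node (.leaf 0x3004) (.leaf 0x3005))) (.node (.node (.leaf 0x3103) (.leaf 0x3104)) (.node (.leaf 0x3105) (.leaf 0x3203)))) (.node (.node (.node (.leaf 0x3204) (.leaf 0x3205)) (.node (.leaf 0x3206) (.leaf 0x3304))) (.node (.node (.leaf 0x3306) (.leaf 0x3403)) (.node (.leaf 0x3405) (.leaf 0x3406)))))) (.node (.node (.node (.node (.node (.leaf 0x3503) (.leaf 0x3504)) (.node (.leaf 0x3505) (.leaf 0x3705))) (.node (.node (.leaf 0x3706) (.leaf 0x3805)) (.node (.leaf 0x3806) (.leaf 0x3902)))) (.node (.node (.node (.leaf 0x3905) (.leaf 0x3b02)) (.node (.leaf 0x3b03) (.leaf 0x3b05))) (.node (.node (.leaf 0x3e02) (.leaf 0x3f03)) (.node (.leaf 0x3f04) (.leaf 0x3f05))))) (.node (.node (.node (.node (.leaf 0x4303)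 (.leaf 0x4304)) (.node (.leaf 0x4305) (.leaf 0x4404))) (.node (.node (.leaf 0x4503) (.leaf 0x4505)) (.node (.leaf 0x4705) (.leaf 0x4706)))) (.node (.node (.node (.leaf 0x4805) (.leaf 0x4806)) (.node (.leaf 0x4900) (.leaf 0x4902))) (.node (.node (.leaf 0x4905) (.leaf 0x4b00)) (.node (.leaf 0x4b02) (.leaf 0x4b03))))))) (.node (.node (.node (.node (.node (.node (.leaf 0x4b05) (.leaf 0x4e00)) (.node (.leaf 0x4e02) (.leaf 0x4f03))) (.node (.node (.leaf 0x4f04) (.leaf 0x4f05)) (.node (.leaf 0x5003) (.leaf 0x5004)))) (.node (.node (.node (.leaf 0x5005) (.leaf 0x5403)) (.node (.leaf 0x5404) (.leaf 0x5405))) (.node (.node (.leaf 0x5504) (.leaf 0x5603)) (.node (.leaf 0x5605) (.leaf 0x5703))))) (.node (.node (.node (.node (.leaf 0x5704) (.leaf 0x5705)) (.node (.leaf 0x5804) (.leaf 0x5903))) (.node (.node (.leaf 0x5905) (.leaf 0x5b05)) (.node (.leaf 0x5b06) (.leaf 0x5c05)))) (.node (.node (.node (.leaf 0x5c06) (.leaf 0x5d05)) (.node (.leaf 0x5f03) (.leaf 0x5f05))) (.node (.node (.leaf 0x6700) (.leaf 0x6701))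 (.node (.leaf 0x6702) (.leaf 0x6900)))))) (.node (.node (.node (.node (.node (.leaf 0x6901) (.leaf 0x6902)) (.node (.leaf 0x6a05) (.leaf 0x6b05))) (.node (.node (.leaf 0x6c05) (.leaf 0x6e03)) (.node (.leaf 0x6e05) (.leaf 0x6f03)))) (.node (.node (.node (.leaf 0x6f05) (.leaf 0x7003)) (.node (.leaf 0x7005) (.leaf 0x8005))) (.node (.node (.leaf 0x8105) (.leaf 0x8503)) (.node (.leaf 0x8504) (.leaf 0x8505))))) (.node (.node (.node (.node (.leaf 0x8604) (.leaf 0x8703)) (.node (.leaf 0x8705) (.leaf 0x8905))) (.node (.node (.leaf 0x8906) (.leaf 0x8a05)) (.node (.leaf 0x8a06) (.leaf 0x8b05)))) (.node (.node (.node (.leaf 0x8d03) (.leaf 0x8d05)) (.node (.leaf 0x9403) (.leaf 0x9404))) (.node (.node (.leaf 0x9405) (.leaf 0x9504)) (.node (.leaf 0x9603) (.leaf 0x9605))))))))) (.node (.node (.node (.node (.node (.node (.node (.node (.leaf 0x9805) (.leaf 0x9806)) (.node (.leaf 0x9905) (.leaf 0x9906))) (.node (.node (.leaf 0x9a05) (.leaf 0x9c03)) (.node (.leaf 0x9c05) (.leaf 0xa402)))) (.node (.node (.node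 (.leaf 0xa602) (.leaf 0xa705)) (.node (.leaf 0xa903) (.leaf 0xa905))) (.node (.node (.leaf 0xb105) (.leaf 0xb205)) (.node (.leaf 0xb700) (.leaf 0xb702))))) (.node (.node (.node (.node (.leaf 0xb900) (.leaf 0xb902)) (.node (.leaf 0xba05) (.leaf 0xbb05))) (.node (.node (.leaf 0xbd03) (.leaf 0xbd05)) (.node (.leaf 0xbe03) (.leaf 0xbe05)))) (.node (.node (.node (.leaf 0xca05) (.leaf 0xcb05)) (.node (.leaf 0xd005) (.leaf 0xd105))) (.node (.node (.leaf 0xee05) (.leaf 0xef05)) (.node (.leaf 0xfb05) (.leaf 0xfc05)))))) (.leaf 0)) (.leaf 0)) (.leaf 0)))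

def eltsT : BT := (.node (.node (.node (.node (.node (.node (.leaf 0x9876543210) (.leaf 0x9876543021)) (.node (.leaf 0x9876540123) (.leaf 0x9876541320))) (.node (.node (.leaf 0x9876504321) (.leaf 0x9857643210)) (.node (.leaf 0x9567843210) (.leaf 0x9687543210)))) (.node (.node (.node (.leaf 0x5987643210) (.leaf 0x9876503241)) (.node (.leaf 0x9876510243) (.leaf 0x5879643210))) (.node (.node (.leaf 0x6579843210) (.leaf 0x5879610243)) (.node (.leaf 0x6579810243) (.leaf 0x9857643021))))) (.node (.node (.node (.node (.leaf 0x9578610243) (.leaf 0x5678910243)) (.node (.leaf 0x9865743021) (.leaf 0x9876540231))) (.node (.node (.leaf 0x9578643210) (.leaf 0x9876503124)) (.node (.leaf 0x9578643021) (.leaf 0x5879643021)))) (.node (.node (.node (.leaf 0x9876541032) (.leaf 0x9876501234)) (.node (.leaf 0x9857640231) (.leaf 0x5879640231))) (.node (.node (.leaf 0x9876513042) (.leaf 0x9857603241)) (.node (.leaf 0x9876543102) (.leaf 0x9876501423)))))) (.node (.node (.node (.node (.node (.leaf 0x9876540312) (.leaf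 0)) (.leaf 0)) (.leaf 0)) (.leaf 0)) (.leaf 0)))

def eltsP : BT := (.node (.node (.node (.node (.node (.node (.leaf 0x0) (.leaf 0x0)) (.node (.leaf 0x101) (.leaf 0x201))) (.node (.node (.leaf 0x302) (.leaf 0x3)) (.node (.leaf 0x504) (.leaf 0x604)))) (.node (.node (.node (.leaf 0x705) (.leaf 0x2)) (.node (.leaf 0x901) (.leaf 0x5))) (.node (.node (.leaf 0xb04) (.leaf 0xa05)) (.node (.leaf 0xd04) (.leaf 0x103))))) (.node (.node (.node (.node (.leaf 0xa04) (.leaf 0x1005)) (.node (.leaf 0xf03) (.leaf 0x1))) (.node (.node (.leaf 0x4) (.leaf 0x102)) (.node (.leaf 0x104) (.leaf 0x105)))) (.node (.node (.node (.leaf 0x1300) (.leaf 0x1302)) (.node (.leaf 0x1303) (.leaf 0x1305))) (.node (.node (.leaf 0x900) (.leaf 0x903)) (.node (.leaf 0x100) (.leaf 0x202)))))) (.node (.node (.node (.node (.node (.leaf 0x1e01) (.leaf 0)) (.leaf 0)) (.leaf 0)) (.leaf 0)) (.leaf 0)))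

def hsT : BT := (.node (.node (.node (.node (.node (.leaf 0x9876543210) (.leaf 0x9876504321)) (.node (.leaf 0x5987643210) (.leaf 0x9876510432))) (.node (.node (.leaf 0x5987604321) (.leaf 0x6598743210)) (.node (.leaf 0x9876521043) (.leaf 0x5987610432)))) (.node (.node (.node (.leaf 0x6598704321) (.leaf 0x7659843210)) (.node (.leaf 0x9876532104) (.leaf 0x5987621043))) (.node (.node (.leaf 0x6598710432) (.leaf 0x7659804321)) (.node (.leaf 0x8765943210) (.leaf 0x5987632104))))) (.node (.node (.node (.node (.leaf 0x6598721043) (.leaf 0x7659810432)) (.node (.leaf 0x8765904321) (.leaf 0x6598732104))) (.node (.node (.leaf 0x7659821043) (.leaf 0x8765910432)) (.node (.leaf 0x7659832104) (.leaf 0x8765921043)))) (.node (.node (.node (.leaf 0x8765932104) (.leaf 0)) (.leaf 0)) (.leaf 0))))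

def hsP : BT := (.node (.node (.node (.node (.node (.leaf 0x0) (.leaf 0x0)) (.node (.leaf 0x1) (.leaf 0x100))) (.node (.node (.leaf 0x101) (.leaf 0x201)) (.node (.leaf 0x300) (.leaf 0x301)))) (.node (.node (.node (.leaf 0x401) (.leaf 0x501)) (.node (.leaf 0x600) (.leaf 0x601))) (.node (.node (.leaf 0x701) (.leaf 0x801)) (.node (.leaf 0x901) (.leaf 0xa01))))) (.node (.node (.node (.node (.leaf 0xb01) (.leaf 0xc01)) (.node (.leaf 0xd01) (.leaf 0xf01))) (.node (.node (.leaf 0x1001) (.leaf 0x1101)) (.node (.leaf 0x1301) (.leaf 0x1401)))) (.node (.node (.node (.leaf 0x1601) (.leaf 0)) (.leaf 0)) (.leaf 0))))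

def quads : List (Fin 10 × Fin 10 × Fin 10 × Fin 10) := [(0,1,1,2), (0,1,1,3), (0,1,1,4), (5,6,6,7), (5,6,6,8), (5,6,6,9), (0,1,5,6)]

def gens : List ℕ := quads.map quadCode

def gensH : List ℕ := [654820000545, 384523579920]

def elts : Tab := ⟨10, 33, 6, eltsT, []⟩

def hsTab : Tab := ⟨10, 25, 5, hsT, []⟩

def tab : Tab := ⟨10, 288, 9, repsT, [654820258320, 654820000545, 384523579920, 654820049970, 384523322145, 436349448720, 654820118595, 384523371570, 436349190945, 508307976720, 654820188420, 384523440195, 436349240370, 508307718945, 581524795920, 384523510020, 436349308995, 508307768370, 581524538145, 436349378820, 508307836995, 581524587570, 508307906820, 581524656195, 581524726020]⟩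

def seedIx : List (ℕ × ℕ) := [(10, 1), (12, 5), (14, 15), (17, 18)]

def seeds : List (ℕ × ℕ) := seedIx.map fun s => (elts.rep s.1, elts.rep s.2)

end Local

end Cfsg.Lib.AltSection.Five
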