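import Cfsg.Agent.AltSection.Five.Ops

/-! Certificate data SixZero. -/

set_option maxHeartbeats 0
set_option maxRecDepth 100000

namespace Cfsg.Lib.AltSection.Five


namespace SixZero

def orb0 : Fixd := ⟨2, [(0,1), (75,1), (1,1), (21,1), (33,1), (5,1), (10,1), (24,1), (2,1), (36,1), (9,1), (6,1)], [(75,0), (0,0), (33,0), (10,0), (1,0), (36,0), (21,0), (2,0), (24,0), (5,0), (6,0), (9,0)], [(1,0), (21,0), (5,0), (24,0), (2,0), (0,0), (36,0), (75,0), (9,0), (6,0), (33,0), (10,0)], [], []⟩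

def orb1 : Fixd := ⟨2, [(3,1), (171,1), (13,1), (130,1), (108,1), (45,1), (49,1), (69,1), (14,1), (138,1), (48,1), (46,1)], [(171,0), (3,0), (108,0), (49,0), (13,0), (138,0), (130,0), (14,0), (69,0), (45,0), (46,0), (48,0)], [(13,0), (130,0), (45,0), (69,0), (14,0), (3,0), (138,0), (171,0), (48,0), (46,0), (108,0), (49,0)], [], []⟩

def orb2 : Fixd := ⟨2, [(4,1), (173,1), (17,1), (153,1), (109,1), (57,1), (61,1), (70,1), (18,1), (161,1), (60,1), (58,1)], [(173,0), (4,0), (109,0), (61,0), (17,0), (161,0), (153,0), (18,0), (70,0), (57,0), (58,0), (60,0)], [(17,0), (153,0), (57,0), (70,0), (18,0), (4,0), (161,0), (173,0), (60,0), (58,0), (109,0), (61,0)], [], []⟩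

def orb3 : Fixd := ⟨2, [(7,1), (39,1), (15,1), (112,1), (183,1), (51,1), (85,1), (11,1), (27,1), (113,1), (84,1), (52,1)], [(39,0), (7,0), (183,0), (85,0), (15,0), (113,0), (112,0), (27,0), (11,0), (51,0), (52,0), (84,0)], [(15,0), (112,0), (51,0), (11,0), (27,0), (7,0), (113,0), (39,0), (84,0), (52,0), (183,0), (85,0)], [], []⟩

def orb4 : Fixd := ⟨2, [(8,1), (42,1), (20,1), (121,1), (184,1), (66,1), (94,1), (12,1), (30,1), (122,1), (93,1), (67,1)], [(42,0), (8,0), (184,0), (94,0), (20,0), (122,0), (121,0), (30,0), (12,0), (66,0), (67,0), (93,0)], [(20,0), (121,0), (66,0), (12,0), (30,0), (8,0), (122,0), (42,0), (93,0), (67,0), (184,0), (94,0)], [], []⟩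

def orb5 : Fixd := ⟨2, [(16,1), (318,1), (54,1), (287,1), (279,1), (144,1), (148,1), (267,1), (55,1), (291,1), (147,1), (145,1)], [(318,0), (16,0), (279,0), (148,0), (54,0), (291,0), (287,0), (55,0), (267,0), (144,0), (145,0), (147,0)], [(54,0), (287,0), (144,0), (267,0), (55,0), (16,0), (291,0), (318,0), (147,0), (145,0), (279,0), (148,0)], [], []⟩

def orb6 : Fixd := ⟨2, [(19,1), (317,1), (63,1), (285,1), (303,1), (142,1), (143,1), (293,1), (64,1), (286,1), (167,1), (165,1)], [(317,0), (19,0), (303,0), (143,0), (63,0), (286,0), (285,0), (64,0), (293,0), (142,0), (165,0), (167,0)], [(63,0), (285,0), (142,0), (293,0), (64,0), (19,0), (286,0), (317,0), (167,0), (165,0), (303,0), (143,0)], [], []⟩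

def orb7 : Fixd := ⟨2, [(22,1), (78,1), (28,1), (187,1), (102,1), (87,1), (132,1), (25,1), (71,1), (188,1), (175,1), (88,1)], [(78,0), (22,0), (102,0), (132,0), (28,0), (188,0), (187,0), (71,0), (25,0), (87,0), (88,0), (175,0)], [(28,0), (187,0), (87,0), (25,0), (71,0), (22,0), (188,0), (78,0), (175,0), (88,0), (102,0), (132,0)], [], []⟩

def orb8 : Fixd := ⟨2, [(23,1), (81,1), (32,1), (195,1), (103,1), (99,1), (156,1), (26,1), (73,1), (196,1), (179,1), (100,1)], [(81,0), (23,0), (103,0), (156,0), (32,0), (196,0), (195,0), (73,0), (26,0), (99,0), (100,0), (179,0)], [(32,0), (195,0), (99,0), (26,0), (73,0), (23,0), (196,0), (81,0), (179,0), (100,0), (103,0), (156,0)], [], []⟩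

def orb9 : Fixd := ⟨2, [(29,1), (229,1), (90,1), (344,1), (247,1), (210,1), (214,1), (246,1), (91,1), (346,1), (213,1), (211,1)], [(229,0), (29,0), (247,0), (214,0), (90,0), (346,0), (344,0), (91,0), (246,0), (210,0), (211,0), (213,0)], [(90,0), (344,0), (210,0), (246,0), (91,0), (29,0), (346,0), (229,0), (213,0), (211,0), (247,0), (214,0)], [], []⟩

def orb10 : Fixd := ⟨2, [(31,1), (228,1), (96,1), (342,1), (260,1), (208,1), (209,1), (259,1), (97,1), (343,1), (225,1), (223,1)], [(228,0), (31,0), (260,0), (209,0), (96,0), (343,0), (342,0), (97,0), (259,0), (208,0), (223,0), (225,0)], [(96,0), (342,0), (208,0), (259,0), (97,0), (31,0), (343,0), (228,0), (225,0), (223,0), (260,0), (209,0)], [], []⟩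

def orb11 : Fixd := ⟨2, [(34,1), (79,1), (40,1), (136,1), (76,1), (115,1), (230,1), (37,1), (104,1), (190,1), (203,1), (116,1)], [(79,0), (34,0), (76,0), (230,0), (40,0), (190,0), (136,0), (104,0), (37,0), (115,0), (116,0), (203,0)], [(40,0), (136,0), (115,0), (37,0), (104,0), (34,0), (190,0), (79,0), (203,0), (116,0), (76,0), (230,0)], [], []⟩

def orb12 : Fixd := ⟨2, [(35,1), (83,1), (44,1), (160,1), (77,1), (127,1), (235,1), (38,1), (106,1), (201,1), (219,1), (128,1)], [(83,0), (35,0), (77,0), (235,0), (44,0), (201,0), (160,0), (106,0), (38,0), (127,0), (128,0), (219,0)], [(44,0), (160,0), (127,0), (38,0), (106,0), (35,0), (201,0), (83,0), (219,0), (128,0), (77,0), (235,0)], [], []⟩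

def orb13 : Fixd := ⟨2, [(41,1), (186,1), (118,1), (321,1), (205,1), (251,1), (255,1), (204,1), (119,1), (322,1), (254,1), (252,1)], [(186,0), (41,0), (205,0), (255,0), (118,0), (322,0), (321,0), (119,0), (204,0), (251,0), (252,0), (254,0)], [(118,0), (321,0), (251,0), (204,0), (119,0), (41,0), (322,0), (186,0), (254,0), (252,0), (205,0), (255,0)], [], []⟩

def orb14 : Fixd := ⟨2, [(43,1), (185,1), (124,1), (319,1), (220,1), (249,1), (250,1), (218,1), (125,1), (320,1), (264,1), (262,1)], [(185,0), (43,0), (220,0), (250,0), (124,0), (320,0), (319,0), (125,0), (218,0), (249,0), (262,0), (264,0)], [(124,0), (319,0), (249,0), (218,0), (125,0), (43,0), (320,0), (185,0), (264,0), (262,0), (220,0), (250,0)], [], []⟩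

def orb15 : Fixd := ⟨2, [(47,1), (140,1), (56,1), (280,1), (311,1), (150,1), (273,1), (50,1), (134,1), (281,1), (272,1), (151,1)], [(140,0), (47,0), (311,0), (273,0), (56,0), (281,0), (280,0), (134,0), (50,0), (150,0), (151,0), (272,0)], [(56,0), (280,0), (150,0), (50,0), (134,0), (47,0), (281,0), (140,0), (272,0), (151,0), (311,0), (273,0)], [], []⟩

def orb16 : Fixd := ⟨2, [(53,1), (206,1), (92,1), (308,1), (114,1), (166,1), (168,1), (86,1), (120,1), (310,1), (257,1), (216,1)], [(206,0), (53,0), (114,0), (168,0), (92,0), (310,0), (308,0), (120,0), (86,0), (166,0), (216,0), (257,0)], [(92,0), (308,0), (166,0), (86,0), (120,0), (53,0), (310,0), (206,0), (257,0), (216,0), (114,0), (168,0)], [], []⟩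

def orb17 : Fixd := ⟨2, [(59,1), (163,1), (65,1), (304,1), (312,1), (169,1), (299,1), (62,1), (157,1), (305,1), (298,1), (170,1)], [(163,0), (59,0), (312,0), (299,0), (65,0), (305,0), (304,0), (157,0), (62,0), (169,0), (170,0), (298,0)], [(65,0), (304,0), (169,0), (62,0), (157,0), (59,0), (305,0), (163,0), (298,0), (170,0), (312,0), (299,0)], [], []⟩

def orb18 : Fixd := ⟨2, [(68,1), (221,1), (98,1), (289,1), (123,1), (146,1), (149,1), (95,1), (126,1), (292,1), (266,1), (227,1)], [(221,0), (68,0), (123,0), (149,0), (98,0), (292,0), (289,0), (126,0), (95,0), (146,0), (227,0), (266,0)], [(98,0), (289,0), (146,0), (95,0), (126,0), (68,0), (292,0), (221,0), (266,0), (227,0), (123,0), (149,0)], [], []⟩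

def orb19 : Fixd := ⟨2, [(72,1), (241,1), (177,1), (294,1), (324,1), (154,1), (155,1), (323,1), (178,1), (295,1), (307,1), (314,1)], [(241,0), (72,0), (324,0), (155,0), (177,0), (295,0), (294,0), (178,0), (323,0), (154,0), (314,0), (307,0)], [(177,0), (294,0), (154,0), (323,0), (178,0), (72,0), (295,0), (241,0), (307,0), (314,0), (324,0), (155,0)], [], []⟩

def orb20 : Fixd := ⟨2, [(74,1), (240,1), (181,1), (268,1), (333,1), (131,1), (133,1), (332,1), (182,1), (270,1), (288,1), (316,1)], [(240,0), (74,0), (333,0), (133,0), (181,0), (270,0), (268,0), (182,0), (332,0), (131,0), (316,0), (288,0)], [(181,0), (268,0), (131,0), (332,0), (182,0), (74,0), (270,0), (240,0), (288,0), (316,0), (333,0), (133,0)], [], []⟩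

def orb21 : Fixd := ⟨2, [(80,1), (107,1), (192,1), (237,1), (269,1), (302,1), (328,1), (313,1), (193,1), (238,1), (327,1), (326,1)], [(107,0), (80,0), (269,0), (328,0), (192,0), (238,0), (237,0), (193,0), (313,0), (302,0), (326,0), (327,0)], [(192,0), (237,0), (302,0), (313,0), (193,0), (80,0), (238,0), (107,0), (327,0), (326,0), (269,0), (328,0)], [], []⟩

def orb22 : Fixd := ⟨2, [(82,1), (105,1), (198,1), (232,1), (297,1), (277,1), (325,1), (315,1), (199,1), (233,1), (335,1), (334,1)], [(105,0), (82,0), (297,0), (325,0), (198,0), (233,0), (232,0), (199,0), (315,0), (277,0), (334,0), (335,0)], [(198,0), (232,0), (277,0), (315,0), (199,0), (82,0), (233,0), (105,0), (335,0), (334,0), (297,0), (325,0)], [], []⟩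

def orb23 : Fixd := ⟨2, [(89,1), (248,1), (135,1), (350,1), (189,1), (224,1), (226,1), (176,1), (194,1), (351,1), (330,1), (275,1)], [(248,0), (89,0), (189,0), (226,0), (135,0), (351,0), (350,0), (194,0), (176,0), (224,0), (275,0), (330,0)], [(135,0), (350,0), (224,0), (176,0), (194,0), (89,0), (351,0), (248,0), (330,0), (275,0), (189,0), (226,0)], [], []⟩

def orb24 : Fixd := ⟨2, [(110,1), (174,1), (242,1), (301,1), (352,1), (159,1), (162,1), (338,1), (243,1), (296,1), (357,1), (309,1)], [(174,0), (110,0), (352,0), (162,0), (242,0), (296,0), (301,0), (243,0), (338,0), (159,0), (309,0), (357,0)], [(242,0), (301,0), (159,0), (338,0), (243,0), (110,0), (296,0), (174,0), (357,0), (309,0), (352,0), (162,0)], [], []⟩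

def orb25 : Fixd := ⟨2, [(117,1), (207,1), (234,1), (340,1), (191,1), (263,1), (265,1), (231,1), (141,1), (336,1), (283,1), (353,1)], [(207,0), (117,0), (191,0), (265,0), (234,0), (336,0), (340,0), (141,0), (231,0), (263,0), (353,0), (283,0)], [(234,0), (340,0), (263,0), (231,0), (141,0), (117,0), (336,0), (207,0), (283,0), (353,0), (191,0), (265,0)], [], []⟩

def orb26 : Fixd := ⟨2, [(129,1), (222,1), (239,1), (349,1), (202,1), (253,1), (256,1), (236,1), (164,1), (329,1), (306,1), (356,1)], [(222,0), (129,0), (202,0), (256,0), (239,0), (329,0), (349,0), (164,0), (236,0), (253,0), (356,0), (306,0)], [(239,0), (349,0), (253,0), (236,0), (164,0), (129,0), (329,0), (222,0), (306,0), (356,0), (202,0), (256,0)], [], []⟩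

def orbs : List Fixd := [orb0, orb1, orb2, orb3, orb4, orb5, orb6, orb7, orb8, orb9, orb10, orb11, orb12, orb13, orb14, orb15, orb16, orb17, orb18, orb19, orb20, orb21, orb22, orb23, orb24, orb25, orb26]

def rel0 : ℕ × List (List (ℕ × ℕ)) := (0, [[(1,0)], [(5,0)], [(14,0)], [(187,0)], [(37,0)], [(175,0)], [(40,0)], [(203,0)], [(188,0)], [(33,0)], [(9,0)], [(15,0)], [(13,0)], [(52,0)], [(183,0)], [(3,0)], [(36,0)], [(45,0)], [(49,0)], [(10,0)], [(24,0)], [(28,0)], [(51,0)], [(2,0)], [(11,0)], [(171,0)], [(7,0)], [(116,0)], [(75,0)], [(190,0)], [(87,0)], [(6,0)], [(21,0)], [(22,0)], [(230,0)]])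

def rel1 : ℕ × List (List (ℕ × ℕ)) := (1, [[(5,0)], [(0,0)], [(27,0)], [(130,0)], [(76,0)], [(48,0)], [(79,0)], [(115,0)], [(138,0)], [(36,0)], [(10,0)], [(28,0)], [(15,0)], [(88,0)], [(102,0)], [(7,0)], [(75,0)], [(51,0)], [(85,0)], [(24,0)], [(9,0)], [(13,0)], [(87,0)], [(6,0)], [(25,0)], [(39,0)], [(22,0)], [(190,0)], [(33,0)], [(230,0)], [(45,0)], [(21,0)], [(2,0)], [(3,0)], [(116,0)]])

def rel2 : ℕ × List (List (ℕ × ℕ)) := (2, [[(9,0)], [(33,0)], [(15,0)], [(87,0)], [(3,0)], [(187,0)], [(14,0)], [(130,0)], [(88,0)], [(6,0)], [(36,0)], [(40,0)], [(39,0)], [(116,0)], [(76,0)], [(11,0)], [(1,0)], [(112,0)], [(52,0)], [(0,0)], [(21,0)], [(71,0)], [(115,0)], [(10,0)], [(37,0)], [(27,0)], [(34,0)], [(49,0)], [(24,0)], [(46,0)], [(175,0)], [(5,0)], [(75,0)], [(102,0)], [(138,0)]])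

def rel3 : ℕ × List (List (ℕ × ℕ)) := (3, [[(13,0)], [(45,0)], [(52,0)], [(88,0)], [(116,0)], [(25,0)], [(37,0)], [(76,0)], [(102,0)], [(108,0)], [(48,0)], [(0,0)], [(51,0)], [(2,0)], [(75,0)], [(15,0)], [(138,0)], [(7,0)], [(11,0)], [(49,0)], [(69,0)], [(22,0)], [(1,0)], [(14,0)], [(10,0)], [(183,0)], [(5,0)], [(40,0)], [(171,0)], [(34,0)], [(28,0)], [(46,0)], [(130,0)], [(87,0)], [(115,0)]])

def rel4 : ℕ × List (List (ℕ × ℕ)) := (4, [[(17,0)], [(57,0)], [(64,0)], [(314,0)], [(162,0)], [(323,0)], [(110,0)], [(338,0)], [(324,0)], [(109,0)], [(60,0)], [(65,0)], [(63,0)], [(170,0)], [(312,0)], [(19,0)], [(161,0)], [(142,0)], [(143,0)], [(61,0)], [(70,0)], [(72,0)], [(169,0)], [(18,0)], [(62,0)], [(317,0)], [(59,0)], [(243,0)], [(173,0)], [(352,0)], [(177,0)], [(58,0)], [(153,0)], [(154,0)], [(357,0)]])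

def rel5 : ℕ × List (List (ℕ × ℕ)) := (5, [[(0,0)], [(1,0)], [(71,0)], [(112,0)], [(34,0)], [(84,0)], [(104,0)], [(136,0)], [(113,0)], [(75,0)], [(24,0)], [(13,0)], [(28,0)], [(46,0)], [(108,0)], [(22,0)], [(33,0)], [(87,0)], [(132,0)], [(9,0)], [(10,0)], [(15,0)], [(45,0)], [(21,0)], [(69,0)], [(78,0)], [(3,0)], [(230,0)], [(36,0)], [(116,0)], [(51,0)], [(2,0)], [(6,0)], [(7,0)], [(190,0)]])

def rel6 : ℕ × List (List (ℕ × ℕ)) := (6, [[(10,0)], [(36,0)], [(28,0)], [(45,0)], [(7,0)], [(130,0)], [(27,0)], [(112,0)], [(46,0)], [(21,0)], [(75,0)], [(79,0)], [(78,0)], [(190,0)], [(34,0)], [(25,0)], [(5,0)], [(187,0)], [(88,0)], [(1,0)], [(2,0)], [(14,0)], [(136,0)], [(24,0)], [(76,0)], [(71,0)], [(37,0)], [(85,0)], [(9,0)], [(52,0)], [(48,0)], [(0,0)], [(33,0)], [(108,0)], [(113,0)]])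

def rel7 : ℕ × List (List (ℕ × ℕ)) := (7, [[(15,0)], [(51,0)], [(88,0)], [(46,0)], [(190,0)], [(69,0)], [(76,0)], [(34,0)], [(108,0)], [(183,0)], [(84,0)], [(1,0)], [(87,0)], [(6,0)], [(33,0)], [(28,0)], [(113,0)], [(22,0)], [(25,0)], [(85,0)], [(11,0)], [(3,0)], [(5,0)], [(27,0)], [(24,0)], [(102,0)], [(0,0)], [(79,0)], [(39,0)], [(37,0)], [(13,0)], [(52,0)], [(112,0)], [(45,0)], [(136,0)]])

def rel8 : ℕ × List (List (ℕ × ℕ)) := (8, [[(20,0)], [(66,0)], [(97,0)], [(145,0)], [(220,0)], [(267,0)], [(185,0)], [(249,0)], [(279,0)], [(184,0)], [(93,0)], [(98,0)], [(96,0)], [(227,0)], [(123,0)], [(31,0)], [(122,0)], [(208,0)], [(209,0)], [(94,0)], [(12,0)], [(16,0)], [(146,0)], [(30,0)], [(95,0)], [(228,0)], [(68,0)], [(320,0)], [(42,0)], [(250,0)], [(54,0)], [(67,0)], [(121,0)], [(144,0)], [(262,0)]])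

def rel9 : ℕ × List (List (ℕ × ℕ)) := (9, [[(33,0)], [(2,0)], [(104,0)], [(84,0)], [(69,0)], [(51,0)], [(13,0)], [(48,0)], [(85,0)], [(1,0)], [(0,0)], [(71,0)], [(40,0)], [(132,0)], [(25,0)], [(34,0)], [(24,0)], [(115,0)], [(230,0)], [(21,0)], [(36,0)], [(39,0)], [(175,0)], [(5,0)], [(22,0)], [(79,0)], [(102,0)], [(46,0)], [(6,0)], [(138,0)], [(112,0)], [(75,0)], [(10,0)], [(11,0)], [(49,0)]])

def rel10 : ℕ × List (List (ℕ × ℕ)) := (10, [[(36,0)], [(6,0)], [(40,0)], [(175,0)], [(11,0)], [(87,0)], [(15,0)], [(84,0)], [(132,0)], [(5,0)], [(1,0)], [(14,0)], [(79,0)], [(49,0)], [(69,0)], [(37,0)], [(9,0)], [(136,0)], [(116,0)], [(2,0)], [(75,0)], [(78,0)], [(48,0)], [(0,0)], [(3,0)], [(104,0)], [(108,0)], [(52,0)], [(21,0)], [(113,0)], [(187,0)], [(33,0)], [(24,0)], [(25,0)], [(85,0)]])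

def rel11 : ℕ × List (List (ℕ × ℕ)) := (11, [[(39,0)], [(112,0)], [(116,0)], [(132,0)], [(49,0)], [(22,0)], [(3,0)], [(69,0)], [(25,0)], [(7,0)], [(51,0)], [(2,0)], [(115,0)], [(10,0)], [(24,0)], [(40,0)], [(85,0)], [(34,0)], [(37,0)], [(52,0)], [(183,0)], [(102,0)], [(9,0)], [(15,0)], [(0,0)], [(76,0)], [(33,0)], [(14,0)], [(27,0)], [(108,0)], [(71,0)], [(113,0)], [(84,0)], [(175,0)], [(48,0)]])

def rel12 : ℕ × List (List (ℕ × ℕ)) := (12, [[(42,0)], [(121,0)], [(125,0)], [(225,0)], [(148,0)], [(208,0)], [(16,0)], [(267,0)], [(209,0)], [(8,0)], [(66,0)], [(126,0)], [(124,0)], [(149,0)], [(95,0)], [(43,0)], [(94,0)], [(249,0)], [(250,0)], [(67,0)], [(184,0)], [(228,0)], [(266,0)], [(20,0)], [(68,0)], [(185,0)], [(123,0)], [(55,0)], [(30,0)], [(279,0)], [(342,0)], [(122,0)], [(93,0)], [(259,0)], [(147,0)]])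

def rel13 : ℕ × List (List (ℕ × ℕ)) := (13, [[(45,0)], [(3,0)], [(21,0)], [(27,0)], [(104,0)], [(85,0)], [(230,0)], [(79,0)], [(39,0)], [(138,0)], [(49,0)], [(22,0)], [(0,0)], [(71,0)], [(78,0)], [(5,0)], [(171,0)], [(1,0)], [(9,0)], [(69,0)], [(48,0)], [(51,0)], [(28,0)], [(46,0)], [(132,0)], [(36,0)], [(87,0)], [(34,0)], [(108,0)], [(115,0)], [(7,0)], [(130,0)], [(14,0)], [(15,0)], [(40,0)]])

def rel14 : ℕ × List (List (ℕ × ℕ)) := (14, [[(48,0)], [(108,0)], [(0,0)], [(28,0)], [(15,0)], [(88,0)], [(52,0)], [(27,0)], [(71,0)], [(46,0)], [(138,0)], [(37,0)], [(36,0)], [(40,0)], [(104,0)], [(10,0)], [(13,0)], [(6,0)], [(2,0)], [(3,0)], [(130,0)], [(187,0)], [(79,0)], [(49,0)], [(116,0)], [(21,0)], [(136,0)], [(11,0)], [(69,0)], [(112,0)], [(25,0)], [(45,0)], [(171,0)], [(78,0)], [(39,0)]])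

def rel15 : ℕ × List (List (ℕ × ℕ)) := (16, [[(54,0)], [(144,0)], [(67,0)], [(97,0)], [(125,0)], [(209,0)], [(250,0)], [(185,0)], [(228,0)], [(279,0)], [(147,0)], [(68,0)], [(66,0)], [(126,0)], [(221,0)], [(20,0)], [(291,0)], [(8,0)], [(12,0)], [(148,0)], [(267,0)], [(208,0)], [(98,0)], [(55,0)], [(149,0)], [(184,0)], [(146,0)], [(43,0)], [(318,0)], [(249,0)], [(31,0)], [(145,0)], [(287,0)], [(96,0)], [(124,0)]])

def rel16 : ℕ × List (List (ℕ × ℕ)) := (17, [[(57,0)], [(4,0)], [(157,0)], [(285,0)], [(174,0)], [(167,0)], [(296,0)], [(242,0)], [(286,0)], [(161,0)], [(61,0)], [(72,0)], [(65,0)], [(178,0)], [(241,0)], [(59,0)], [(173,0)], [(169,0)], [(299,0)], [(70,0)], [(60,0)], [(63,0)], [(177,0)], [(58,0)], [(155,0)], [(163,0)], [(154,0)], [(352,0)], [(109,0)], [(357,0)], [(142,0)], [(153,0)], [(18,0)], [(19,0)], [(243,0)]])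

def rel17 : ℕ × List (List (ℕ × ℕ)) := (18, [[(60,0)], [(109,0)], [(65,0)], [(177,0)], [(19,0)], [(314,0)], [(64,0)], [(285,0)], [(178,0)], [(58,0)], [(161,0)], [(110,0)], [(163,0)], [(243,0)], [(174,0)], [(62,0)], [(17,0)], [(304,0)], [(170,0)], [(4,0)], [(153,0)], [(294,0)], [(242,0)], [(61,0)], [(162,0)], [(157,0)], [(159,0)], [(143,0)], [(70,0)], [(165,0)], [(323,0)], [(57,0)], [(173,0)], [(241,0)], [(286,0)]])

def rel18 : ℕ × List (List (ℕ × ℕ)) := (19, [[(63,0)], [(142,0)], [(170,0)], [(178,0)], [(243,0)], [(155,0)], [(162,0)], [(174,0)], [(241,0)], [(303,0)], [(167,0)], [(4,0)], [(169,0)], [(18,0)], [(173,0)], [(65,0)], [(286,0)], [(59,0)], [(62,0)], [(143,0)], [(293,0)], [(154,0)], [(17,0)], [(64,0)], [(61,0)], [(312,0)], [(57,0)], [(110,0)], [(317,0)], [(159,0)], [(72,0)], [(165,0)], [(285,0)], [(177,0)], [(242,0)]])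

def rel19 : ℕ × List (List (ℕ × ℕ)) := (20, [[(66,0)], [(8,0)], [(126,0)], [(342,0)], [(43,0)], [(225,0)], [(125,0)], [(319,0)], [(343,0)], [(122,0)], [(94,0)], [(16,0)], [(98,0)], [(55,0)], [(318,0)], [(68,0)], [(42,0)], [(146,0)], [(149,0)], [(12,0)], [(93,0)], [(96,0)], [(54,0)], [(67,0)], [(148,0)], [(221,0)], [(144,0)], [(250,0)], [(184,0)], [(262,0)], [(208,0)], [(121,0)], [(30,0)], [(31,0)], [(320,0)]])

def rel20 : ℕ × List (List (ℕ × ℕ)) := (21, [[(24,0)], [(75,0)], [(13,0)], [(51,0)], [(22,0)], [(112,0)], [(71,0)], [(187,0)], [(52,0)], [(2,0)], [(33,0)], [(104,0)], [(171,0)], [(230,0)], [(37,0)], [(69,0)], [(0,0)], [(130,0)], [(46,0)], [(5,0)], [(6,0)], [(27,0)], [(203,0)], [(9,0)], [(34,0)], [(14,0)], [(76,0)], [(132,0)], [(10,0)], [(88,0)], [(84,0)], [(1,0)], [(36,0)], [(183,0)], [(188,0)]])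

def rel21 : ℕ × List (List (ℕ × ℕ)) := (22, [[(28,0)], [(87,0)], [(46,0)], [(52,0)], [(230,0)], [(11,0)], [(34,0)], [(37,0)], [(183,0)], [(102,0)], [(175,0)], [(5,0)], [(45,0)], [(21,0)], [(36,0)], [(13,0)], [(188,0)], [(3,0)], [(69,0)], [(132,0)], [(25,0)], [(7,0)], [(0,0)], [(71,0)], [(9,0)], [(108,0)], [(1,0)], [(104,0)], [(78,0)], [(76,0)], [(15,0)], [(88,0)], [(187,0)], [(51,0)], [(203,0)]])

def rel22 : ℕ × List (List (ℕ × ℕ)) := (25, [[(78,0)], [(187,0)], [(190,0)], [(49,0)], [(85,0)], [(3,0)], [(7,0)], [(11,0)], [(69,0)], [(22,0)], [(87,0)], [(6,0)], [(136,0)], [(24,0)], [(9,0)], [(79,0)], [(132,0)], [(37,0)], [(76,0)], [(88,0)], [(102,0)], [(108,0)], [(10,0)], [(28,0)], [(1,0)], [(34,0)], [(36,0)], [(27,0)], [(71,0)], [(183,0)], [(14,0)], [(188,0)], [(175,0)], [(48,0)], [(84,0)]])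

def rel23 : ℕ × List (List (ℕ × ℕ)) := (26, [[(81,0)], [(195,0)], [(199,0)], [(288,0)], [(214,0)], [(131,0)], [(29,0)], [(246,0)], [(133,0)], [(23,0)], [(99,0)], [(200,0)], [(198,0)], [(215,0)], [(180,0)], [(82,0)], [(156,0)], [(277,0)], [(325,0)], [(100,0)], [(103,0)], [(240,0)], [(337,0)], [(32,0)], [(101,0)], [(105,0)], [(197,0)], [(91,0)], [(73,0)], [(247,0)], [(268,0)], [(196,0)], [(179,0)], [(332,0)], [(213,0)]])

def rel24 : ℕ × List (List (ℕ × ℕ)) := (27, [[(84,0)], [(183,0)], [(1,0)], [(13,0)], [(28,0)], [(46,0)], [(88,0)], [(71,0)], [(14,0)], [(52,0)], [(113,0)], [(76,0)], [(75,0)], [(79,0)], [(40,0)], [(24,0)], [(15,0)], [(21,0)], [(6,0)], [(7,0)], [(112,0)], [(130,0)], [(104,0)], [(85,0)], [(190,0)], [(2,0)], [(203,0)], [(25,0)], [(11,0)], [(187,0)], [(69,0)], [(51,0)], [(39,0)], [(171,0)], [(78,0)]])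

def rel25 : ℕ × List (List (ℕ × ℕ)) := (29, [[(90,0)], [(210,0)], [(100,0)], [(182,0)], [(199,0)], [(133,0)], [(325,0)], [(105,0)], [(240,0)], [(247,0)], [(213,0)], [(101,0)], [(99,0)], [(200,0)], [(261,0)], [(32,0)], [(346,0)], [(23,0)], [(26,0)], [(214,0)], [(246,0)], [(131,0)], [(158,0)], [(91,0)], [(215,0)], [(103,0)], [(212,0)], [(82,0)], [(229,0)], [(277,0)], [(74,0)], [(211,0)], [(344,0)], [(181,0)], [(198,0)]])

def rel26 : ℕ × List (List (ℕ × ℕ)) := (30, [[(93,0)], [(184,0)], [(98,0)], [(54,0)], [(31,0)], [(145,0)], [(97,0)], [(342,0)], [(55,0)], [(67,0)], [(122,0)], [(185,0)], [(221,0)], [(320,0)], [(43,0)], [(95,0)], [(20,0)], [(289,0)], [(227,0)], [(8,0)], [(121,0)], [(287,0)], [(319,0)], [(94,0)], [(220,0)], [(126,0)], [(218,0)], [(209,0)], [(12,0)], [(223,0)], [(267,0)], [(66,0)], [(42,0)], [(318,0)], [(343,0)]])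

def rel27 : ℕ × List (List (ℕ × ℕ)) := (31, [[(96,0)], [(208,0)], [(227,0)], [(55,0)], [(320,0)], [(148,0)], [(220,0)], [(43,0)], [(318,0)], [(260,0)], [(225,0)], [(8,0)], [(146,0)], [(30,0)], [(42,0)], [(98,0)], [(343,0)], [(68,0)], [(95,0)], [(209,0)], [(259,0)], [(144,0)], [(20,0)], [(97,0)], [(94,0)], [(123,0)], [(66,0)], [(185,0)], [(228,0)], [(218,0)], [(16,0)], [(223,0)], [(342,0)], [(54,0)], [(319,0)]])

def rel28 : ℕ × List (List (ℕ × ℕ)) := (32, [[(99,0)], [(23,0)], [(200,0)], [(268,0)], [(82,0)], [(288,0)], [(199,0)], [(232,0)], [(270,0)], [(196,0)], [(156,0)], [(29,0)], [(158,0)], [(91,0)], [(229,0)], [(101,0)], [(81,0)], [(212,0)], [(215,0)], [(26,0)], [(179,0)], [(181,0)], [(90,0)], [(100,0)], [(214,0)], [(261,0)], [(210,0)], [(325,0)], [(103,0)], [(334,0)], [(131,0)], [(195,0)], [(73,0)], [(74,0)], [(233,0)]])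

def rel29 : ℕ × List (List (ℕ × ℕ)) := (33, [[(2,0)], [(9,0)], [(78,0)], [(136,0)], [(108,0)], [(203,0)], [(171,0)], [(45,0)], [(190,0)], [(24,0)], [(21,0)], [(39,0)], [(71,0)], [(113,0)], [(7,0)], [(102,0)], [(6,0)], [(175,0)], [(188,0)], [(36,0)], [(0,0)], [(40,0)], [(112,0)], [(75,0)], [(183,0)], [(28,0)], [(11,0)], [(138,0)], [(1,0)], [(49,0)], [(115,0)], [(10,0)], [(5,0)], [(34,0)], [(46,0)]])

def rel30 : ℕ × List (List (ℕ × ℕ)) := (34, [[(40,0)], [(115,0)], [(132,0)], [(113,0)], [(46,0)], [(183,0)], [(69,0)], [(108,0)], [(7,0)], [(76,0)], [(203,0)], [(9,0)], [(175,0)], [(5,0)], [(6,0)], [(71,0)], [(190,0)], [(102,0)], [(22,0)], [(230,0)], [(37,0)], [(11,0)], [(33,0)], [(104,0)], [(21,0)], [(25,0)], [(2,0)], [(13,0)], [(79,0)], [(3,0)], [(39,0)], [(116,0)], [(136,0)], [(112,0)], [(45,0)]])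

def rel31 : ℕ × List (List (ℕ × ℕ)) := (35, [[(44,0)], [(127,0)], [(238,0)], [(252,0)], [(355,0)], [(204,0)], [(172,0)], [(137,0)], [(205,0)], [(77,0)], [(219,0)], [(239,0)], [(237,0)], [(356,0)], [(202,0)], [(107,0)], [(201,0)], [(313,0)], [(269,0)], [(235,0)], [(38,0)], [(41,0)], [(253,0)], [(106,0)], [(236,0)], [(80,0)], [(129,0)], [(271,0)], [(83,0)], [(139,0)], [(118,0)], [(128,0)], [(160,0)], [(251,0)], [(290,0)]])

def rel32 : ℕ × List (List (ℕ × ℕ)) := (36, [[(6,0)], [(10,0)], [(171,0)], [(203,0)], [(183,0)], [(115,0)], [(39,0)], [(51,0)], [(230,0)], [(9,0)], [(2,0)], [(78,0)], [(14,0)], [(188,0)], [(22,0)], [(108,0)], [(21,0)], [(48,0)], [(138,0)], [(75,0)], [(1,0)], [(79,0)], [(187,0)], [(33,0)], [(102,0)], [(13,0)], [(25,0)], [(113,0)], [(5,0)], [(85,0)], [(136,0)], [(24,0)], [(0,0)], [(37,0)], [(52,0)]])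

def rel33 : ℕ × List (List (ℕ × ℕ)) := (37, [[(79,0)], [(136,0)], [(49,0)], [(188,0)], [(52,0)], [(102,0)], [(11,0)], [(183,0)], [(22,0)], [(34,0)], [(115,0)], [(10,0)], [(48,0)], [(0,0)], [(21,0)], [(14,0)], [(230,0)], [(108,0)], [(3,0)], [(116,0)], [(76,0)], [(25,0)], [(36,0)], [(40,0)], [(2,0)], [(69,0)], [(6,0)], [(15,0)], [(104,0)], [(7,0)], [(78,0)], [(190,0)], [(203,0)], [(187,0)], [(51,0)]])

def rel34 : ℕ × List (List (ℕ × ℕ)) := (38, [[(83,0)], [(160,0)], [(245,0)], [(326,0)], [(255,0)], [(313,0)], [(41,0)], [(204,0)], [(269,0)], [(35,0)], [(127,0)], [(164,0)], [(244,0)], [(256,0)], [(236,0)], [(111,0)], [(235,0)], [(137,0)], [(139,0)], [(128,0)], [(77,0)], [(80,0)], [(306,0)], [(44,0)], [(129,0)], [(172,0)], [(202,0)], [(119,0)], [(106,0)], [(205,0)], [(192,0)], [(201,0)], [(219,0)], [(302,0)], [(254,0)]])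

def rel35 : ℕ × List (List (ℕ × ℕ)) := (42, [[(121,0)], [(12,0)], [(221,0)], [(319,0)], [(318,0)], [(264,0)], [(291,0)], [(54,0)], [(320,0)], [(94,0)], [(67,0)], [(228,0)], [(126,0)], [(343,0)], [(31,0)], [(123,0)], [(30,0)], [(266,0)], [(292,0)], [(184,0)], [(66,0)], [(124,0)], [(342,0)], [(122,0)], [(260,0)], [(98,0)], [(259,0)], [(279,0)], [(8,0)], [(147,0)], [(249,0)], [(93,0)], [(20,0)], [(43,0)], [(55,0)]])

def rel36 : ℕ × List (List (ℕ × ℕ)) := (43, [[(124,0)], [(249,0)], [(149,0)], [(343,0)], [(55,0)], [(260,0)], [(148,0)], [(318,0)], [(31,0)], [(220,0)], [(264,0)], [(12,0)], [(266,0)], [(20,0)], [(30,0)], [(126,0)], [(320,0)], [(123,0)], [(68,0)], [(250,0)], [(218,0)], [(259,0)], [(42,0)], [(125,0)], [(67,0)], [(95,0)], [(121,0)], [(16,0)], [(185,0)], [(144,0)], [(228,0)], [(262,0)], [(319,0)], [(342,0)], [(54,0)]])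

def rel37 : ℕ × List (List (ℕ × ℕ)) := (44, [[(127,0)], [(35,0)], [(164,0)], [(192,0)], [(111,0)], [(326,0)], [(245,0)], [(278,0)], [(193,0)], [(201,0)], [(235,0)], [(41,0)], [(239,0)], [(119,0)], [(186,0)], [(129,0)], [(83,0)], [(253,0)], [(256,0)], [(38,0)], [(219,0)], [(237,0)], [(118,0)], [(128,0)], [(255,0)], [(222,0)], [(251,0)], [(139,0)], [(77,0)], [(290,0)], [(313,0)], [(160,0)], [(106,0)], [(107,0)], [(271,0)]])

def rel38 : ℕ × List (List (ℕ × ℕ)) := (45, [[(3,0)], [(13,0)], [(187,0)], [(6,0)], [(136,0)], [(24,0)], [(203,0)], [(190,0)], [(33,0)], [(171,0)], [(69,0)], [(51,0)], [(22,0)], [(112,0)], [(113,0)], [(87,0)], [(108,0)], [(28,0)], [(175,0)], [(48,0)], [(49,0)], [(0,0)], [(7,0)], [(130,0)], [(84,0)], [(188,0)], [(15,0)], [(115,0)], [(138,0)], [(40,0)], [(1,0)], [(14,0)], [(46,0)], [(5,0)], [(34,0)]])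

def rel39 : ℕ × List (List (ℕ × ℕ)) := (46, [[(49,0)], [(138,0)], [(22,0)], [(7,0)], [(5,0)], [(27,0)], [(21,0)], [(6,0)], [(112,0)], [(130,0)], [(171,0)], [(230,0)], [(188,0)], [(34,0)], [(136,0)], [(132,0)], [(45,0)], [(88,0)], [(71,0)], [(13,0)], [(14,0)], [(52,0)], [(190,0)], [(69,0)], [(104,0)], [(187,0)], [(116,0)], [(9,0)], [(48,0)], [(2,0)], [(85,0)], [(3,0)], [(108,0)], [(113,0)], [(33,0)]])

def rel40 : ℕ × List (List (ℕ × ℕ)) := (47, [[(56,0)], [(150,0)], [(275,0)], [(216,0)], [(353,0)], [(86,0)], [(231,0)], [(191,0)], [(114,0)], [(311,0)], [(272,0)], [(276,0)], [(224,0)], [(354,0)], [(282,0)], [(135,0)], [(281,0)], [(89,0)], [(176,0)], [(273,0)], [(50,0)], [(53,0)], [(217,0)], [(134,0)], [(274,0)], [(189,0)], [(152,0)], [(234,0)], [(140,0)], [(117,0)], [(92,0)], [(151,0)], [(280,0)], [(166,0)], [(263,0)]])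

def rel41 : ℕ × List (List (ℕ × ℕ)) := (48, [[(108,0)], [(14,0)], [(203,0)], [(24,0)], [(84,0)], [(1,0)], [(51,0)], [(85,0)], [(9,0)], [(13,0)], [(3,0)], [(187,0)], [(37,0)], [(175,0)], [(132,0)], [(136,0)], [(69,0)], [(79,0)], [(115,0)], [(130,0)], [(138,0)], [(36,0)], [(25,0)], [(45,0)], [(87,0)], [(230,0)], [(78,0)], [(112,0)], [(46,0)], [(39,0)], [(6,0)], [(171,0)], [(49,0)], [(10,0)], [(11,0)]])

def rel42 : ℕ × List (List (ℕ × ℕ)) := (49, [[(138,0)], [(46,0)], [(37,0)], [(25,0)], [(10,0)], [(28,0)], [(0,0)], [(24,0)], [(175,0)], [(45,0)], [(13,0)], [(52,0)], [(230,0)], [(11,0)], [(84,0)], [(116,0)], [(48,0)], [(190,0)], [(40,0)], [(14,0)], [(171,0)], [(188,0)], [(85,0)], [(3,0)], [(15,0)], [(203,0)], [(113,0)], [(2,0)], [(130,0)], [(33,0)], [(88,0)], [(108,0)], [(69,0)], [(132,0)], [(9,0)]])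

def rel43 : ℕ × List (List (ℕ × ℕ)) := (50, [[(140,0)], [(280,0)], [(265,0)], [(226,0)], [(168,0)], [(89,0)], [(53,0)], [(86,0)], [(176,0)], [(47,0)], [(150,0)], [(284,0)], [(283,0)], [(258,0)], [(274,0)], [(141,0)], [(273,0)], [(191,0)], [(117,0)], [(151,0)], [(311,0)], [(189,0)], [(331,0)], [(56,0)], [(152,0)], [(231,0)], [(282,0)], [(120,0)], [(134,0)], [(114,0)], [(194,0)], [(281,0)], [(272,0)], [(330,0)], [(257,0)]])

def rel44 : ℕ × List (List (ℕ × ℕ)) := (54, [[(144,0)], [(16,0)], [(289,0)], [(30,0)], [(319,0)], [(94,0)], [(264,0)], [(320,0)], [(42,0)], [(291,0)], [(148,0)], [(208,0)], [(68,0)], [(342,0)], [(343,0)], [(146,0)], [(318,0)], [(98,0)], [(266,0)], [(267,0)], [(147,0)], [(66,0)], [(31,0)], [(145,0)], [(225,0)], [(292,0)], [(96,0)], [(249,0)], [(279,0)], [(124,0)], [(8,0)], [(287,0)], [(55,0)], [(20,0)], [(43,0)]])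

def rel45 : ℕ × List (List (ℕ × ℕ)) := (55, [[(147,0)], [(279,0)], [(68,0)], [(31,0)], [(20,0)], [(97,0)], [(67,0)], [(30,0)], [(342,0)], [(145,0)], [(291,0)], [(250,0)], [(292,0)], [(43,0)], [(319,0)], [(149,0)], [(54,0)], [(227,0)], [(126,0)], [(16,0)], [(287,0)], [(223,0)], [(320,0)], [(148,0)], [(125,0)], [(289,0)], [(262,0)], [(12,0)], [(267,0)], [(121,0)], [(209,0)], [(144,0)], [(318,0)], [(343,0)], [(42,0)]])

def rel46 : ℕ × List (List (ℕ × ℕ)) := (56, [[(150,0)], [(47,0)], [(284,0)], [(194,0)], [(141,0)], [(226,0)], [(265,0)], [(207,0)], [(248,0)], [(281,0)], [(273,0)], [(53,0)], [(276,0)], [(120,0)], [(206,0)], [(152,0)], [(140,0)], [(217,0)], [(258,0)], [(50,0)], [(272,0)], [(224,0)], [(92,0)], [(151,0)], [(168,0)], [(339,0)], [(166,0)], [(117,0)], [(311,0)], [(263,0)], [(89,0)], [(280,0)], [(134,0)], [(135,0)], [(234,0)]])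

def rel47 : ℕ × List (List (ℕ × ℕ)) := (57, [[(4,0)], [(17,0)], [(294,0)], [(304,0)], [(159,0)], [(298,0)], [(301,0)], [(309,0)], [(305,0)], [(173,0)], [(70,0)], [(63,0)], [(72,0)], [(165,0)], [(303,0)], [(154,0)], [(109,0)], [(177,0)], [(307,0)], [(60,0)], [(61,0)], [(65,0)], [(142,0)], [(153,0)], [(293,0)], [(295,0)], [(19,0)], [(357,0)], [(161,0)], [(243,0)], [(169,0)], [(18,0)], [(58,0)], [(59,0)], [(352,0)]])

def rel48 : ℕ × List (List (ℕ × ℕ)) := (58, [[(61,0)], [(161,0)], [(72,0)], [(142,0)], [(59,0)], [(285,0)], [(157,0)], [(304,0)], [(165,0)], [(153,0)], [(173,0)], [(296,0)], [(295,0)], [(352,0)], [(159,0)], [(155,0)], [(57,0)], [(314,0)], [(178,0)], [(17,0)], [(18,0)], [(64,0)], [(309,0)], [(70,0)], [(174,0)], [(294,0)], [(162,0)], [(299,0)], [(60,0)], [(170,0)], [(167,0)], [(4,0)], [(109,0)], [(303,0)], [(305,0)]])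

def rel49 : ℕ × List (List (ℕ × ℕ)) := (59, [[(65,0)], [(169,0)], [(178,0)], [(165,0)], [(352,0)], [(293,0)], [(174,0)], [(159,0)], [(303,0)], [(312,0)], [(298,0)], [(17,0)], [(177,0)], [(58,0)], [(109,0)], [(72,0)], [(305,0)], [(154,0)], [(155,0)], [(299,0)], [(62,0)], [(19,0)], [(57,0)], [(157,0)], [(70,0)], [(241,0)], [(4,0)], [(296,0)], [(163,0)], [(162,0)], [(63,0)], [(170,0)], [(304,0)], [(142,0)], [(309,0)]])

def rel50 : ℕ × List (List (ℕ × ℕ)) := (60, [[(109,0)], [(18,0)], [(301,0)], [(298,0)], [(293,0)], [(169,0)], [(63,0)], [(167,0)], [(299,0)], [(17,0)], [(4,0)], [(294,0)], [(110,0)], [(307,0)], [(155,0)], [(159,0)], [(70,0)], [(242,0)], [(357,0)], [(153,0)], [(161,0)], [(163,0)], [(323,0)], [(57,0)], [(154,0)], [(296,0)], [(241,0)], [(165,0)], [(58,0)], [(286,0)], [(304,0)], [(173,0)], [(61,0)], [(62,0)], [(143,0)]])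

def rel51 : ℕ × List (List (ℕ × ℕ)) := (61, [[(161,0)], [(58,0)], [(110,0)], [(323,0)], [(62,0)], [(177,0)], [(65,0)], [(298,0)], [(307,0)], [(57,0)], [(17,0)], [(64,0)], [(296,0)], [(143,0)], [(293,0)], [(162,0)], [(60,0)], [(309,0)], [(243,0)], [(18,0)], [(173,0)], [(295,0)], [(167,0)], [(4,0)], [(19,0)], [(301,0)], [(303,0)], [(170,0)], [(153,0)], [(305,0)], [(314,0)], [(109,0)], [(70,0)], [(155,0)], [(299,0)]])

def rel52 : ℕ × List (List (ℕ × ℕ)) := (63, [[(142,0)], [(19,0)], [(153,0)], [(157,0)], [(301,0)], [(299,0)], [(357,0)], [(296,0)], [(163,0)], [(286,0)], [(143,0)], [(154,0)], [(4,0)], [(294,0)], [(295,0)], [(57,0)], [(317,0)], [(17,0)], [(60,0)], [(293,0)], [(167,0)], [(169,0)], [(72,0)], [(165,0)], [(307,0)], [(161,0)], [(177,0)], [(159,0)], [(303,0)], [(242,0)], [(59,0)], [(285,0)], [(64,0)], [(65,0)], [(110,0)]])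

def rel53 : ℕ × List (List (ℕ × ℕ)) := (64, [[(167,0)], [(303,0)], [(4,0)], [(72,0)], [(65,0)], [(178,0)], [(170,0)], [(157,0)], [(294,0)], [(165,0)], [(286,0)], [(162,0)], [(161,0)], [(110,0)], [(301,0)], [(61,0)], [(63,0)], [(58,0)], [(18,0)], [(19,0)], [(285,0)], [(314,0)], [(296,0)], [(143,0)], [(243,0)], [(153,0)], [(309,0)], [(62,0)], [(293,0)], [(304,0)], [(155,0)], [(142,0)], [(317,0)], [(295,0)], [(163,0)]])

def rel54 : ℕ × List (List (ℕ × ℕ)) := (66, [[(8,0)], [(20,0)], [(287,0)], [(289,0)], [(218,0)], [(266,0)], [(124,0)], [(264,0)], [(292,0)], [(42,0)], [(12,0)], [(96,0)], [(16,0)], [(223,0)], [(260,0)], [(144,0)], [(184,0)], [(54,0)], [(147,0)], [(93,0)], [(94,0)], [(98,0)], [(208,0)], [(121,0)], [(259,0)], [(291,0)], [(31,0)], [(262,0)], [(122,0)], [(320,0)], [(146,0)], [(30,0)], [(67,0)], [(68,0)], [(250,0)]])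

def rel55 : ℕ × List (List (ℕ × ℕ)) := (67, [[(94,0)], [(122,0)], [(16,0)], [(208,0)], [(68,0)], [(342,0)], [(126,0)], [(289,0)], [(223,0)], [(121,0)], [(42,0)], [(125,0)], [(291,0)], [(250,0)], [(218,0)], [(148,0)], [(66,0)], [(145,0)], [(55,0)], [(20,0)], [(30,0)], [(97,0)], [(264,0)], [(12,0)], [(43,0)], [(287,0)], [(220,0)], [(149,0)], [(93,0)], [(227,0)], [(225,0)], [(8,0)], [(184,0)], [(260,0)], [(292,0)]])

def rel56 : ℕ × List (List (ℕ × ℕ)) := (68, [[(98,0)], [(146,0)], [(55,0)], [(223,0)], [(250,0)], [(259,0)], [(43,0)], [(218,0)], [(260,0)], [(123,0)], [(266,0)], [(20,0)], [(54,0)], [(67,0)], [(184,0)], [(16,0)], [(292,0)], [(144,0)], [(148,0)], [(149,0)], [(95,0)], [(31,0)], [(66,0)], [(126,0)], [(12,0)], [(318,0)], [(8,0)], [(125,0)], [(221,0)], [(220,0)], [(96,0)], [(227,0)], [(289,0)], [(208,0)], [(264,0)]])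

def rel57 : ℕ × List (List (ℕ × ℕ)) := (70, [[(173,0)], [(153,0)], [(296,0)], [(167,0)], [(155,0)], [(142,0)], [(72,0)], [(323,0)], [(143,0)], [(4,0)], [(57,0)], [(157,0)], [(301,0)], [(299,0)], [(62,0)], [(174,0)], [(61,0)], [(338,0)], [(352,0)], [(58,0)], [(109,0)], [(317,0)], [(298,0)], [(17,0)], [(59,0)], [(110,0)], [(312,0)], [(178,0)], [(18,0)], [(324,0)], [(285,0)], [(161,0)], [(60,0)], [(293,0)], [(307,0)]])

def rel58 : ℕ × List (List (ℕ × ℕ)) := (72, [[(177,0)], [(154,0)], [(58,0)], [(64,0)], [(296,0)], [(143,0)], [(352,0)], [(110,0)], [(317,0)], [(324,0)], [(307,0)], [(59,0)], [(57,0)], [(157,0)], [(163,0)], [(17,0)], [(295,0)], [(4,0)], [(70,0)], [(155,0)], [(323,0)], [(142,0)], [(65,0)], [(178,0)], [(299,0)], [(109,0)], [(169,0)], [(174,0)], [(241,0)], [(338,0)], [(19,0)], [(314,0)], [(294,0)], [(63,0)], [(301,0)]])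

def rel59 : ℕ × List (List (ℕ × ℕ)) := (73, [[(179,0)], [(103,0)], [(158,0)], [(90,0)], [(74,0)], [(211,0)], [(182,0)], [(268,0)], [(91,0)], [(100,0)], [(196,0)], [(105,0)], [(261,0)], [(233,0)], [(82,0)], [(180,0)], [(32,0)], [(345,0)], [(300,0)], [(23,0)], [(195,0)], [(344,0)], [(232,0)], [(156,0)], [(297,0)], [(200,0)], [(315,0)], [(133,0)], [(26,0)], [(316,0)], [(246,0)], [(99,0)], [(81,0)], [(229,0)], [(270,0)]])

def rel60 : ℕ × List (List (ℕ × ℕ)) := (74, [[(181,0)], [(131,0)], [(300,0)], [(91,0)], [(233,0)], [(214,0)], [(297,0)], [(82,0)], [(229,0)], [(333,0)], [(288,0)], [(23,0)], [(212,0)], [(73,0)], [(81,0)], [(158,0)], [(270,0)], [(101,0)], [(180,0)], [(133,0)], [(332,0)], [(210,0)], [(32,0)], [(182,0)], [(156,0)], [(197,0)], [(99,0)], [(105,0)], [(240,0)], [(315,0)], [(29,0)], [(316,0)], [(268,0)], [(90,0)], [(232,0)]])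

def rel61 : ℕ × List (List (ℕ × ℕ)) := (77, [[(106,0)], [(219,0)], [(322,0)], [(358,0)], [(328,0)], [(137,0)], [(80,0)], [(313,0)], [(139,0)], [(38,0)], [(160,0)], [(222,0)], [(321,0)], [(329,0)], [(129,0)], [(186,0)], [(128,0)], [(204,0)], [(205,0)], [(201,0)], [(35,0)], [(172,0)], [(349,0)], [(83,0)], [(202,0)], [(41,0)], [(236,0)], [(193,0)], [(44,0)], [(269,0)], [(278,0)], [(235,0)], [(127,0)], [(348,0)], [(327,0)]])

def rel62 : ℕ × List (List (ℕ × ℕ)) := (80, [[(192,0)], [(302,0)], [(201,0)], [(245,0)], [(322,0)], [(139,0)], [(205,0)], [(41,0)], [(172,0)], [(269,0)], [(327,0)], [(202,0)], [(160,0)], [(222,0)], [(239,0)], [(83,0)], [(238,0)], [(38,0)], [(77,0)], [(328,0)], [(313,0)], [(137,0)], [(164,0)], [(193,0)], [(329,0)], [(35,0)], [(306,0)], [(186,0)], [(107,0)], [(204,0)], [(111,0)], [(326,0)], [(237,0)], [(244,0)], [(321,0)]])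

def rel63 : ℕ × List (List (ℕ × ℕ)) := (81, [[(195,0)], [(26,0)], [(261,0)], [(232,0)], [(229,0)], [(335,0)], [(346,0)], [(90,0)], [(233,0)], [(156,0)], [(100,0)], [(240,0)], [(200,0)], [(270,0)], [(74,0)], [(197,0)], [(73,0)], [(337,0)], [(347,0)], [(103,0)], [(99,0)], [(198,0)], [(268,0)], [(196,0)], [(333,0)], [(158,0)], [(332,0)], [(247,0)], [(23,0)], [(213,0)], [(277,0)], [(179,0)], [(32,0)], [(82,0)], [(91,0)]])

def rel64 : ℕ × List (List (ℕ × ℕ)) := (82, [[(198,0)], [(277,0)], [(215,0)], [(270,0)], [(91,0)], [(333,0)], [(214,0)], [(229,0)], [(74,0)], [(297,0)], [(335,0)], [(26,0)], [(337,0)], [(32,0)], [(73,0)], [(200,0)], [(233,0)], [(197,0)], [(101,0)], [(325,0)], [(315,0)], [(332,0)], [(81,0)], [(199,0)], [(100,0)], [(180,0)], [(195,0)], [(29,0)], [(105,0)], [(210,0)], [(240,0)], [(334,0)], [(232,0)], [(268,0)], [(90,0)]])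

def rel65 : ℕ × List (List (ℕ × ℕ)) := (83, [[(160,0)], [(38,0)], [(222,0)], [(278,0)], [(186,0)], [(358,0)], [(322,0)], [(118,0)], [(271,0)], [(235,0)], [(128,0)], [(80,0)], [(164,0)], [(193,0)], [(107,0)], [(202,0)], [(106,0)], [(306,0)], [(329,0)], [(77,0)], [(127,0)], [(244,0)], [(192,0)], [(201,0)], [(328,0)], [(239,0)], [(302,0)], [(205,0)], [(35,0)], [(254,0)], [(137,0)], [(219,0)], [(44,0)], [(111,0)], [(119,0)]])

def rel66 : ℕ × List (List (ℕ × ℕ)) := (86, [[(206,0)], [(308,0)], [(336,0)], [(273,0)], [(226,0)], [(47,0)], [(89,0)], [(176,0)], [(50,0)], [(53,0)], [(166,0)], [(341,0)], [(340,0)], [(331,0)], [(258,0)], [(207,0)], [(168,0)], [(231,0)], [(191,0)], [(216,0)], [(114,0)], [(311,0)], [(274,0)], [(92,0)], [(217,0)], [(117,0)], [(339,0)], [(194,0)], [(120,0)], [(189,0)], [(134,0)], [(310,0)], [(257,0)], [(272,0)], [(330,0)]])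

def rel67 : ℕ × List (List (ℕ × ℕ)) := (89, [[(135,0)], [(224,0)], [(216,0)], [(151,0)], [(336,0)], [(50,0)], [(191,0)], [(117,0)], [(311,0)], [(189,0)], [(330,0)], [(217,0)], [(166,0)], [(341,0)], [(359,0)], [(92,0)], [(351,0)], [(53,0)], [(86,0)], [(226,0)], [(176,0)], [(47,0)], [(152,0)], [(194,0)], [(331,0)], [(114,0)], [(276,0)], [(207,0)], [(248,0)], [(231,0)], [(56,0)], [(275,0)], [(350,0)], [(150,0)], [(340,0)]])

def rel68 : ℕ × List (List (ℕ × ℕ)) := (90, [[(210,0)], [(29,0)], [(345,0)], [(73,0)], [(232,0)], [(156,0)], [(335,0)], [(233,0)], [(81,0)], [(346,0)], [(214,0)], [(131,0)], [(101,0)], [(268,0)], [(270,0)], [(212,0)], [(229,0)], [(158,0)], [(337,0)], [(246,0)], [(213,0)], [(99,0)], [(74,0)], [(211,0)], [(288,0)], [(347,0)], [(181,0)], [(277,0)], [(247,0)], [(198,0)], [(23,0)], [(344,0)], [(91,0)], [(32,0)], [(82,0)]])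

def rel69 : ℕ × List (List (ℕ × ℕ)) := (91, [[(213,0)], [(247,0)], [(101,0)], [(74,0)], [(32,0)], [(182,0)], [(100,0)], [(73,0)], [(268,0)], [(211,0)], [(346,0)], [(325,0)], [(347,0)], [(82,0)], [(232,0)], [(215,0)], [(90,0)], [(300,0)], [(200,0)], [(29,0)], [(344,0)], [(316,0)], [(233,0)], [(214,0)], [(199,0)], [(345,0)], [(334,0)], [(26,0)], [(246,0)], [(195,0)], [(133,0)], [(210,0)], [(229,0)], [(270,0)], [(81,0)]])

def rel70 : ℕ × List (List (ℕ × ℕ)) := (92, [[(166,0)], [(53,0)], [(341,0)], [(134,0)], [(207,0)], [(273,0)], [(336,0)], [(234,0)], [(140,0)], [(310,0)], [(168,0)], [(89,0)], [(152,0)], [(194,0)], [(248,0)], [(217,0)], [(206,0)], [(276,0)], [(331,0)], [(86,0)], [(257,0)], [(150,0)], [(135,0)], [(216,0)], [(226,0)], [(359,0)], [(224,0)], [(191,0)], [(114,0)], [(283,0)], [(47,0)], [(308,0)], [(120,0)], [(56,0)], [(141,0)]])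

def rel71 : ℕ × List (List (ℕ × ℕ)) := (93, [[(184,0)], [(30,0)], [(124,0)], [(266,0)], [(259,0)], [(146,0)], [(96,0)], [(225,0)], [(149,0)], [(20,0)], [(8,0)], [(287,0)], [(185,0)], [(147,0)], [(148,0)], [(218,0)], [(12,0)], [(319,0)], [(262,0)], [(121,0)], [(122,0)], [(221,0)], [(267,0)], [(66,0)], [(144,0)], [(125,0)], [(318,0)], [(223,0)], [(67,0)], [(343,0)], [(289,0)], [(42,0)], [(94,0)], [(95,0)], [(209,0)]])

def rel72 : ℕ × List (List (ℕ × ℕ)) := (94, [[(122,0)], [(67,0)], [(185,0)], [(267,0)], [(95,0)], [(54,0)], [(98,0)], [(266,0)], [(147,0)], [(66,0)], [(20,0)], [(97,0)], [(125,0)], [(209,0)], [(259,0)], [(220,0)], [(93,0)], [(264,0)], [(320,0)], [(30,0)], [(42,0)], [(291,0)], [(225,0)], [(8,0)], [(31,0)], [(124,0)], [(260,0)], [(227,0)], [(121,0)], [(292,0)], [(145,0)], [(184,0)], [(12,0)], [(148,0)], [(149,0)]])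

def rel73 : ℕ × List (List (ℕ × ℕ)) := (95, [[(221,0)], [(289,0)], [(320,0)], [(147,0)], [(209,0)], [(144,0)], [(31,0)], [(259,0)], [(148,0)], [(68,0)], [(146,0)], [(30,0)], [(319,0)], [(94,0)], [(12,0)], [(185,0)], [(149,0)], [(218,0)], [(220,0)], [(227,0)], [(123,0)], [(318,0)], [(93,0)], [(98,0)], [(8,0)], [(43,0)], [(184,0)], [(97,0)], [(126,0)], [(260,0)], [(287,0)], [(292,0)], [(266,0)], [(267,0)], [(225,0)]])

def rel74 : ℕ × List (List (ℕ × ℕ)) := (97, [[(225,0)], [(260,0)], [(8,0)], [(16,0)], [(98,0)], [(55,0)], [(227,0)], [(126,0)], [(287,0)], [(223,0)], [(343,0)], [(220,0)], [(122,0)], [(185,0)], [(124,0)], [(94,0)], [(96,0)], [(67,0)], [(30,0)], [(31,0)], [(342,0)], [(145,0)], [(125,0)], [(209,0)], [(320,0)], [(121,0)], [(264,0)], [(95,0)], [(259,0)], [(289,0)], [(148,0)], [(208,0)], [(228,0)], [(291,0)], [(221,0)]])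

def rel75 : ℕ × List (List (ℕ × ℕ)) := (99, [[(23,0)], [(32,0)], [(344,0)], [(345,0)], [(315,0)], [(337,0)], [(198,0)], [(335,0)], [(347,0)], [(81,0)], [(26,0)], [(181,0)], [(29,0)], [(316,0)], [(333,0)], [(210,0)], [(103,0)], [(90,0)], [(213,0)], [(179,0)], [(156,0)], [(158,0)], [(131,0)], [(195,0)], [(332,0)], [(346,0)], [(74,0)], [(334,0)], [(196,0)], [(233,0)], [(212,0)], [(73,0)], [(100,0)], [(101,0)], [(325,0)]])

def rel76 : ℕ × List (List (ℕ × ℕ)) := (100, [[(156,0)], [(196,0)], [(29,0)], [(131,0)], [(101,0)], [(268,0)], [(200,0)], [(345,0)], [(316,0)], [(195,0)], [(81,0)], [(199,0)], [(346,0)], [(325,0)], [(315,0)], [(214,0)], [(99,0)], [(211,0)], [(91,0)], [(32,0)], [(73,0)], [(182,0)], [(335,0)], [(26,0)], [(82,0)], [(344,0)], [(297,0)], [(215,0)], [(179,0)], [(300,0)], [(288,0)], [(23,0)], [(103,0)], [(333,0)], [(347,0)]])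

def rel77 : ℕ × List (List (ℕ × ℕ)) := (101, [[(158,0)], [(212,0)], [(91,0)], [(316,0)], [(325,0)], [(332,0)], [(82,0)], [(315,0)], [(333,0)], [(197,0)], [(337,0)], [(32,0)], [(90,0)], [(100,0)], [(103,0)], [(29,0)], [(347,0)], [(210,0)], [(214,0)], [(215,0)], [(180,0)], [(74,0)], [(99,0)], [(200,0)], [(26,0)], [(229,0)], [(23,0)], [(199,0)], [(261,0)], [(297,0)], [(181,0)], [(300,0)], [(345,0)], [(131,0)], [(335,0)]])

def rel78 : ℕ × List (List (ℕ × ℕ)) := (103, [[(73,0)], [(179,0)], [(346,0)], [(335,0)], [(333,0)], [(277,0)], [(240,0)], [(131,0)], [(325,0)], [(26,0)], [(195,0)], [(261,0)], [(344,0)], [(347,0)], [(101,0)], [(229,0)], [(100,0)], [(246,0)], [(247,0)], [(196,0)], [(23,0)], [(105,0)], [(345,0)], [(81,0)], [(197,0)], [(29,0)], [(180,0)], [(270,0)], [(32,0)], [(133,0)], [(232,0)], [(156,0)], [(99,0)], [(315,0)], [(316,0)]])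

def rel79 : ℕ × List (List (ℕ × ℕ)) := (105, [[(232,0)], [(315,0)], [(156,0)], [(346,0)], [(182,0)], [(247,0)], [(133,0)], [(240,0)], [(29,0)], [(325,0)], [(334,0)], [(180,0)], [(179,0)], [(158,0)], [(200,0)], [(73,0)], [(199,0)], [(103,0)], [(23,0)], [(297,0)], [(277,0)], [(246,0)], [(261,0)], [(233,0)], [(300,0)], [(26,0)], [(345,0)], [(74,0)], [(82,0)], [(131,0)], [(229,0)], [(335,0)], [(198,0)], [(344,0)], [(181,0)]])

def rel80 : ℕ × List (List (ℕ × ℕ)) := (106, [[(219,0)], [(77,0)], [(239,0)], [(118,0)], [(107,0)], [(252,0)], [(238,0)], [(192,0)], [(119,0)], [(128,0)], [(201,0)], [(172,0)], [(222,0)], [(271,0)], [(111,0)], [(236,0)], [(44,0)], [(349,0)], [(356,0)], [(35,0)], [(160,0)], [(321,0)], [(278,0)], [(235,0)], [(355,0)], [(164,0)], [(348,0)], [(269,0)], [(38,0)], [(327,0)], [(204,0)], [(127,0)], [(83,0)], [(186,0)], [(193,0)]])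

def rel81 : ℕ × List (List (ℕ × ℕ)) := (107, [[(237,0)], [(313,0)], [(356,0)], [(119,0)], [(271,0)], [(255,0)], [(355,0)], [(111,0)], [(186,0)], [(328,0)], [(326,0)], [(35,0)], [(253,0)], [(106,0)], [(83,0)], [(239,0)], [(193,0)], [(129,0)], [(236,0)], [(269,0)], [(302,0)], [(251,0)], [(44,0)], [(238,0)], [(235,0)], [(202,0)], [(127,0)], [(172,0)], [(80,0)], [(348,0)], [(41,0)], [(327,0)], [(192,0)], [(118,0)], [(278,0)]])

def rel82 : ℕ × List (List (ℕ × ℕ)) := (110, [[(242,0)], [(159,0)], [(61,0)], [(295,0)], [(64,0)], [(324,0)], [(143,0)], [(317,0)], [(72,0)], [(352,0)], [(357,0)], [(62,0)], [(60,0)], [(65,0)], [(157,0)], [(18,0)], [(296,0)], [(109,0)], [(4,0)], [(162,0)], [(338,0)], [(323,0)], [(163,0)], [(243,0)], [(170,0)], [(70,0)], [(304,0)], [(19,0)], [(174,0)], [(142,0)], [(241,0)], [(309,0)], [(301,0)], [(294,0)], [(63,0)]])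

def rel83 : ℕ × List (List (ℕ × ℕ)) := (111, [[(244,0)], [(137,0)], [(256,0)], [(193,0)], [(119,0)], [(328,0)], [(255,0)], [(186,0)], [(107,0)], [(355,0)], [(358,0)], [(38,0)], [(306,0)], [(44,0)], [(106,0)], [(164,0)], [(271,0)], [(202,0)], [(129,0)], [(139,0)], [(348,0)], [(302,0)], [(83,0)], [(245,0)], [(128,0)], [(236,0)], [(160,0)], [(41,0)], [(172,0)], [(251,0)], [(80,0)], [(290,0)], [(278,0)], [(192,0)], [(118,0)]])

def rel84 : ℕ × List (List (ℕ × ℕ)) := (114, [[(120,0)], [(257,0)], [(351,0)], [(353,0)], [(281,0)], [(231,0)], [(311,0)], [(47,0)], [(191,0)], [(86,0)], [(308,0)], [(359,0)], [(350,0)], [(282,0)], [(217,0)], [(248,0)], [(216,0)], [(176,0)], [(189,0)], [(310,0)], [(53,0)], [(117,0)], [(354,0)], [(206,0)], [(339,0)], [(89,0)], [(258,0)], [(140,0)], [(92,0)], [(50,0)], [(234,0)], [(168,0)], [(166,0)], [(263,0)], [(280,0)]])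

def rel85 : ℕ × List (List (ℕ × ℕ)) := (117, [[(234,0)], [(263,0)], [(168,0)], [(351,0)], [(151,0)], [(189,0)], [(50,0)], [(311,0)], [(89,0)], [(191,0)], [(283,0)], [(258,0)], [(257,0)], [(152,0)], [(341,0)], [(120,0)], [(336,0)], [(114,0)], [(53,0)], [(265,0)], [(231,0)], [(176,0)], [(359,0)], [(141,0)], [(284,0)], [(86,0)], [(354,0)], [(56,0)], [(207,0)], [(47,0)], [(248,0)], [(353,0)], [(340,0)], [(350,0)], [(150,0)]])

def rel86 : ℕ × List (List (ℕ × ℕ)) := (118, [[(251,0)], [(41,0)], [(349,0)], [(106,0)], [(278,0)], [(235,0)], [(358,0)], [(271,0)], [(83,0)], [(322,0)], [(255,0)], [(313,0)], [(129,0)], [(192,0)], [(193,0)], [(253,0)], [(186,0)], [(239,0)], [(306,0)], [(204,0)], [(254,0)], [(127,0)], [(107,0)], [(252,0)], [(326,0)], [(329,0)], [(237,0)], [(137,0)], [(205,0)], [(244,0)], [(35,0)], [(321,0)], [(119,0)], [(44,0)], [(111,0)]])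

def rel87 : ℕ × List (List (ℕ × ℕ)) := (119, [[(254,0)], [(205,0)], [(129,0)], [(107,0)], [(44,0)], [(238,0)], [(128,0)], [(106,0)], [(192,0)], [(252,0)], [(322,0)], [(139,0)], [(329,0)], [(111,0)], [(278,0)], [(256,0)], [(118,0)], [(356,0)], [(164,0)], [(41,0)], [(321,0)], [(327,0)], [(271,0)], [(255,0)], [(245,0)], [(349,0)], [(290,0)], [(38,0)], [(204,0)], [(160,0)], [(269,0)], [(251,0)], [(186,0)], [(193,0)], [(83,0)]])

def rel88 : ℕ × List (List (ℕ × ℕ)) := (120, [[(257,0)], [(114,0)], [(152,0)], [(135,0)], [(56,0)], [(275,0)], [(151,0)], [(134,0)], [(194,0)], [(216,0)], [(310,0)], [(117,0)], [(359,0)], [(141,0)], [(207,0)], [(258,0)], [(92,0)], [(354,0)], [(284,0)], [(53,0)], [(308,0)], [(350,0)], [(234,0)], [(168,0)], [(265,0)], [(341,0)], [(263,0)], [(50,0)], [(86,0)], [(280,0)], [(176,0)], [(166,0)], [(206,0)], [(248,0)], [(140,0)]])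

def rel89 : ℕ × List (List (ℕ × ℕ)) := (121, [[(12,0)], [(42,0)], [(96,0)], [(146,0)], [(144,0)], [(289,0)], [(287,0)], [(145,0)], [(227,0)], [(30,0)], [(184,0)], [(124,0)], [(228,0)], [(262,0)], [(220,0)], [(259,0)], [(8,0)], [(342,0)], [(223,0)], [(66,0)], [(67,0)], [(126,0)], [(249,0)], [(93,0)], [(218,0)], [(97,0)], [(43,0)], [(147,0)], [(94,0)], [(55,0)], [(266,0)], [(20,0)], [(122,0)], [(123,0)], [(279,0)]])

def rel90 : ℕ × List (List (ℕ × ℕ)) := (122, [[(67,0)], [(94,0)], [(228,0)], [(249,0)], [(123,0)], [(319,0)], [(221,0)], [(146,0)], [(262,0)], [(93,0)], [(30,0)], [(291,0)], [(97,0)], [(279,0)], [(144,0)], [(260,0)], [(121,0)], [(225,0)], [(343,0)], [(42,0)], [(20,0)], [(125,0)], [(145,0)], [(184,0)], [(318,0)], [(96,0)], [(148,0)], [(292,0)], [(66,0)], [(149,0)], [(264,0)], [(12,0)], [(8,0)], [(220,0)], [(227,0)]])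

def rel91 : ℕ × List (List (ℕ × ℕ)) := (124, [[(249,0)], [(43,0)], [(93,0)], [(221,0)], [(287,0)], [(292,0)], [(147,0)], [(291,0)], [(98,0)], [(320,0)], [(250,0)], [(259,0)], [(12,0)], [(96,0)], [(97,0)], [(121,0)], [(185,0)], [(42,0)], [(66,0)], [(218,0)], [(264,0)], [(266,0)], [(228,0)], [(262,0)], [(223,0)], [(94,0)], [(342,0)], [(144,0)], [(220,0)], [(54,0)], [(123,0)], [(319,0)], [(125,0)], [(126,0)], [(16,0)]])

def rel92 : ℕ × List (List (ℕ × ℕ)) := (125, [[(264,0)], [(220,0)], [(12,0)], [(228,0)], [(126,0)], [(343,0)], [(149,0)], [(221,0)], [(96,0)], [(262,0)], [(320,0)], [(148,0)], [(94,0)], [(16,0)], [(287,0)], [(67,0)], [(124,0)], [(122,0)], [(20,0)], [(43,0)], [(319,0)], [(225,0)], [(291,0)], [(250,0)], [(55,0)], [(93,0)], [(145,0)], [(68,0)], [(218,0)], [(146,0)], [(260,0)], [(249,0)], [(185,0)], [(97,0)], [(98,0)]])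

def rel93 : ℕ × List (List (ℕ × ℕ)) := (127, [[(35,0)], [(44,0)], [(321,0)], [(349,0)], [(348,0)], [(306,0)], [(244,0)], [(358,0)], [(329,0)], [(83,0)], [(38,0)], [(237,0)], [(41,0)], [(327,0)], [(328,0)], [(251,0)], [(77,0)], [(118,0)], [(254,0)], [(219,0)], [(235,0)], [(239,0)], [(313,0)], [(160,0)], [(302,0)], [(322,0)], [(107,0)], [(290,0)], [(201,0)], [(271,0)], [(253,0)], [(106,0)], [(128,0)], [(129,0)], [(139,0)]])

def rel94 : ℕ × List (List (ℕ × ℕ)) := (128, [[(235,0)], [(201,0)], [(41,0)], [(313,0)], [(129,0)], [(192,0)], [(164,0)], [(349,0)], [(327,0)], [(160,0)], [(83,0)], [(245,0)], [(322,0)], [(139,0)], [(348,0)], [(255,0)], [(127,0)], [(252,0)], [(119,0)], [(44,0)], [(106,0)], [(238,0)], [(358,0)], [(38,0)], [(111,0)], [(321,0)], [(355,0)], [(256,0)], [(219,0)], [(356,0)], [(326,0)], [(35,0)], [(77,0)], [(328,0)], [(329,0)]])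

def rel95 : ℕ × List (List (ℕ × ℕ)) := (129, [[(239,0)], [(253,0)], [(119,0)], [(327,0)], [(139,0)], [(302,0)], [(111,0)], [(348,0)], [(328,0)], [(202,0)], [(306,0)], [(44,0)], [(118,0)], [(128,0)], [(77,0)], [(41,0)], [(329,0)], [(251,0)], [(255,0)], [(256,0)], [(236,0)], [(107,0)], [(127,0)], [(164,0)], [(38,0)], [(186,0)], [(35,0)], [(245,0)], [(222,0)], [(355,0)], [(237,0)], [(356,0)], [(349,0)], [(313,0)], [(358,0)]])

def rel96 : ℕ × List (List (ℕ × ℕ)) := (133, [[(270,0)], [(316,0)], [(297,0)], [(214,0)], [(156,0)], [(29,0)], [(23,0)], [(26,0)], [(246,0)], [(131,0)], [(181,0)], [(300,0)], [(334,0)], [(180,0)], [(337,0)], [(233,0)], [(288,0)], [(325,0)], [(105,0)], [(182,0)], [(240,0)], [(247,0)], [(215,0)], [(74,0)], [(158,0)], [(277,0)], [(347,0)], [(73,0)], [(268,0)], [(103,0)], [(91,0)], [(333,0)], [(332,0)], [(213,0)], [(179,0)]])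

def rel97 : ℕ × List (List (ℕ × ℕ)) := (134, [[(272,0)], [(311,0)], [(276,0)], [(92,0)], [(135,0)], [(216,0)], [(275,0)], [(194,0)], [(120,0)], [(151,0)], [(281,0)], [(231,0)], [(339,0)], [(234,0)], [(141,0)], [(274,0)], [(56,0)], [(341,0)], [(354,0)], [(47,0)], [(280,0)], [(308,0)], [(207,0)], [(273,0)], [(353,0)], [(284,0)], [(340,0)], [(176,0)], [(50,0)], [(350,0)], [(86,0)], [(150,0)], [(140,0)], [(206,0)], [(248,0)]])

def rel98 : ℕ × List (List (ℕ × ℕ)) := (135, [[(224,0)], [(89,0)], [(354,0)], [(120,0)], [(234,0)], [(168,0)], [(353,0)], [(141,0)], [(206,0)], [(351,0)], [(226,0)], [(47,0)], [(217,0)], [(134,0)], [(140,0)], [(276,0)], [(248,0)], [(152,0)], [(274,0)], [(176,0)], [(330,0)], [(166,0)], [(56,0)], [(275,0)], [(273,0)], [(282,0)], [(150,0)], [(231,0)], [(189,0)], [(340,0)], [(53,0)], [(350,0)], [(194,0)], [(92,0)], [(207,0)]])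

def rel99 : ℕ × List (List (ℕ × ℕ)) := (139, [[(271,0)], [(290,0)], [(255,0)], [(328,0)], [(128,0)], [(80,0)], [(38,0)], [(77,0)], [(313,0)], [(137,0)], [(244,0)], [(256,0)], [(254,0)], [(129,0)], [(349,0)], [(119,0)], [(358,0)], [(205,0)], [(41,0)], [(245,0)], [(172,0)], [(269,0)], [(329,0)], [(111,0)], [(164,0)], [(204,0)], [(356,0)], [(44,0)], [(278,0)], [(35,0)], [(193,0)], [(355,0)], [(348,0)], [(327,0)], [(127,0)]])

def rel100 : ℕ × List (List (ℕ × ℕ)) := (141, [[(283,0)], [(191,0)], [(258,0)], [(248,0)], [(120,0)], [(351,0)], [(168,0)], [(206,0)], [(135,0)], [(353,0)], [(336,0)], [(50,0)], [(331,0)], [(56,0)], [(134,0)], [(284,0)], [(234,0)], [(282,0)], [(152,0)], [(117,0)], [(340,0)], [(330,0)], [(140,0)], [(265,0)], [(151,0)], [(274,0)], [(280,0)], [(53,0)], [(231,0)], [(166,0)], [(189,0)], [(263,0)], [(207,0)], [(194,0)], [(92,0)]])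

def rel101 : ℕ × List (List (ℕ × ℕ)) := (142, [[(19,0)], [(63,0)], [(314,0)], [(58,0)], [(309,0)], [(70,0)], [(338,0)], [(352,0)], [(109,0)], [(317,0)], [(293,0)], [(169,0)], [(154,0)], [(304,0)], [(305,0)], [(177,0)], [(303,0)], [(72,0)], [(323,0)], [(167,0)], [(143,0)], [(4,0)], [(59,0)], [(285,0)], [(298,0)], [(324,0)], [(65,0)], [(242,0)], [(286,0)], [(110,0)], [(17,0)], [(64,0)], [(165,0)], [(57,0)], [(159,0)]])

def rel102 : ℕ × List (List (ℕ × ℕ)) := (143, [[(286,0)], [(165,0)], [(162,0)], [(155,0)], [(61,0)], [(72,0)], [(4,0)], [(70,0)], [(323,0)], [(142,0)], [(63,0)], [(170,0)], [(357,0)], [(62,0)], [(298,0)], [(243,0)], [(167,0)], [(352,0)], [(110,0)], [(64,0)], [(317,0)], [(324,0)], [(299,0)], [(19,0)], [(65,0)], [(338,0)], [(305,0)], [(18,0)], [(285,0)], [(109,0)], [(178,0)], [(303,0)], [(293,0)], [(307,0)], [(60,0)]])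

def rel103 : ℕ × List (List (ℕ × ℕ)) := (144, [[(16,0)], [(54,0)], [(223,0)], [(227,0)], [(262,0)], [(95,0)], [(218,0)], [(220,0)], [(123,0)], [(318,0)], [(267,0)], [(66,0)], [(208,0)], [(121,0)], [(122,0)], [(96,0)], [(279,0)], [(31,0)], [(259,0)], [(147,0)], [(148,0)], [(68,0)], [(8,0)], [(287,0)], [(93,0)], [(260,0)], [(20,0)], [(124,0)], [(291,0)], [(43,0)], [(98,0)], [(55,0)], [(145,0)], [(146,0)], [(249,0)]])

def rel104 : ℕ × List (List (ℕ × ℕ)) := (145, [[(148,0)], [(291,0)], [(208,0)], [(8,0)], [(146,0)], [(30,0)], [(289,0)], [(227,0)], [(121,0)], [(287,0)], [(318,0)], [(264,0)], [(260,0)], [(249,0)], [(262,0)], [(225,0)], [(144,0)], [(97,0)], [(342,0)], [(54,0)], [(55,0)], [(67,0)], [(220,0)], [(267,0)], [(319,0)], [(223,0)], [(125,0)], [(266,0)], [(147,0)], [(126,0)], [(94,0)], [(16,0)], [(279,0)], [(122,0)], [(123,0)]])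

def rel105 : ℕ × List (List (ℕ × ℕ)) := (150, [[(47,0)], [(56,0)], [(308,0)], [(341,0)], [(340,0)], [(331,0)], [(283,0)], [(336,0)], [(359,0)], [(140,0)], [(50,0)], [(224,0)], [(53,0)], [(350,0)], [(351,0)], [(166,0)], [(311,0)], [(92,0)], [(257,0)], [(272,0)], [(273,0)], [(276,0)], [(89,0)], [(280,0)], [(330,0)], [(310,0)], [(135,0)], [(263,0)], [(281,0)], [(234,0)], [(217,0)], [(134,0)], [(151,0)], [(152,0)], [(117,0)]])

def rel106 : ℕ × List (List (ℕ × ℕ)) := (151, [[(273,0)], [(281,0)], [(53,0)], [(89,0)], [(152,0)], [(194,0)], [(284,0)], [(341,0)], [(350,0)], [(280,0)], [(140,0)], [(265,0)], [(310,0)], [(117,0)], [(340,0)], [(168,0)], [(150,0)], [(216,0)], [(120,0)], [(56,0)], [(134,0)], [(275,0)], [(336,0)], [(50,0)], [(141,0)], [(308,0)], [(353,0)], [(258,0)], [(272,0)], [(354,0)], [(226,0)], [(47,0)], [(311,0)], [(351,0)], [(359,0)]])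

def rel107 : ℕ × List (List (ℕ × ℕ)) := (152, [[(276,0)], [(217,0)], [(120,0)], [(350,0)], [(117,0)], [(330,0)], [(141,0)], [(340,0)], [(351,0)], [(282,0)], [(331,0)], [(56,0)], [(92,0)], [(151,0)], [(311,0)], [(53,0)], [(359,0)], [(166,0)], [(168,0)], [(258,0)], [(274,0)], [(135,0)], [(150,0)], [(284,0)], [(50,0)], [(206,0)], [(47,0)], [(265,0)], [(339,0)], [(353,0)], [(224,0)], [(354,0)], [(341,0)], [(89,0)], [(336,0)]])

def rel108 : ℕ × List (List (ℕ × ℕ)) := (153, [[(70,0)], [(173,0)], [(63,0)], [(169,0)], [(154,0)], [(304,0)], [(294,0)], [(314,0)], [(170,0)], [(18,0)], [(109,0)], [(301,0)], [(317,0)], [(357,0)], [(162,0)], [(293,0)], [(4,0)], [(285,0)], [(165,0)], [(57,0)], [(58,0)], [(157,0)], [(338,0)], [(60,0)], [(159,0)], [(64,0)], [(174,0)], [(307,0)], [(61,0)], [(178,0)], [(298,0)], [(17,0)], [(161,0)], [(312,0)], [(324,0)]])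

def rel109 : ℕ × List (List (ℕ × ℕ)) := (155, [[(295,0)], [(314,0)], [(352,0)], [(143,0)], [(299,0)], [(19,0)], [(59,0)], [(62,0)], [(293,0)], [(154,0)], [(177,0)], [(58,0)], [(309,0)], [(70,0)], [(60,0)], [(296,0)], [(307,0)], [(162,0)], [(174,0)], [(178,0)], [(241,0)], [(303,0)], [(61,0)], [(72,0)], [(17,0)], [(159,0)], [(161,0)], [(157,0)], [(294,0)], [(312,0)], [(64,0)], [(324,0)], [(323,0)], [(167,0)], [(298,0)]])

def rel110 : ℕ × List (List (ℕ × ℕ)) := (156, [[(196,0)], [(100,0)], [(105,0)], [(246,0)], [(180,0)], [(90,0)], [(158,0)], [(337,0)], [(213,0)], [(99,0)], [(32,0)], [(182,0)], [(199,0)], [(133,0)], [(332,0)], [(297,0)], [(179,0)], [(335,0)], [(233,0)], [(73,0)], [(81,0)], [(346,0)], [(288,0)], [(23,0)], [(74,0)], [(198,0)], [(333,0)], [(300,0)], [(195,0)], [(347,0)], [(211,0)], [(103,0)], [(26,0)], [(214,0)], [(215,0)]])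

def rel111 : ℕ × List (List (ℕ × ℕ)) := (158, [[(212,0)], [(101,0)], [(73,0)], [(344,0)], [(105,0)], [(213,0)], [(233,0)], [(198,0)], [(346,0)], [(347,0)], [(215,0)], [(74,0)], [(32,0)], [(182,0)], [(240,0)], [(23,0)], [(261,0)], [(99,0)], [(156,0)], [(180,0)], [(337,0)], [(90,0)], [(181,0)], [(300,0)], [(133,0)], [(81,0)], [(131,0)], [(297,0)], [(197,0)], [(335,0)], [(210,0)], [(345,0)], [(200,0)], [(29,0)], [(199,0)]])

def rel112 : ℕ × List (List (ℕ × ℕ)) := (159, [[(110,0)], [(242,0)], [(307,0)], [(305,0)], [(165,0)], [(312,0)], [(293,0)], [(303,0)], [(59,0)], [(174,0)], [(338,0)], [(60,0)], [(323,0)], [(57,0)], [(58,0)], [(294,0)], [(352,0)], [(241,0)], [(154,0)], [(357,0)], [(162,0)], [(62,0)], [(109,0)], [(301,0)], [(153,0)], [(155,0)], [(18,0)], [(63,0)], [(296,0)], [(19,0)], [(163,0)], [(243,0)], [(309,0)], [(304,0)], [(142,0)]])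

def rel113 : ℕ × List (List (ℕ × ℕ)) := (160, [[(38,0)], [(83,0)], [(237,0)], [(253,0)], [(251,0)], [(349,0)], [(321,0)], [(252,0)], [(356,0)], [(106,0)], [(77,0)], [(244,0)], [(80,0)], [(290,0)], [(355,0)], [(302,0)], [(35,0)], [(192,0)], [(327,0)], [(127,0)], [(128,0)], [(164,0)], [(137,0)], [(219,0)], [(348,0)], [(238,0)], [(111,0)], [(254,0)], [(235,0)], [(119,0)], [(306,0)], [(44,0)], [(201,0)], [(202,0)], [(205,0)]])

def rel114 : ℕ × List (List (ℕ × ℕ)) := (161, [[(58,0)], [(61,0)], [(317,0)], [(338,0)], [(312,0)], [(242,0)], [(163,0)], [(169,0)], [(357,0)], [(60,0)], [(18,0)], [(295,0)], [(64,0)], [(324,0)], [(154,0)], [(303,0)], [(153,0)], [(167,0)], [(286,0)], [(173,0)], [(17,0)], [(296,0)], [(314,0)], [(109,0)], [(241,0)], [(63,0)], [(155,0)], [(305,0)], [(57,0)], [(299,0)], [(309,0)], [(70,0)], [(4,0)], [(162,0)], [(170,0)]])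

def rel115 : ℕ × List (List (ℕ × ℕ)) := (164, [[(306,0)], [(202,0)], [(44,0)], [(237,0)], [(41,0)], [(327,0)], [(119,0)], [(321,0)], [(238,0)], [(356,0)], [(329,0)], [(111,0)], [(83,0)], [(245,0)], [(172,0)], [(38,0)], [(239,0)], [(160,0)], [(128,0)], [(129,0)], [(349,0)], [(192,0)], [(244,0)], [(256,0)], [(139,0)], [(106,0)], [(137,0)], [(255,0)], [(236,0)], [(252,0)], [(302,0)], [(253,0)], [(222,0)], [(80,0)], [(322,0)]])

def rel116 : ℕ × List (List (ℕ × ℕ)) := (165, [[(143,0)], [(286,0)], [(154,0)], [(59,0)], [(57,0)], [(157,0)], [(153,0)], [(58,0)], [(304,0)], [(285,0)], [(317,0)], [(357,0)], [(324,0)], [(159,0)], [(309,0)], [(307,0)], [(142,0)], [(178,0)], [(294,0)], [(63,0)], [(64,0)], [(170,0)], [(352,0)], [(293,0)], [(301,0)], [(314,0)], [(243,0)], [(60,0)], [(167,0)], [(18,0)], [(299,0)], [(19,0)], [(303,0)], [(305,0)], [(109,0)]])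

def rel117 : ℕ × List (List (ℕ × ℕ)) := (166, [[(53,0)], [(92,0)], [(350,0)], [(354,0)], [(263,0)], [(274,0)], [(340,0)], [(353,0)], [(282,0)], [(206,0)], [(86,0)], [(150,0)], [(89,0)], [(280,0)], [(281,0)], [(224,0)], [(114,0)], [(135,0)], [(330,0)], [(257,0)], [(168,0)], [(152,0)], [(47,0)], [(308,0)], [(272,0)], [(351,0)], [(56,0)], [(283,0)], [(310,0)], [(141,0)], [(276,0)], [(120,0)], [(216,0)], [(217,0)], [(191,0)]])

def rel118 : ℕ × List (List (ℕ × ℕ)) := (167, [[(303,0)], [(64,0)], [(338,0)], [(70,0)], [(298,0)], [(17,0)], [(169,0)], [(299,0)], [(60,0)], [(63,0)], [(19,0)], [(314,0)], [(162,0)], [(323,0)], [(307,0)], [(309,0)], [(293,0)], [(296,0)], [(242,0)], [(285,0)], [(286,0)], [(161,0)], [(155,0)], [(142,0)], [(177,0)], [(357,0)], [(295,0)], [(304,0)], [(165,0)], [(163,0)], [(58,0)], [(317,0)], [(143,0)], [(61,0)], [(62,0)]])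

def rel119 : ℕ × List (List (ℕ × ℕ)) := (176, [[(248,0)], [(350,0)], [(353,0)], [(168,0)], [(273,0)], [(53,0)], [(47,0)], [(50,0)], [(86,0)], [(89,0)], [(224,0)], [(354,0)], [(263,0)], [(274,0)], [(331,0)], [(234,0)], [(226,0)], [(117,0)], [(231,0)], [(275,0)], [(189,0)], [(114,0)], [(258,0)], [(135,0)], [(276,0)], [(191,0)], [(359,0)], [(134,0)], [(194,0)], [(311,0)], [(120,0)], [(351,0)], [(330,0)], [(257,0)], [(272,0)]])

def rel120 : ℕ × List (List (ℕ × ℕ)) := (179, [[(103,0)], [(73,0)], [(198,0)], [(337,0)], [(332,0)], [(212,0)], [(181,0)], [(288,0)], [(215,0)], [(32,0)], [(23,0)], [(344,0)], [(105,0)], [(213,0)], [(214,0)], [(315,0)], [(26,0)], [(232,0)], [(334,0)], [(195,0)], [(196,0)], [(261,0)], [(246,0)], [(99,0)], [(210,0)], [(199,0)], [(229,0)], [(316,0)], [(100,0)], [(270,0)], [(345,0)], [(81,0)], [(156,0)], [(180,0)], [(133,0)]])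

def rel121 : ℕ × List (List (ℕ × ℕ)) := (180, [[(261,0)], [(345,0)], [(233,0)], [(213,0)], [(133,0)], [(210,0)], [(74,0)], [(332,0)], [(214,0)], [(101,0)], [(212,0)], [(73,0)], [(232,0)], [(156,0)], [(26,0)], [(105,0)], [(215,0)], [(315,0)], [(297,0)], [(300,0)], [(197,0)], [(229,0)], [(179,0)], [(158,0)], [(23,0)], [(82,0)], [(103,0)], [(182,0)], [(200,0)], [(333,0)], [(344,0)], [(347,0)], [(337,0)], [(246,0)], [(288,0)]])

def rel122 : ℕ × List (List (ℕ × ℕ)) := (181, [[(131,0)], [(74,0)], [(195,0)], [(200,0)], [(198,0)], [(215,0)], [(334,0)], [(199,0)], [(261,0)], [(270,0)], [(133,0)], [(210,0)], [(23,0)], [(344,0)], [(346,0)], [(99,0)], [(240,0)], [(32,0)], [(179,0)], [(332,0)], [(288,0)], [(212,0)], [(29,0)], [(316,0)], [(213,0)], [(196,0)], [(90,0)], [(315,0)], [(333,0)], [(232,0)], [(101,0)], [(268,0)], [(182,0)], [(158,0)], [(105,0)]])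

def rel123 : ℕ × List (List (ℕ × ℕ)) := (189, [[(194,0)], [(330,0)], [(281,0)], [(265,0)], [(310,0)], [(117,0)], [(114,0)], [(53,0)], [(231,0)], [(176,0)], [(350,0)], [(282,0)], [(280,0)], [(339,0)], [(276,0)], [(140,0)], [(275,0)], [(50,0)], [(311,0)], [(351,0)], [(89,0)], [(191,0)], [(284,0)], [(248,0)], [(359,0)], [(47,0)], [(331,0)], [(206,0)], [(135,0)], [(86,0)], [(141,0)], [(226,0)], [(224,0)], [(283,0)], [(308,0)]])

def rel124 : ℕ × List (List (ℕ × ℕ)) := (191, [[(141,0)], [(283,0)], [(226,0)], [(281,0)], [(216,0)], [(311,0)], [(86,0)], [(114,0)], [(47,0)], [(231,0)], [(340,0)], [(331,0)], [(330,0)], [(217,0)], [(354,0)], [(194,0)], [(353,0)], [(189,0)], [(89,0)], [(336,0)], [(117,0)], [(50,0)], [(282,0)], [(207,0)], [(341,0)], [(176,0)], [(284,0)], [(92,0)], [(234,0)], [(53,0)], [(140,0)], [(265,0)], [(263,0)], [(280,0)], [(166,0)]])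

def rel125 : ℕ × List (List (ℕ × ℕ)) := (193, [[(327,0)], [(269,0)], [(202,0)], [(111,0)], [(83,0)], [(245,0)], [(201,0)], [(44,0)], [(278,0)], [(326,0)], [(238,0)], [(205,0)], [(356,0)], [(186,0)], [(118,0)], [(329,0)], [(192,0)], [(256,0)], [(222,0)], [(80,0)], [(237,0)], [(290,0)], [(119,0)], [(328,0)], [(322,0)], [(253,0)], [(254,0)], [(77,0)], [(313,0)], [(219,0)], [(139,0)], [(302,0)], [(107,0)], [(271,0)], [(106,0)]])

def rel126 : ℕ × List (List (ℕ × ℕ)) := (195, [[(26,0)], [(81,0)], [(181,0)], [(212,0)], [(210,0)], [(345,0)], [(344,0)], [(211,0)], [(300,0)], [(73,0)], [(103,0)], [(198,0)], [(240,0)], [(334,0)], [(297,0)], [(332,0)], [(23,0)], [(268,0)], [(316,0)], [(99,0)], [(100,0)], [(200,0)], [(277,0)], [(179,0)], [(315,0)], [(182,0)], [(82,0)], [(213,0)], [(156,0)], [(91,0)], [(337,0)], [(32,0)], [(196,0)], [(197,0)], [(247,0)]])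

def rel127 : ℕ × List (List (ℕ × ℕ)) := (198, [[(277,0)], [(82,0)], [(179,0)], [(261,0)], [(344,0)], [(347,0)], [(213,0)], [(346,0)], [(158,0)], [(233,0)], [(325,0)], [(332,0)], [(26,0)], [(181,0)], [(182,0)], [(195,0)], [(105,0)], [(81,0)], [(99,0)], [(315,0)], [(335,0)], [(337,0)], [(240,0)], [(334,0)], [(316,0)], [(156,0)], [(268,0)], [(210,0)], [(297,0)], [(90,0)], [(197,0)], [(232,0)], [(199,0)], [(200,0)], [(29,0)]])

def rel128 : ℕ × List (List (ℕ × ℕ)) := (201, [[(128,0)], [(235,0)], [(80,0)], [(137,0)], [(202,0)], [(278,0)], [(222,0)], [(253,0)], [(290,0)], [(219,0)], [(106,0)], [(322,0)], [(238,0)], [(205,0)], [(251,0)], [(328,0)], [(160,0)], [(326,0)], [(193,0)], [(83,0)], [(44,0)], [(245,0)], [(252,0)], [(77,0)], [(186,0)], [(237,0)], [(255,0)], [(329,0)], [(127,0)], [(256,0)], [(358,0)], [(38,0)], [(35,0)], [(355,0)], [(356,0)]])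

def rel129 : ℕ × List (List (ℕ × ℕ)) := (204, [[(186,0)], [(321,0)], [(358,0)], [(235,0)], [(326,0)], [(35,0)], [(313,0)], [(269,0)], [(38,0)], [(41,0)], [(251,0)], [(349,0)], [(348,0)], [(306,0)], [(256,0)], [(278,0)], [(255,0)], [(172,0)], [(137,0)], [(252,0)], [(205,0)], [(77,0)], [(236,0)], [(118,0)], [(253,0)], [(139,0)], [(222,0)], [(192,0)], [(119,0)], [(80,0)], [(106,0)], [(322,0)], [(254,0)], [(219,0)], [(302,0)]])

def rel130 : ℕ × List (List (ℕ × ℕ)) := (205, [[(119,0)], [(254,0)], [(328,0)], [(355,0)], [(201,0)], [(172,0)], [(77,0)], [(35,0)], [(137,0)], [(204,0)], [(321,0)], [(329,0)], [(327,0)], [(202,0)], [(253,0)], [(193,0)], [(252,0)], [(269,0)], [(80,0)], [(322,0)], [(41,0)], [(139,0)], [(356,0)], [(186,0)], [(222,0)], [(313,0)], [(256,0)], [(83,0)], [(118,0)], [(38,0)], [(271,0)], [(255,0)], [(251,0)], [(290,0)], [(160,0)]])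

def rel131 : ℕ × List (List (ℕ × ℕ)) := (206, [[(308,0)], [(86,0)], [(359,0)], [(234,0)], [(248,0)], [(353,0)], [(351,0)], [(135,0)], [(141,0)], [(168,0)], [(216,0)], [(311,0)], [(341,0)], [(140,0)], [(56,0)], [(339,0)], [(120,0)], [(274,0)], [(282,0)], [(114,0)], [(166,0)], [(340,0)], [(134,0)], [(310,0)], [(281,0)], [(152,0)], [(272,0)], [(189,0)], [(53,0)], [(330,0)], [(231,0)], [(257,0)], [(92,0)], [(207,0)], [(194,0)]])

def rel132 : ℕ × List (List (ℕ × ℕ)) := (207, [[(340,0)], [(231,0)], [(331,0)], [(140,0)], [(194,0)], [(281,0)], [(226,0)], [(248,0)], [(56,0)], [(265,0)], [(353,0)], [(86,0)], [(274,0)], [(92,0)], [(120,0)], [(341,0)], [(141,0)], [(339,0)], [(217,0)], [(191,0)], [(263,0)], [(272,0)], [(206,0)], [(336,0)], [(216,0)], [(258,0)], [(308,0)], [(89,0)], [(117,0)], [(224,0)], [(311,0)], [(283,0)], [(234,0)], [(134,0)], [(135,0)]])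

def rel133 : ℕ × List (List (ℕ × ℕ)) := (213, [[(247,0)], [(91,0)], [(315,0)], [(180,0)], [(179,0)], [(158,0)], [(99,0)], [(156,0)], [(337,0)], [(90,0)], [(29,0)], [(316,0)], [(325,0)], [(332,0)], [(288,0)], [(334,0)], [(246,0)], [(233,0)], [(198,0)], [(344,0)], [(346,0)], [(347,0)], [(133,0)], [(210,0)], [(181,0)], [(335,0)], [(270,0)], [(195,0)], [(211,0)], [(81,0)], [(300,0)], [(229,0)], [(214,0)], [(215,0)], [(26,0)]])

def rel134 : ℕ × List (List (ℕ × ℕ)) := (217, [[(152,0)], [(276,0)], [(194,0)], [(280,0)], [(191,0)], [(272,0)], [(207,0)], [(263,0)], [(281,0)], [(339,0)], [(274,0)], [(92,0)], [(135,0)], [(216,0)], [(114,0)], [(89,0)], [(282,0)], [(224,0)], [(226,0)], [(331,0)], [(258,0)], [(56,0)], [(166,0)], [(341,0)], [(86,0)], [(248,0)], [(53,0)], [(336,0)], [(359,0)], [(265,0)], [(150,0)], [(284,0)], [(354,0)], [(47,0)], [(353,0)]])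

def rels : List (ℕ × List (List (ℕ × ℕ))) := [rel0, rel1, rel2, rel3, rel4, rel5, rel6, rel7, rel8, rel9, rel10, rel11, rel12, rel13, rel14, rel15, rel16, rel17, rel18, rel19, rel20, rel21, rel22, rel23, rel24, rel25, rel26, rel27, rel28, rel29, rel30, rel31, rel32, rel33, rel34, rel35, rel36, rel37, rel38, rel39, rel40, rel41, rel42, rel43, rel44, rel45, rel46, rel47, rel48, rel49, rel50, rel51, rel52, rel53, rel54, rel55, rel56, rel57, rel58, rel59, rel60, rel61, rel62, rel63, rel64, rel65, rel66, rel67, rel68, rel69, rel70, rel71, rel72, rel73, rel74, rel75, rel76, rel77, rel78, rel79, rel80, rel81, rel82, rel83, rel84, rel85, rel86, rel87, rel88, rel89, rel90, rel91, rel92, rel93, rel94, rel95, rel96, rel97, rel98, rel99, rel100, rel101, rel102, rel103, rel104, rel105, rel106, rel107, rel108, rel109, rel110, rel111, rel112, rel113, rel114, rel115, rel116, rel117, rel118, rel119, rel120, rel121, rel122, rel123, rel124, rel125, rel126, rel127, rel128, rel129, rel130,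 rel131, rel132, rel133, rel134]

def tms0 : Term := (3, 0, 0, [(0,0), (75,0), (1,0), (21,0), (33,0), (5,0), (10,0), (24,0), (2,0), (36,0), (9,0), (6,0)])

def tms1 : Term := (3, 0, 2, [(4,0), (173,0), (17,0), (153,0), (109,0), (57,0), (61,0), (70,0), (18,0), (161,0), (60,0), (58,0)])

def tms2 : Term := (2, 0, 3, [(7,0), (39,0), (15,0), (112,0), (183,0), (51,0), (85,0), (11,0), (27,0), (113,0), (84,0), (52,0)])

def tms3 : Term := (4, 0, 5, [(16,0), (318,0), (54,0), (287,0), (279,0), (144,0), (148,0), (267,0), (55,0), (291,0), (147,0), (145,0)])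

def tms4 : Term := (4, 0, 6, [(19,0), (317,0), (63,0), (285,0), (303,0), (142,0), (143,0), (293,0), (64,0), (286,0), (167,0), (165,0)])

def tms5 : Term := (2, 0, 7, [(22,0), (78,0), (28,0), (187,0), (102,0), (87,0), (132,0), (25,0), (71,0), (188,0), (175,0), (88,0)])

def tms6 : Term := (2, 0, 8, [(23,0), (81,0), (32,0), (195,0), (103,0), (99,0), (156,0), (26,0), (73,0), (196,0), (179,0), (100,0)])

def tms7 : Term := (3, 0, 10, [(31,0), (228,0), (96,0), (342,0), (260,0), (208,0), (209,0), (259,0), (97,0), (343,0), (225,0), (223,0)])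

def tms8 : Term := (2, 0, 12, [(35,0), (83,0), (44,0), (160,0), (77,0), (127,0), (235,0), (38,0), (106,0), (201,0), (219,0), (128,0)])

def tms9 : Term := (4, 0, 13, [(41,0), (186,0), (118,0), (321,0), (205,0), (251,0), (255,0), (204,0), (119,0), (322,0), (254,0), (252,0)])

def tms10 : Term := (2, 0, 14, [(43,0), (185,0), (124,0), (319,0), (220,0), (249,0), (250,0), (218,0), (125,0), (320,0), (264,0), (262,0)])

def tms11 : Term := (2, 0, 15, [(47,0), (140,0), (56,0), (280,0), (311,0), (150,0), (273,0), (50,0), (134,0), (281,0), (272,0), (151,0)])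

def tms12 : Term := (4, 0, 16, [(53,0), (206,0), (92,0), (308,0), (114,0), (166,0), (168,0), (86,0), (120,0), (310,0), (257,0), (216,0)])

def tms13 : Term := (1, 0, 17, [(59,0), (163,0), (65,0), (304,0), (312,0), (169,0), (299,0), (62,0), (157,0), (305,0), (298,0), (170,0)])

def tms14 : Term := (3, 0, 18, [(68,0), (221,0), (98,0), (289,0), (123,0), (146,0), (149,0), (95,0), (126,0), (292,0), (266,0), (227,0)])

def tms15 : Term := (2, 0, 19, [(72,0), (241,0), (177,0), (294,0), (324,0), (154,0), (155,0), (323,0), (178,0), (295,0), (307,0), (314,0)])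

def tms16 : Term := (4, 0, 20, [(74,0), (240,0), (181,0), (268,0), (333,0), (131,0), (133,0), (332,0), (182,0), (270,0), (288,0), (316,0)])

def tms17 : Term := (4, 0, 21, [(80,0), (107,0), (192,0), (237,0), (269,0), (302,0), (328,0), (313,0), (193,0), (238,0), (327,0), (326,0)])

def tms18 : Term := (4, 0, 22, [(82,0), (105,0), (198,0), (232,0), (297,0), (277,0), (325,0), (315,0), (199,0), (233,0), (335,0), (334,0)])

def tms19 : Term := (4, 0, 23, [(89,0), (248,0), (135,0), (350,0), (189,0), (224,0), (226,0), (176,0), (194,0), (351,0), (330,0), (275,0)])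

def tms20 : Term := (3, 0, 24, [(110,0), (174,0), (242,0), (301,0), (352,0), (159,0), (162,0), (338,0), (243,0), (296,0), (357,0), (309,0)])

def tms21 : Term := (2, 0, 25, [(117,0), (207,0), (234,0), (340,0), (191,0), (263,0), (265,0), (231,0), (141,0), (336,0), (283,0), (353,0)])

def tms22 : Term := (1, 0, 26, [(129,0), (222,0), (239,0), (349,0), (202,0), (253,0), (256,0), (236,0), (164,0), (329,0), (306,0), (356,0)])

def tms23 : Term := (3, 0, 27, [(1,0), (5,0), (14,0), (187,0), (37,0), (175,0), (40,0), (203,0), (188,0), (33,0), (9,0), (15,0), (13,0), (52,0), (183,0), (3,0), (36,0), (45,0), (49,0), (10,0), (24,0), (28,0), (51,0), (2,0), (11,0), (171,0), (7,0), (116,0), (75,0), (190,0), (87,0), (6,0), (21,0), (22,0), (230,0)])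

def tms24 : Term := (2, 0, 28, [(5,0), (0,0), (27,0), (130,0), (76,0), (48,0), (79,0), (115,0), (138,0), (36,0), (10,0), (28,0), (15,0), (88,0), (102,0), (7,0), (75,0), (51,0), (85,0), (24,0), (9,0), (13,0), (87,0), (6,0), (25,0), (39,0), (22,0), (190,0), (33,0), (230,0), (45,0), (21,0), (2,0), (3,0), (116,0)])

def tms25 : Term := (3, 0, 30, [(13,0), (45,0), (52,0), (88,0), (116,0), (25,0), (37,0), (76,0), (102,0), (108,0), (48,0), (0,0), (51,0), (2,0), (75,0), (15,0), (138,0), (7,0), (11,0), (49,0), (69,0), (22,0), (1,0), (14,0), (10,0), (183,0), (5,0), (40,0), (171,0), (34,0), (28,0), (46,0), (130,0), (87,0), (115,0)])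

def tms26 : Term := (2, 0, 32, [(0,0), (1,0), (71,0), (112,0), (34,0), (84,0), (104,0), (136,0), (113,0), (75,0), (24,0), (13,0), (28,0), (46,0), (108,0), (22,0), (33,0), (87,0), (132,0), (9,0), (10,0), (15,0), (45,0), (21,0), (69,0), (78,0), (3,0), (230,0), (36,0), (116,0), (51,0), (2,0), (6,0), (7,0), (190,0)])

def tms27 : Term := (1, 0, 36, [(33,0), (2,0), (104,0), (84,0), (69,0), (51,0), (13,0), (48,0), (85,0), (1,0), (0,0), (71,0), (40,0), (132,0), (25,0), (34,0), (24,0), (115,0), (230,0), (21,0), (36,0), (39,0), (175,0), (5,0), (22,0), (79,0), (102,0), (46,0), (6,0), (138,0), (112,0), (75,0), (10,0), (11,0), (49,0)])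

def tms28 : Term := (2, 0, 37, [(36,0), (6,0), (40,0), (175,0), (11,0), (87,0), (15,0), (84,0), (132,0), (5,0), (1,0), (14,0), (79,0), (49,0), (69,0), (37,0), (9,0), (136,0), (116,0), (2,0), (75,0), (78,0), (48,0), (0,0), (3,0), (104,0), (108,0), (52,0), (21,0), (113,0), (187,0), (33,0), (24,0), (25,0), (85,0)])

def tms29 : Term := (2, 0, 38, [(39,0), (112,0), (116,0), (132,0), (49,0), (22,0), (3,0), (69,0), (25,0), (7,0), (51,0), (2,0), (115,0), (10,0), (24,0), (40,0), (85,0), (34,0), (37,0), (52,0), (183,0), (102,0), (9,0), (15,0), (0,0), (76,0), (33,0), (14,0), (27,0), (108,0), (71,0), (113,0), (84,0), (175,0), (48,0)])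

def tms30 : Term := (2, 0, 39, [(42,0), (121,0), (125,0), (225,0), (148,0), (208,0), (16,0), (267,0), (209,0), (8,0), (66,0), (126,0), (124,0), (149,0), (95,0), (43,0), (94,0), (249,0), (250,0), (67,0), (184,0), (228,0), (266,0), (20,0), (68,0), (185,0), (123,0), (55,0), (30,0), (279,0), (342,0), (122,0), (93,0), (259,0), (147,0)])

def tms31 : Term := (3, 0, 40, [(45,0), (3,0), (21,0), (27,0), (104,0), (85,0), (230,0), (79,0), (39,0), (138,0), (49,0), (22,0), (0,0), (71,0), (78,0), (5,0), (171,0), (1,0), (9,0), (69,0), (48,0), (51,0), (28,0), (46,0), (132,0), (36,0), (87,0), (34,0), (108,0), (115,0), (7,0), (130,0), (14,0), (15,0), (40,0)])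

def tms32 : Term := (3, 0, 41, [(48,0), (108,0), (0,0), (28,0), (15,0), (88,0), (52,0), (27,0), (71,0), (46,0), (138,0), (37,0), (36,0), (40,0), (104,0), (10,0), (13,0), (6,0), (2,0), (3,0), (130,0), (187,0), (79,0), (49,0), (116,0), (21,0), (136,0), (11,0), (69,0), (112,0), (25,0), (45,0), (171,0), (78,0), (39,0)])

def tms33 : Term := (3, 0, 42, [(54,0), (144,0), (67,0), (97,0), (125,0), (209,0), (250,0), (185,0), (228,0), (279,0), (147,0), (68,0), (66,0), (126,0), (221,0), (20,0), (291,0), (8,0), (12,0), (148,0), (267,0), (208,0), (98,0), (55,0), (149,0), (184,0), (146,0), (43,0), (318,0), (249,0), (31,0), (145,0), (287,0), (96,0), (124,0)])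

def tms34 : Term := (3, 0, 43, [(57,0), (4,0), (157,0), (285,0), (174,0), (167,0), (296,0), (242,0), (286,0), (161,0), (61,0), (72,0), (65,0), (178,0), (241,0), (59,0), (173,0), (169,0), (299,0), (70,0), (60,0), (63,0), (177,0), (58,0), (155,0), (163,0), (154,0), (352,0), (109,0), (357,0), (142,0), (153,0), (18,0), (19,0), (243,0)])

def tms35 : Term := (3, 0, 44, [(60,0), (109,0), (65,0), (177,0), (19,0), (314,0), (64,0), (285,0), (178,0), (58,0), (161,0), (110,0), (163,0), (243,0), (174,0), (62,0), (17,0), (304,0), (170,0), (4,0), (153,0), (294,0), (242,0), (61,0), (162,0), (157,0), (159,0), (143,0), (70,0), (165,0), (323,0), (57,0), (173,0), (241,0), (286,0)])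

def tms36 : Term := (4, 0, 46, [(66,0), (8,0), (126,0), (342,0), (43,0), (225,0), (125,0), (319,0), (343,0), (122,0), (94,0), (16,0), (98,0), (55,0), (318,0), (68,0), (42,0), (146,0), (149,0), (12,0), (93,0), (96,0), (54,0), (67,0), (148,0), (221,0), (144,0), (250,0), (184,0), (262,0), (208,0), (121,0), (30,0), (31,0), (320,0)])

def tms37 : Term := (3, 0, 47, [(24,0), (75,0), (13,0), (51,0), (22,0), (112,0), (71,0), (187,0), (52,0), (2,0), (33,0), (104,0), (171,0), (230,0), (37,0), (69,0), (0,0), (130,0), (46,0), (5,0), (6,0), (27,0), (203,0), (9,0), (34,0), (14,0), (76,0), (132,0), (10,0), (88,0), (84,0), (1,0), (36,0), (183,0), (188,0)])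

def tms38 : Term := (3, 0, 48, [(28,0), (87,0), (46,0), (52,0), (230,0), (11,0), (34,0), (37,0), (183,0), (102,0), (175,0), (5,0), (45,0), (21,0), (36,0), (13,0), (188,0), (3,0), (69,0), (132,0), (25,0), (7,0), (0,0), (71,0), (9,0), (108,0), (1,0), (104,0), (78,0), (76,0), (15,0), (88,0), (187,0), (51,0), (203,0)])

def tms39 : Term := (4, 0, 49, [(78,0), (187,0), (190,0), (49,0), (85,0), (3,0), (7,0), (11,0), (69,0), (22,0), (87,0), (6,0), (136,0), (24,0), (9,0), (79,0), (132,0), (37,0), (76,0), (88,0), (102,0), (108,0), (10,0), (28,0), (1,0), (34,0), (36,0), (27,0), (71,0), (183,0), (14,0), (188,0), (175,0), (48,0), (84,0)])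

def tms40 : Term := (1, 0, 50, [(81,0), (195,0), (199,0), (288,0), (214,0), (131,0), (29,0), (246,0), (133,0), (23,0), (99,0), (200,0), (198,0), (215,0), (180,0), (82,0), (156,0), (277,0), (325,0), (100,0), (103,0), (240,0), (337,0), (32,0), (101,0), (105,0), (197,0), (91,0), (73,0), (247,0), (268,0), (196,0), (179,0), (332,0), (213,0)])

def tms41 : Term := (4, 0, 51, [(84,0), (183,0), (1,0), (13,0), (28,0), (46,0), (88,0), (71,0), (14,0), (52,0), (113,0), (76,0), (75,0), (79,0), (40,0), (24,0), (15,0), (21,0), (6,0), (7,0), (112,0), (130,0), (104,0), (85,0), (190,0), (2,0), (203,0), (25,0), (11,0), (187,0), (69,0), (51,0), (39,0), (171,0), (78,0)])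

def tms42 : Term := (4, 0, 52, [(90,0), (210,0), (100,0), (182,0), (199,0), (133,0), (325,0), (105,0), (240,0), (247,0), (213,0), (101,0), (99,0), (200,0), (261,0), (32,0), (346,0), (23,0), (26,0), (214,0), (246,0), (131,0), (158,0), (91,0), (215,0), (103,0), (212,0), (82,0), (229,0), (277,0), (74,0), (211,0), (344,0), (181,0), (198,0)])

def tms43 : Term := (4, 0, 54, [(96,0), (208,0), (227,0), (55,0), (320,0), (148,0), (220,0), (43,0), (318,0), (260,0), (225,0), (8,0), (146,0), (30,0), (42,0), (98,0), (343,0), (68,0), (95,0), (209,0), (259,0), (144,0), (20,0), (97,0), (94,0), (123,0), (66,0), (185,0), (228,0), (218,0), (16,0), (223,0), (342,0), (54,0), (319,0)])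

def tms44 : Term := (2, 0, 55, [(99,0), (23,0), (200,0), (268,0), (82,0), (288,0), (199,0), (232,0), (270,0), (196,0), (156,0), (29,0), (158,0), (91,0), (229,0), (101,0), (81,0), (212,0), (215,0), (26,0), (179,0), (181,0), (90,0), (100,0), (214,0), (261,0), (210,0), (325,0), (103,0), (334,0), (131,0), (195,0), (73,0), (74,0), (233,0)])

def tms45 : Term := (2, 0, 56, [(2,0), (9,0), (78,0), (136,0), (108,0), (203,0), (171,0), (45,0), (190,0), (24,0), (21,0), (39,0), (71,0), (113,0), (7,0), (102,0), (6,0), (175,0), (188,0), (36,0), (0,0), (40,0), (112,0), (75,0), (183,0), (28,0), (11,0), (138,0), (1,0), (49,0), (115,0), (10,0), (5,0), (34,0), (46,0)])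

def tms46 : Term := (3, 0, 58, [(44,0), (127,0), (238,0), (252,0), (355,0), (204,0), (172,0), (137,0), (205,0), (77,0), (219,0), (239,0), (237,0), (356,0), (202,0), (107,0), (201,0), (313,0), (269,0), (235,0), (38,0), (41,0), (253,0), (106,0), (236,0), (80,0), (129,0), (271,0), (83,0), (139,0), (118,0), (128,0), (160,0), (251,0), (290,0)])

def tms47 : Term := (3, 0, 59, [(6,0), (10,0), (171,0), (203,0), (183,0), (115,0), (39,0), (51,0), (230,0), (9,0), (2,0), (78,0), (14,0), (188,0), (22,0), (108,0), (21,0), (48,0), (138,0), (75,0), (1,0), (79,0), (187,0), (33,0), (102,0), (13,0), (25,0), (113,0), (5,0), (85,0), (136,0), (24,0), (0,0), (37,0), (52,0)])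

def tms48 : Term := (4, 0, 60, [(79,0), (136,0), (49,0), (188,0), (52,0), (102,0), (11,0), (183,0), (22,0), (34,0), (115,0), (10,0), (48,0), (0,0), (21,0), (14,0), (230,0), (108,0), (3,0), (116,0), (76,0), (25,0), (36,0), (40,0), (2,0), (69,0), (6,0), (15,0), (104,0), (7,0), (78,0), (190,0), (203,0), (187,0), (51,0)])

def tms49 : Term := (1, 0, 61, [(83,0), (160,0), (245,0), (326,0), (255,0), (313,0), (41,0), (204,0), (269,0), (35,0), (127,0), (164,0), (244,0), (256,0), (236,0), (111,0), (235,0), (137,0), (139,0), (128,0), (77,0), (80,0), (306,0), (44,0), (129,0), (172,0), (202,0), (119,0), (106,0), (205,0), (192,0), (201,0), (219,0), (302,0), (254,0)])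

def tms50 : Term := (1, 0, 62, [(121,0), (12,0), (221,0), (319,0), (318,0), (264,0), (291,0), (54,0), (320,0), (94,0), (67,0), (228,0), (126,0), (343,0), (31,0), (123,0), (30,0), (266,0), (292,0), (184,0), (66,0), (124,0), (342,0), (122,0), (260,0), (98,0), (259,0), (279,0), (8,0), (147,0), (249,0), (93,0), (20,0), (43,0), (55,0)])

def tms51 : Term := (4, 0, 63, [(124,0), (249,0), (149,0), (343,0), (55,0), (260,0), (148,0), (318,0), (31,0), (220,0), (264,0), (12,0), (266,0), (20,0), (30,0), (126,0), (320,0), (123,0), (68,0), (250,0), (218,0), (259,0), (42,0), (125,0), (67,0), (95,0), (121,0), (16,0), (185,0), (144,0), (228,0), (262,0), (319,0), (342,0), (54,0)])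

def tms52 : Term := (2, 0, 64, [(127,0), (35,0), (164,0), (192,0), (111,0), (326,0), (245,0), (278,0), (193,0), (201,0), (235,0), (41,0), (239,0), (119,0), (186,0), (129,0), (83,0), (253,0), (256,0), (38,0), (219,0), (237,0), (118,0), (128,0), (255,0), (222,0), (251,0), (139,0), (77,0), (290,0), (313,0), (160,0), (106,0), (107,0), (271,0)])

def tms53 : Term := (4, 0, 65, [(3,0), (13,0), (187,0), (6,0), (136,0), (24,0), (203,0), (190,0), (33,0), (171,0), (69,0), (51,0), (22,0), (112,0), (113,0), (87,0), (108,0), (28,0), (175,0), (48,0), (49,0), (0,0), (7,0), (130,0), (84,0), (188,0), (15,0), (115,0), (138,0), (40,0), (1,0), (14,0), (46,0), (5,0), (34,0)])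

def tms54 : Term := (4, 0, 66, [(49,0), (138,0), (22,0), (7,0), (5,0), (27,0), (21,0), (6,0), (112,0), (130,0), (171,0), (230,0), (188,0), (34,0), (136,0), (132,0), (45,0), (88,0), (71,0), (13,0), (14,0), (52,0), (190,0), (69,0), (104,0), (187,0), (116,0), (9,0), (48,0), (2,0), (85,0), (3,0), (108,0), (113,0), (33,0)])

def tms55 : Term := (3, 0, 67, [(56,0), (150,0), (275,0), (216,0), (353,0), (86,0), (231,0), (191,0), (114,0), (311,0), (272,0), (276,0), (224,0), (354,0), (282,0), (135,0), (281,0), (89,0), (176,0), (273,0), (50,0), (53,0), (217,0), (134,0), (274,0), (189,0), (152,0), (234,0), (140,0), (117,0), (92,0), (151,0), (280,0), (166,0), (263,0)])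

def tms56 : Term := (2, 0, 68, [(108,0), (14,0), (203,0), (24,0), (84,0), (1,0), (51,0), (85,0), (9,0), (13,0), (3,0), (187,0), (37,0), (175,0), (132,0), (136,0), (69,0), (79,0), (115,0), (130,0), (138,0), (36,0), (25,0), (45,0), (87,0), (230,0), (78,0), (112,0), (46,0), (39,0), (6,0), (171,0), (49,0), (10,0), (11,0)])

def tms57 : Term := (2, 0, 69, [(138,0), (46,0), (37,0), (25,0), (10,0), (28,0), (0,0), (24,0), (175,0), (45,0), (13,0), (52,0), (230,0), (11,0), (84,0), (116,0), (48,0), (190,0), (40,0), (14,0), (171,0), (188,0), (85,0), (3,0), (15,0), (203,0), (113,0), (2,0), (130,0), (33,0), (88,0), (108,0), (69,0), (132,0), (9,0)])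

def tms58 : Term := (3, 0, 70, [(140,0), (280,0), (265,0), (226,0), (168,0), (89,0), (53,0), (86,0), (176,0), (47,0), (150,0), (284,0), (283,0), (258,0), (274,0), (141,0), (273,0), (191,0), (117,0), (151,0), (311,0), (189,0), (331,0), (56,0), (152,0), (231,0), (282,0), (120,0), (134,0), (114,0), (194,0), (281,0), (272,0), (330,0), (257,0)])

def tms59 : Term := (3, 0, 71, [(144,0), (16,0), (289,0), (30,0), (319,0), (94,0), (264,0), (320,0), (42,0), (291,0), (148,0), (208,0), (68,0), (342,0), (343,0), (146,0), (318,0), (98,0), (266,0), (267,0), (147,0), (66,0), (31,0), (145,0), (225,0), (292,0), (96,0), (249,0), (279,0), (124,0), (8,0), (287,0), (55,0), (20,0), (43,0)])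

def tms60 : Term := (4, 0, 73, [(150,0), (47,0), (284,0), (194,0), (141,0), (226,0), (265,0), (207,0), (248,0), (281,0), (273,0), (53,0), (276,0), (120,0), (206,0), (152,0), (140,0), (217,0), (258,0), (50,0), (272,0), (224,0), (92,0), (151,0), (168,0), (339,0), (166,0), (117,0), (311,0), (263,0), (89,0), (280,0), (134,0), (135,0), (234,0)])

def tms61 : Term := (1, 0, 74, [(4,0), (17,0), (294,0), (304,0), (159,0), (298,0), (301,0), (309,0), (305,0), (173,0), (70,0), (63,0), (72,0), (165,0), (303,0), (154,0), (109,0), (177,0), (307,0), (60,0), (61,0), (65,0), (142,0), (153,0), (293,0), (295,0), (19,0), (357,0), (161,0), (243,0), (169,0), (18,0), (58,0), (59,0), (352,0)])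

def tms62 : Term := (3, 0, 75, [(61,0), (161,0), (72,0), (142,0), (59,0), (285,0), (157,0), (304,0), (165,0), (153,0), (173,0), (296,0), (295,0), (352,0), (159,0), (155,0), (57,0), (314,0), (178,0), (17,0), (18,0), (64,0), (309,0), (70,0), (174,0), (294,0), (162,0), (299,0), (60,0), (170,0), (167,0), (4,0), (109,0), (303,0), (305,0)])

def tms63 : Term := (4, 0, 76, [(65,0), (169,0), (178,0), (165,0), (352,0), (293,0), (174,0), (159,0), (303,0), (312,0), (298,0), (17,0), (177,0), (58,0), (109,0), (72,0), (305,0), (154,0), (155,0), (299,0), (62,0), (19,0), (57,0), (157,0), (70,0), (241,0), (4,0), (296,0), (163,0), (162,0), (63,0), (170,0), (304,0), (142,0), (309,0)])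

def tms64 : Term := (1, 0, 77, [(109,0), (18,0), (301,0), (298,0), (293,0), (169,0), (63,0), (167,0), (299,0), (17,0), (4,0), (294,0), (110,0), (307,0), (155,0), (159,0), (70,0), (242,0), (357,0), (153,0), (161,0), (163,0), (323,0), (57,0), (154,0), (296,0), (241,0), (165,0), (58,0), (286,0), (304,0), (173,0), (61,0), (62,0), (143,0)])

def tms65 : Term := (1, 0, 78, [(161,0), (58,0), (110,0), (323,0), (62,0), (177,0), (65,0), (298,0), (307,0), (57,0), (17,0), (64,0), (296,0), (143,0), (293,0), (162,0), (60,0), (309,0), (243,0), (18,0), (173,0), (295,0), (167,0), (4,0), (19,0), (301,0), (303,0), (170,0), (153,0), (305,0), (314,0), (109,0), (70,0), (155,0), (299,0)])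

def tms66 : Term := (1, 0, 79, [(142,0), (19,0), (153,0), (157,0), (301,0), (299,0), (357,0), (296,0), (163,0), (286,0), (143,0), (154,0), (4,0), (294,0), (295,0), (57,0), (317,0), (17,0), (60,0), (293,0), (167,0), (169,0), (72,0), (165,0), (307,0), (161,0), (177,0), (159,0), (303,0), (242,0), (59,0), (285,0), (64,0), (65,0), (110,0)])

def tms67 : Term := (4, 0, 80, [(167,0), (303,0), (4,0), (72,0), (65,0), (178,0), (170,0), (157,0), (294,0), (165,0), (286,0), (162,0), (161,0), (110,0), (301,0), (61,0), (63,0), (58,0), (18,0), (19,0), (285,0), (314,0), (296,0), (143,0), (243,0), (153,0), (309,0), (62,0), (293,0), (304,0), (155,0), (142,0), (317,0), (295,0), (163,0)])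

def tms68 : Term := (2, 0, 81, [(8,0), (20,0), (287,0), (289,0), (218,0), (266,0), (124,0), (264,0), (292,0), (42,0), (12,0), (96,0), (16,0), (223,0), (260,0), (144,0), (184,0), (54,0), (147,0), (93,0), (94,0), (98,0), (208,0), (121,0), (259,0), (291,0), (31,0), (262,0), (122,0), (320,0), (146,0), (30,0), (67,0), (68,0), (250,0)])

def tms69 : Term := (2, 0, 82, [(94,0), (122,0), (16,0), (208,0), (68,0), (342,0), (126,0), (289,0), (223,0), (121,0), (42,0), (125,0), (291,0), (250,0), (218,0), (148,0), (66,0), (145,0), (55,0), (20,0), (30,0), (97,0), (264,0), (12,0), (43,0), (287,0), (220,0), (149,0), (93,0), (227,0), (225,0), (8,0), (184,0), (260,0), (292,0)])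

def tms70 : Term := (3, 0, 83, [(98,0), (146,0), (55,0), (223,0), (250,0), (259,0), (43,0), (218,0), (260,0), (123,0), (266,0), (20,0), (54,0), (67,0), (184,0), (16,0), (292,0), (144,0), (148,0), (149,0), (95,0), (31,0), (66,0), (126,0), (12,0), (318,0), (8,0), (125,0), (221,0), (220,0), (96,0), (227,0), (289,0), (208,0), (264,0)])

def tms71 : Term := (4, 0, 85, [(177,0), (154,0), (58,0), (64,0), (296,0), (143,0), (352,0), (110,0), (317,0), (324,0), (307,0), (59,0), (57,0), (157,0), (163,0), (17,0), (295,0), (4,0), (70,0), (155,0), (323,0), (142,0), (65,0), (178,0), (299,0), (109,0), (169,0), (174,0), (241,0), (338,0), (19,0), (314,0), (294,0), (63,0), (301,0)])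

def tms72 : Term := (2, 0, 86, [(179,0), (103,0), (158,0), (90,0), (74,0), (211,0), (182,0), (268,0), (91,0), (100,0), (196,0), (105,0), (261,0), (233,0), (82,0), (180,0), (32,0), (345,0), (300,0), (23,0), (195,0), (344,0), (232,0), (156,0), (297,0), (200,0), (315,0), (133,0), (26,0), (316,0), (246,0), (99,0), (81,0), (229,0), (270,0)])

def tms73 : Term := (4, 0, 87, [(181,0), (131,0), (300,0), (91,0), (233,0), (214,0), (297,0), (82,0), (229,0), (333,0), (288,0), (23,0), (212,0), (73,0), (81,0), (158,0), (270,0), (101,0), (180,0), (133,0), (332,0), (210,0), (32,0), (182,0), (156,0), (197,0), (99,0), (105,0), (240,0), (315,0), (29,0), (316,0), (268,0), (90,0), (232,0)])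

def tms74 : Term := (1, 0, 88, [(106,0), (219,0), (322,0), (358,0), (328,0), (137,0), (80,0), (313,0), (139,0), (38,0), (160,0), (222,0), (321,0), (329,0), (129,0), (186,0), (128,0), (204,0), (205,0), (201,0), (35,0), (172,0), (349,0), (83,0), (202,0), (41,0), (236,0), (193,0), (44,0), (269,0), (278,0), (235,0), (127,0), (348,0), (327,0)])

def tms75 : Term := (3, 0, 89, [(192,0), (302,0), (201,0), (245,0), (322,0), (139,0), (205,0), (41,0), (172,0), (269,0), (327,0), (202,0), (160,0), (222,0), (239,0), (83,0), (238,0), (38,0), (77,0), (328,0), (313,0), (137,0), (164,0), (193,0), (329,0), (35,0), (306,0), (186,0), (107,0), (204,0), (111,0), (326,0), (237,0), (244,0), (321,0)])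

def tms76 : Term := (3, 0, 90, [(195,0), (26,0), (261,0), (232,0), (229,0), (335,0), (346,0), (90,0), (233,0), (156,0), (100,0), (240,0), (200,0), (270,0), (74,0), (197,0), (73,0), (337,0), (347,0), (103,0), (99,0), (198,0), (268,0), (196,0), (333,0), (158,0), (332,0), (247,0), (23,0), (213,0), (277,0), (179,0), (32,0), (82,0), (91,0)])

def tms77 : Term := (3, 0, 91, [(198,0), (277,0), (215,0), (270,0), (91,0), (333,0), (214,0), (229,0), (74,0), (297,0), (335,0), (26,0), (337,0), (32,0), (73,0), (200,0), (233,0), (197,0), (101,0), (325,0), (315,0), (332,0), (81,0), (199,0), (100,0), (180,0), (195,0), (29,0), (105,0), (210,0), (240,0), (334,0), (232,0), (268,0), (90,0)])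

def tms78 : Term := (4, 0, 92, [(160,0), (38,0), (222,0), (278,0), (186,0), (358,0), (322,0), (118,0), (271,0), (235,0), (128,0), (80,0), (164,0), (193,0), (107,0), (202,0), (106,0), (306,0), (329,0), (77,0), (127,0), (244,0), (192,0), (201,0), (328,0), (239,0), (302,0), (205,0), (35,0), (254,0), (137,0), (219,0), (44,0), (111,0), (119,0)])

def tms79 : Term := (2, 0, 93, [(206,0), (308,0), (336,0), (273,0), (226,0), (47,0), (89,0), (176,0), (50,0), (53,0), (166,0), (341,0), (340,0), (331,0), (258,0), (207,0), (168,0), (231,0), (191,0), (216,0), (114,0), (311,0), (274,0), (92,0), (217,0), (117,0), (339,0), (194,0), (120,0), (189,0), (134,0), (310,0), (257,0), (272,0), (330,0)])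

def tms80 : Term := (1, 0, 94, [(135,0), (224,0), (216,0), (151,0), (336,0), (50,0), (191,0), (117,0), (311,0), (189,0), (330,0), (217,0), (166,0), (341,0), (359,0), (92,0), (351,0), (53,0), (86,0), (226,0), (176,0), (47,0), (152,0), (194,0), (331,0), (114,0), (276,0), (207,0), (248,0), (231,0), (56,0), (275,0), (350,0), (150,0), (340,0)])

def tms81 : Term := (4, 0, 95, [(210,0), (29,0), (345,0), (73,0), (232,0), (156,0), (335,0), (233,0), (81,0), (346,0), (214,0), (131,0), (101,0), (268,0), (270,0), (212,0), (229,0), (158,0), (337,0), (246,0), (213,0), (99,0), (74,0), (211,0), (288,0), (347,0), (181,0), (277,0), (247,0), (198,0), (23,0), (344,0), (91,0), (32,0), (82,0)])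

def tms82 : Term := (4, 0, 96, [(213,0), (247,0), (101,0), (74,0), (32,0), (182,0), (100,0), (73,0), (268,0), (211,0), (346,0), (325,0), (347,0), (82,0), (232,0), (215,0), (90,0), (300,0), (200,0), (29,0), (344,0), (316,0), (233,0), (214,0), (199,0), (345,0), (334,0), (26,0), (246,0), (195,0), (133,0), (210,0), (229,0), (270,0), (81,0)])

def tms83 : Term := (3, 0, 97, [(166,0), (53,0), (341,0), (134,0), (207,0), (273,0), (336,0), (234,0), (140,0), (310,0), (168,0), (89,0), (152,0), (194,0), (248,0), (217,0), (206,0), (276,0), (331,0), (86,0), (257,0), (150,0), (135,0), (216,0), (226,0), (359,0), (224,0), (191,0), (114,0), (283,0), (47,0), (308,0), (120,0), (56,0), (141,0)])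

def tms84 : Term := (4, 0, 98, [(184,0), (30,0), (124,0), (266,0), (259,0), (146,0), (96,0), (225,0), (149,0), (20,0), (8,0), (287,0), (185,0), (147,0), (148,0), (218,0), (12,0), (319,0), (262,0), (121,0), (122,0), (221,0), (267,0), (66,0), (144,0), (125,0), (318,0), (223,0), (67,0), (343,0), (289,0), (42,0), (94,0), (95,0), (209,0)])

def tms85 : Term := (3, 0, 99, [(122,0), (67,0), (185,0), (267,0), (95,0), (54,0), (98,0), (266,0), (147,0), (66,0), (20,0), (97,0), (125,0), (209,0), (259,0), (220,0), (93,0), (264,0), (320,0), (30,0), (42,0), (291,0), (225,0), (8,0), (31,0), (124,0), (260,0), (227,0), (121,0), (292,0), (145,0), (184,0), (12,0), (148,0), (149,0)])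

def tms86 : Term := (3, 0, 100, [(221,0), (289,0), (320,0), (147,0), (209,0), (144,0), (31,0), (259,0), (148,0), (68,0), (146,0), (30,0), (319,0), (94,0), (12,0), (185,0), (149,0), (218,0), (220,0), (227,0), (123,0), (318,0), (93,0), (98,0), (8,0), (43,0), (184,0), (97,0), (126,0), (260,0), (287,0), (292,0), (266,0), (267,0), (225,0)])

def tms87 : Term := (1, 0, 101, [(225,0), (260,0), (8,0), (16,0), (98,0), (55,0), (227,0), (126,0), (287,0), (223,0), (343,0), (220,0), (122,0), (185,0), (124,0), (94,0), (96,0), (67,0), (30,0), (31,0), (342,0), (145,0), (125,0), (209,0), (320,0), (121,0), (264,0), (95,0), (259,0), (289,0), (148,0), (208,0), (228,0), (291,0), (221,0)])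

def tms88 : Term := (2, 0, 102, [(23,0), (32,0), (344,0), (345,0), (315,0), (337,0), (198,0), (335,0), (347,0), (81,0), (26,0), (181,0), (29,0), (316,0), (333,0), (210,0), (103,0), (90,0), (213,0), (179,0), (156,0), (158,0), (131,0), (195,0), (332,0), (346,0), (74,0), (334,0), (196,0), (233,0), (212,0), (73,0), (100,0), (101,0), (325,0)])

def tms89 : Term := (2, 0, 103, [(156,0), (196,0), (29,0), (131,0), (101,0), (268,0), (200,0), (345,0), (316,0), (195,0), (81,0), (199,0), (346,0), (325,0), (315,0), (214,0), (99,0), (211,0), (91,0), (32,0), (73,0), (182,0), (335,0), (26,0), (82,0), (344,0), (297,0), (215,0), (179,0), (300,0), (288,0), (23,0), (103,0), (333,0), (347,0)])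

def tms90 : Term := (2, 0, 104, [(158,0), (212,0), (91,0), (316,0), (325,0), (332,0), (82,0), (315,0), (333,0), (197,0), (337,0), (32,0), (90,0), (100,0), (103,0), (29,0), (347,0), (210,0), (214,0), (215,0), (180,0), (74,0), (99,0), (200,0), (26,0), (229,0), (23,0), (199,0), (261,0), (297,0), (181,0), (300,0), (345,0), (131,0), (335,0)])

def tms91 : Term := (1, 0, 105, [(73,0), (179,0), (346,0), (335,0), (333,0), (277,0), (240,0), (131,0), (325,0), (26,0), (195,0), (261,0), (344,0), (347,0), (101,0), (229,0), (100,0), (246,0), (247,0), (196,0), (23,0), (105,0), (345,0), (81,0), (197,0), (29,0), (180,0), (270,0), (32,0), (133,0), (232,0), (156,0), (99,0), (315,0), (316,0)])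

def tms92 : Term := (2, 0, 106, [(232,0), (315,0), (156,0), (346,0), (182,0), (247,0), (133,0), (240,0), (29,0), (325,0), (334,0), (180,0), (179,0), (158,0), (200,0), (73,0), (199,0), (103,0), (23,0), (297,0), (277,0), (246,0), (261,0), (233,0), (300,0), (26,0), (345,0), (74,0), (82,0), (131,0), (229,0), (335,0), (198,0), (344,0), (181,0)])

def tms93 : Term := (3, 0, 107, [(219,0), (77,0), (239,0), (118,0), (107,0), (252,0), (238,0), (192,0), (119,0), (128,0), (201,0), (172,0), (222,0), (271,0), (111,0), (236,0), (44,0), (349,0), (356,0), (35,0), (160,0), (321,0), (278,0), (235,0), (355,0), (164,0), (348,0), (269,0), (38,0), (327,0), (204,0), (127,0), (83,0), (186,0), (193,0)])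

def tms94 : Term := (1, 0, 108, [(237,0), (313,0), (356,0), (119,0), (271,0), (255,0), (355,0), (111,0), (186,0), (328,0), (326,0), (35,0), (253,0), (106,0), (83,0), (239,0), (193,0), (129,0), (236,0), (269,0), (302,0), (251,0), (44,0), (238,0), (235,0), (202,0), (127,0), (172,0), (80,0), (348,0), (41,0), (327,0), (192,0), (118,0), (278,0)])

def tms95 : Term := (2, 0, 109, [(242,0), (159,0), (61,0), (295,0), (64,0), (324,0), (143,0), (317,0), (72,0), (352,0), (357,0), (62,0), (60,0), (65,0), (157,0), (18,0), (296,0), (109,0), (4,0), (162,0), (338,0), (323,0), (163,0), (243,0), (170,0), (70,0), (304,0), (19,0), (174,0), (142,0), (241,0), (309,0), (301,0), (294,0), (63,0)])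

def tms96 : Term := (2, 0, 110, [(244,0), (137,0), (256,0), (193,0), (119,0), (328,0), (255,0), (186,0), (107,0), (355,0), (358,0), (38,0), (306,0), (44,0), (106,0), (164,0), (271,0), (202,0), (129,0), (139,0), (348,0), (302,0), (83,0), (245,0), (128,0), (236,0), (160,0), (41,0), (172,0), (251,0), (80,0), (290,0), (278,0), (192,0), (118,0)])

def tms97 : Term := (2, 0, 111, [(120,0), (257,0), (351,0), (353,0), (281,0), (231,0), (311,0), (47,0), (191,0), (86,0), (308,0), (359,0), (350,0), (282,0), (217,0), (248,0), (216,0), (176,0), (189,0), (310,0), (53,0), (117,0), (354,0), (206,0), (339,0), (89,0), (258,0), (140,0), (92,0), (50,0), (234,0), (168,0), (166,0), (263,0), (280,0)])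

def tms98 : Term := (3, 0, 112, [(234,0), (263,0), (168,0), (351,0), (151,0), (189,0), (50,0), (311,0), (89,0), (191,0), (283,0), (258,0), (257,0), (152,0), (341,0), (120,0), (336,0), (114,0), (53,0), (265,0), (231,0), (176,0), (359,0), (141,0), (284,0), (86,0), (354,0), (56,0), (207,0), (47,0), (248,0), (353,0), (340,0), (350,0), (150,0)])

def tms99 : Term := (4, 0, 113, [(251,0), (41,0), (349,0), (106,0), (278,0), (235,0), (358,0), (271,0), (83,0), (322,0), (255,0), (313,0), (129,0), (192,0), (193,0), (253,0), (186,0), (239,0), (306,0), (204,0), (254,0), (127,0), (107,0), (252,0), (326,0), (329,0), (237,0), (137,0), (205,0), (244,0), (35,0), (321,0), (119,0), (44,0), (111,0)])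

def tms100 : Term := (3, 0, 114, [(254,0), (205,0), (129,0), (107,0), (44,0), (238,0), (128,0), (106,0), (192,0), (252,0), (322,0), (139,0), (329,0), (111,0), (278,0), (256,0), (118,0), (356,0), (164,0), (41,0), (321,0), (327,0), (271,0), (255,0), (245,0), (349,0), (290,0), (38,0), (204,0), (160,0), (269,0), (251,0), (186,0), (193,0), (83,0)])

def tms101 : Term := (2, 0, 115, [(257,0), (114,0), (152,0), (135,0), (56,0), (275,0), (151,0), (134,0), (194,0), (216,0), (310,0), (117,0), (359,0), (141,0), (207,0), (258,0), (92,0), (354,0), (284,0), (53,0), (308,0), (350,0), (234,0), (168,0), (265,0), (341,0), (263,0), (50,0), (86,0), (280,0), (176,0), (166,0), (206,0), (248,0), (140,0)])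

def tms102 : Term := (4, 0, 116, [(12,0), (42,0), (96,0), (146,0), (144,0), (289,0), (287,0), (145,0), (227,0), (30,0), (184,0), (124,0), (228,0), (262,0), (220,0), (259,0), (8,0), (342,0), (223,0), (66,0), (67,0), (126,0), (249,0), (93,0), (218,0), (97,0), (43,0), (147,0), (94,0), (55,0), (266,0), (20,0), (122,0), (123,0), (279,0)])

def tms103 : Term := (3, 0, 117, [(67,0), (94,0), (228,0), (249,0), (123,0), (319,0), (221,0), (146,0), (262,0), (93,0), (30,0), (291,0), (97,0), (279,0), (144,0), (260,0), (121,0), (225,0), (343,0), (42,0), (20,0), (125,0), (145,0), (184,0), (318,0), (96,0), (148,0), (292,0), (66,0), (149,0), (264,0), (12,0), (8,0), (220,0), (227,0)])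

def tms104 : Term := (1, 0, 118, [(249,0), (43,0), (93,0), (221,0), (287,0), (292,0), (147,0), (291,0), (98,0), (320,0), (250,0), (259,0), (12,0), (96,0), (97,0), (121,0), (185,0), (42,0), (66,0), (218,0), (264,0), (266,0), (228,0), (262,0), (223,0), (94,0), (342,0), (144,0), (220,0), (54,0), (123,0), (319,0), (125,0), (126,0), (16,0)])

def tms105 : Term := (1, 0, 119, [(264,0), (220,0), (12,0), (228,0), (126,0), (343,0), (149,0), (221,0), (96,0), (262,0), (320,0), (148,0), (94,0), (16,0), (287,0), (67,0), (124,0), (122,0), (20,0), (43,0), (319,0), (225,0), (291,0), (250,0), (55,0), (93,0), (145,0), (68,0), (218,0), (146,0), (260,0), (249,0), (185,0), (97,0), (98,0)])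

def tms106 : Term := (2, 0, 120, [(35,0), (44,0), (321,0), (349,0), (348,0), (306,0), (244,0), (358,0), (329,0), (83,0), (38,0), (237,0), (41,0), (327,0), (328,0), (251,0), (77,0), (118,0), (254,0), (219,0), (235,0), (239,0), (313,0), (160,0), (302,0), (322,0), (107,0), (290,0), (201,0), (271,0), (253,0), (106,0), (128,0), (129,0), (139,0)])

def tms107 : Term := (1, 0, 121, [(235,0), (201,0), (41,0), (313,0), (129,0), (192,0), (164,0), (349,0), (327,0), (160,0), (83,0), (245,0), (322,0), (139,0), (348,0), (255,0), (127,0), (252,0), (119,0), (44,0), (106,0), (238,0), (358,0), (38,0), (111,0), (321,0), (355,0), (256,0), (219,0), (356,0), (326,0), (35,0), (77,0), (328,0), (329,0)])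

def tms108 : Term := (1, 0, 122, [(239,0), (253,0), (119,0), (327,0), (139,0), (302,0), (111,0), (348,0), (328,0), (202,0), (306,0), (44,0), (118,0), (128,0), (77,0), (41,0), (329,0), (251,0), (255,0), (256,0), (236,0), (107,0), (127,0), (164,0), (38,0), (186,0), (35,0), (245,0), (222,0), (355,0), (237,0), (356,0), (349,0), (313,0), (358,0)])

def tms109 : Term := (4, 0, 123, [(270,0), (316,0), (297,0), (214,0), (156,0), (29,0), (23,0), (26,0), (246,0), (131,0), (181,0), (300,0), (334,0), (180,0), (337,0), (233,0), (288,0), (325,0), (105,0), (182,0), (240,0), (247,0), (215,0), (74,0), (158,0), (277,0), (347,0), (73,0), (268,0), (103,0), (91,0), (333,0), (332,0), (213,0), (179,0)])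

def tms110 : Term := (3, 0, 124, [(272,0), (311,0), (276,0), (92,0), (135,0), (216,0), (275,0), (194,0), (120,0), (151,0), (281,0), (231,0), (339,0), (234,0), (141,0), (274,0), (56,0), (341,0), (354,0), (47,0), (280,0), (308,0), (207,0), (273,0), (353,0), (284,0), (340,0), (176,0), (50,0), (350,0), (86,0), (150,0), (140,0), (206,0), (248,0)])

def tms111 : Term := (2, 0, 125, [(224,0), (89,0), (354,0), (120,0), (234,0), (168,0), (353,0), (141,0), (206,0), (351,0), (226,0), (47,0), (217,0), (134,0), (140,0), (276,0), (248,0), (152,0), (274,0), (176,0), (330,0), (166,0), (56,0), (275,0), (273,0), (282,0), (150,0), (231,0), (189,0), (340,0), (53,0), (350,0), (194,0), (92,0), (207,0)])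

def tms112 : Term := (3, 0, 126, [(271,0), (290,0), (255,0), (328,0), (128,0), (80,0), (38,0), (77,0), (313,0), (137,0), (244,0), (256,0), (254,0), (129,0), (349,0), (119,0), (358,0), (205,0), (41,0), (245,0), (172,0), (269,0), (329,0), (111,0), (164,0), (204,0), (356,0), (44,0), (278,0), (35,0), (193,0), (355,0), (348,0), (327,0), (127,0)])

def tms113 : Term := (1, 0, 127, [(283,0), (191,0), (258,0), (248,0), (120,0), (351,0), (168,0), (206,0), (135,0), (353,0), (336,0), (50,0), (331,0), (56,0), (134,0), (284,0), (234,0), (282,0), (152,0), (117,0), (340,0), (330,0), (140,0), (265,0), (151,0), (274,0), (280,0), (53,0), (231,0), (166,0), (189,0), (263,0), (207,0), (194,0), (92,0)])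

def tms114 : Term := (2, 0, 128, [(19,0), (63,0), (314,0), (58,0), (309,0), (70,0), (338,0), (352,0), (109,0), (317,0), (293,0), (169,0), (154,0), (304,0), (305,0), (177,0), (303,0), (72,0), (323,0), (167,0), (143,0), (4,0), (59,0), (285,0), (298,0), (324,0), (65,0), (242,0), (286,0), (110,0), (17,0), (64,0), (165,0), (57,0), (159,0)])

def tms115 : Term := (3, 0, 129, [(286,0), (165,0), (162,0), (155,0), (61,0), (72,0), (4,0), (70,0), (323,0), (142,0), (63,0), (170,0), (357,0), (62,0), (298,0), (243,0), (167,0), (352,0), (110,0), (64,0), (317,0), (324,0), (299,0), (19,0), (65,0), (338,0), (305,0), (18,0), (285,0), (109,0), (178,0), (303,0), (293,0), (307,0), (60,0)])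

def tms116 : Term := (1, 0, 130, [(16,0), (54,0), (223,0), (227,0), (262,0), (95,0), (218,0), (220,0), (123,0), (318,0), (267,0), (66,0), (208,0), (121,0), (122,0), (96,0), (279,0), (31,0), (259,0), (147,0), (148,0), (68,0), (8,0), (287,0), (93,0), (260,0), (20,0), (124,0), (291,0), (43,0), (98,0), (55,0), (145,0), (146,0), (249,0)])

def tms117 : Term := (3, 0, 131, [(148,0), (291,0), (208,0), (8,0), (146,0), (30,0), (289,0), (227,0), (121,0), (287,0), (318,0), (264,0), (260,0), (249,0), (262,0), (225,0), (144,0), (97,0), (342,0), (54,0), (55,0), (67,0), (220,0), (267,0), (319,0), (223,0), (125,0), (266,0), (147,0), (126,0), (94,0), (16,0), (279,0), (122,0), (123,0)])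

def tms118 : Term := (3, 0, 132, [(47,0), (56,0), (308,0), (341,0), (340,0), (331,0), (283,0), (336,0), (359,0), (140,0), (50,0), (224,0), (53,0), (350,0), (351,0), (166,0), (311,0), (92,0), (257,0), (272,0), (273,0), (276,0), (89,0), (280,0), (330,0), (310,0), (135,0), (263,0), (281,0), (234,0), (217,0), (134,0), (151,0), (152,0), (117,0)])

def tms119 : Term := (4, 0, 133, [(273,0), (281,0), (53,0), (89,0), (152,0), (194,0), (284,0), (341,0), (350,0), (280,0), (140,0), (265,0), (310,0), (117,0), (340,0), (168,0), (150,0), (216,0), (120,0), (56,0), (134,0), (275,0), (336,0), (50,0), (141,0), (308,0), (353,0), (258,0), (272,0), (354,0), (226,0), (47,0), (311,0), (351,0), (359,0)])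

def tms120 : Term := (2, 0, 134, [(276,0), (217,0), (120,0), (350,0), (117,0), (330,0), (141,0), (340,0), (351,0), (282,0), (331,0), (56,0), (92,0), (151,0), (311,0), (53,0), (359,0), (166,0), (168,0), (258,0), (274,0), (135,0), (150,0), (284,0), (50,0), (206,0), (47,0), (265,0), (339,0), (353,0), (224,0), (354,0), (341,0), (89,0), (336,0)])

def tms121 : Term := (1, 0, 135, [(70,0), (173,0), (63,0), (169,0), (154,0), (304,0), (294,0), (314,0), (170,0), (18,0), (109,0), (301,0), (317,0), (357,0), (162,0), (293,0), (4,0), (285,0), (165,0), (57,0), (58,0), (157,0), (338,0), (60,0), (159,0), (64,0), (174,0), (307,0), (61,0), (178,0), (298,0), (17,0), (161,0), (312,0), (324,0)])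

def tms122 : Term := (4, 0, 136, [(295,0), (314,0), (352,0), (143,0), (299,0), (19,0), (59,0), (62,0), (293,0), (154,0), (177,0), (58,0), (309,0), (70,0), (60,0), (296,0), (307,0), (162,0), (174,0), (178,0), (241,0), (303,0), (61,0), (72,0), (17,0), (159,0), (161,0), (157,0), (294,0), (312,0), (64,0), (324,0), (323,0), (167,0), (298,0)])

def tms123 : Term := (4, 0, 137, [(196,0), (100,0), (105,0), (246,0), (180,0), (90,0), (158,0), (337,0), (213,0), (99,0), (32,0), (182,0), (199,0), (133,0), (332,0), (297,0), (179,0), (335,0), (233,0), (73,0), (81,0), (346,0), (288,0), (23,0), (74,0), (198,0), (333,0), (300,0), (195,0), (347,0), (211,0), (103,0), (26,0), (214,0), (215,0)])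

def tms124 : Term := (3, 0, 138, [(212,0), (101,0), (73,0), (344,0), (105,0), (213,0), (233,0), (198,0), (346,0), (347,0), (215,0), (74,0), (32,0), (182,0), (240,0), (23,0), (261,0), (99,0), (156,0), (180,0), (337,0), (90,0), (181,0), (300,0), (133,0), (81,0), (131,0), (297,0), (197,0), (335,0), (210,0), (345,0), (200,0), (29,0), (199,0)])

def tms125 : Term := (4, 0, 139, [(110,0), (242,0), (307,0), (305,0), (165,0), (312,0), (293,0), (303,0), (59,0), (174,0), (338,0), (60,0), (323,0), (57,0), (58,0), (294,0), (352,0), (241,0), (154,0), (357,0), (162,0), (62,0), (109,0), (301,0), (153,0), (155,0), (18,0), (63,0), (296,0), (19,0), (163,0), (243,0), (309,0), (304,0), (142,0)])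

def tms126 : Term := (3, 0, 140, [(38,0), (83,0), (237,0), (253,0), (251,0), (349,0), (321,0), (252,0), (356,0), (106,0), (77,0), (244,0), (80,0), (290,0), (355,0), (302,0), (35,0), (192,0), (327,0), (127,0), (128,0), (164,0), (137,0), (219,0), (348,0), (238,0), (111,0), (254,0), (235,0), (119,0), (306,0), (44,0), (201,0), (202,0), (205,0)])

def tms127 : Term := (3, 0, 141, [(58,0), (61,0), (317,0), (338,0), (312,0), (242,0), (163,0), (169,0), (357,0), (60,0), (18,0), (295,0), (64,0), (324,0), (154,0), (303,0), (153,0), (167,0), (286,0), (173,0), (17,0), (296,0), (314,0), (109,0), (241,0), (63,0), (155,0), (305,0), (57,0), (299,0), (309,0), (70,0), (4,0), (162,0), (170,0)])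

def tms128 : Term := (3, 0, 142, [(306,0), (202,0), (44,0), (237,0), (41,0), (327,0), (119,0), (321,0), (238,0), (356,0), (329,0), (111,0), (83,0), (245,0), (172,0), (38,0), (239,0), (160,0), (128,0), (129,0), (349,0), (192,0), (244,0), (256,0), (139,0), (106,0), (137,0), (255,0), (236,0), (252,0), (302,0), (253,0), (222,0), (80,0), (322,0)])

def tms129 : Term := (4, 0, 143, [(143,0), (286,0), (154,0), (59,0), (57,0), (157,0), (153,0), (58,0), (304,0), (285,0), (317,0), (357,0), (324,0), (159,0), (309,0), (307,0), (142,0), (178,0), (294,0), (63,0), (64,0), (170,0), (352,0), (293,0), (301,0), (314,0), (243,0), (60,0), (167,0), (18,0), (299,0), (19,0), (303,0), (305,0), (109,0)])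

def tms130 : Term := (3, 0, 144, [(53,0), (92,0), (350,0), (354,0), (263,0), (274,0), (340,0), (353,0), (282,0), (206,0), (86,0), (150,0), (89,0), (280,0), (281,0), (224,0), (114,0), (135,0), (330,0), (257,0), (168,0), (152,0), (47,0), (308,0), (272,0), (351,0), (56,0), (283,0), (310,0), (141,0), (276,0), (120,0), (216,0), (217,0), (191,0)])

def tms131 : Term := (1, 0, 145, [(303,0), (64,0), (338,0), (70,0), (298,0), (17,0), (169,0), (299,0), (60,0), (63,0), (19,0), (314,0), (162,0), (323,0), (307,0), (309,0), (293,0), (296,0), (242,0), (285,0), (286,0), (161,0), (155,0), (142,0), (177,0), (357,0), (295,0), (304,0), (165,0), (163,0), (58,0), (317,0), (143,0), (61,0), (62,0)])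

def tms132 : Term := (4, 0, 146, [(248,0), (350,0), (353,0), (168,0), (273,0), (53,0), (47,0), (50,0), (86,0), (89,0), (224,0), (354,0), (263,0), (274,0), (331,0), (234,0), (226,0), (117,0), (231,0), (275,0), (189,0), (114,0), (258,0), (135,0), (276,0), (191,0), (359,0), (134,0), (194,0), (311,0), (120,0), (351,0), (330,0), (257,0), (272,0)])

def tms133 : Term := (4, 0, 147, [(103,0), (73,0), (198,0), (337,0), (332,0), (212,0), (181,0), (288,0), (215,0), (32,0), (23,0), (344,0), (105,0), (213,0), (214,0), (315,0), (26,0), (232,0), (334,0), (195,0), (196,0), (261,0), (246,0), (99,0), (210,0), (199,0), (229,0), (316,0), (100,0), (270,0), (345,0), (81,0), (156,0), (180,0), (133,0)])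

def tms134 : Term := (1, 0, 148, [(261,0), (345,0), (233,0), (213,0), (133,0), (210,0), (74,0), (332,0), (214,0), (101,0), (212,0), (73,0), (232,0), (156,0), (26,0), (105,0), (215,0), (315,0), (297,0), (300,0), (197,0), (229,0), (179,0), (158,0), (23,0), (82,0), (103,0), (182,0), (200,0), (333,0), (344,0), (347,0), (337,0), (246,0), (288,0)])

def tms135 : Term := (4, 0, 149, [(131,0), (74,0), (195,0), (200,0), (198,0), (215,0), (334,0), (199,0), (261,0), (270,0), (133,0), (210,0), (23,0), (344,0), (346,0), (99,0), (240,0), (32,0), (179,0), (332,0), (288,0), (212,0), (29,0), (316,0), (213,0), (196,0), (90,0), (315,0), (333,0), (232,0), (101,0), (268,0), (182,0), (158,0), (105,0)])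

def tms136 : Term := (2, 0, 150, [(194,0), (330,0), (281,0), (265,0), (310,0), (117,0), (114,0), (53,0), (231,0), (176,0), (350,0), (282,0), (280,0), (339,0), (276,0), (140,0), (275,0), (50,0), (311,0), (351,0), (89,0), (191,0), (284,0), (248,0), (359,0), (47,0), (331,0), (206,0), (135,0), (86,0), (141,0), (226,0), (224,0), (283,0), (308,0)])

def tms137 : Term := (2, 0, 151, [(141,0), (283,0), (226,0), (281,0), (216,0), (311,0), (86,0), (114,0), (47,0), (231,0), (340,0), (331,0), (330,0), (217,0), (354,0), (194,0), (353,0), (189,0), (89,0), (336,0), (117,0), (50,0), (282,0), (207,0), (341,0), (176,0), (284,0), (92,0), (234,0), (53,0), (140,0), (265,0), (263,0), (280,0), (166,0)])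

def tms138 : Term := (3, 0, 152, [(327,0), (269,0), (202,0), (111,0), (83,0), (245,0), (201,0), (44,0), (278,0), (326,0), (238,0), (205,0), (356,0), (186,0), (118,0), (329,0), (192,0), (256,0), (222,0), (80,0), (237,0), (290,0), (119,0), (328,0), (322,0), (253,0), (254,0), (77,0), (313,0), (219,0), (139,0), (302,0), (107,0), (271,0), (106,0)])

def tms139 : Term := (4, 0, 153, [(26,0), (81,0), (181,0), (212,0), (210,0), (345,0), (344,0), (211,0), (300,0), (73,0), (103,0), (198,0), (240,0), (334,0), (297,0), (332,0), (23,0), (268,0), (316,0), (99,0), (100,0), (200,0), (277,0), (179,0), (315,0), (182,0), (82,0), (213,0), (156,0), (91,0), (337,0), (32,0), (196,0), (197,0), (247,0)])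

def tms140 : Term := (4, 0, 154, [(277,0), (82,0), (179,0), (261,0), (344,0), (347,0), (213,0), (346,0), (158,0), (233,0), (325,0), (332,0), (26,0), (181,0), (182,0), (195,0), (105,0), (81,0), (99,0), (315,0), (335,0), (337,0), (240,0), (334,0), (316,0), (156,0), (268,0), (210,0), (297,0), (90,0), (197,0), (232,0), (199,0), (200,0), (29,0)])

def tms141 : Term := (2, 0, 155, [(128,0), (235,0), (80,0), (137,0), (202,0), (278,0), (222,0), (253,0), (290,0), (219,0), (106,0), (322,0), (238,0), (205,0), (251,0), (328,0), (160,0), (326,0), (193,0), (83,0), (44,0), (245,0), (252,0), (77,0), (186,0), (237,0), (255,0), (329,0), (127,0), (256,0), (358,0), (38,0), (35,0), (355,0), (356,0)])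

def tms142 : Term := (3, 0, 156, [(186,0), (321,0), (358,0), (235,0), (326,0), (35,0), (313,0), (269,0), (38,0), (41,0), (251,0), (349,0), (348,0), (306,0), (256,0), (278,0), (255,0), (172,0), (137,0), (252,0), (205,0), (77,0), (236,0), (118,0), (253,0), (139,0), (222,0), (192,0), (119,0), (80,0), (106,0), (322,0), (254,0), (219,0), (302,0)])

def tms143 : Term := (4, 0, 157, [(119,0), (254,0), (328,0), (355,0), (201,0), (172,0), (77,0), (35,0), (137,0), (204,0), (321,0), (329,0), (327,0), (202,0), (253,0), (193,0), (252,0), (269,0), (80,0), (322,0), (41,0), (139,0), (356,0), (186,0), (222,0), (313,0), (256,0), (83,0), (118,0), (38,0), (271,0), (255,0), (251,0), (290,0), (160,0)])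

def tms144 : Term := (3, 0, 158, [(308,0), (86,0), (359,0), (234,0), (248,0), (353,0), (351,0), (135,0), (141,0), (168,0), (216,0), (311,0), (341,0), (140,0), (56,0), (339,0), (120,0), (274,0), (282,0), (114,0), (166,0), (340,0), (134,0), (310,0), (281,0), (152,0), (272,0), (189,0), (53,0), (330,0), (231,0), (257,0), (92,0), (207,0), (194,0)])

def tms145 : Term := (4, 0, 159, [(340,0), (231,0), (331,0), (140,0), (194,0), (281,0), (226,0), (248,0), (56,0), (265,0), (353,0), (86,0), (274,0), (92,0), (120,0), (341,0), (141,0), (339,0), (217,0), (191,0), (263,0), (272,0), (206,0), (336,0), (216,0), (258,0), (308,0), (89,0), (117,0), (224,0), (311,0), (283,0), (234,0), (134,0), (135,0)])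

def tms146 : Term := (1, 0, 160, [(247,0), (91,0), (315,0), (180,0), (179,0), (158,0), (99,0), (156,0), (337,0), (90,0), (29,0), (316,0), (325,0), (332,0), (288,0), (334,0), (246,0), (233,0), (198,0), (344,0), (346,0), (347,0), (133,0), (210,0), (181,0), (335,0), (270,0), (195,0), (211,0), (81,0), (300,0), (229,0), (214,0), (215,0), (26,0)])

def tms147 : Term := (4, 0, 161, [(152,0), (276,0), (194,0), (280,0), (191,0), (272,0), (207,0), (263,0), (281,0), (339,0), (274,0), (92,0), (135,0), (216,0), (114,0), (89,0), (282,0), (224,0), (226,0), (331,0), (258,0), (56,0), (166,0), (341,0), (86,0), (248,0), (53,0), (336,0), (359,0), (265,0), (150,0), (284,0), (354,0), (47,0), (353,0)])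

def tms148 : Term := (2, 1, 0, [(3,0), (183,0), (7,0), (69,0), (102,0), (22,0), (37,0), (76,0), (11,0), (108,0), (34,0), (25,0)])

def tms149 : Term := (2, 11, 0, [(4,0), (184,0), (8,0), (70,0), (103,0), (23,0), (38,0), (77,0), (12,0), (109,0), (35,0), (26,0)])

def tms150 : Term := (4, 1, 1, [(15,0), (75,0), (5,0), (84,0), (78,0), (87,0), (116,0), (104,0), (10,0), (113,0), (136,0), (132,0)])

def tms151 : Term := (4, 11, 1, [(16,0), (311,0), (47,0), (267,0), (240,0), (131,0), (139,0), (172,0), (50,0), (279,0), (137,0), (133,0)])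

def tms152 : Term := (3, 11, 2, [(20,0), (75,0), (5,0), (93,0), (81,0), (99,0), (128,0), (106,0), (10,0), (122,0), (160,0), (156,0)])

def tms153 : Term := (1, 1, 3, [(28,0), (33,0), (0,0), (175,0), (171,0), (45,0), (190,0), (40,0), (24,0), (188,0), (203,0), (49,0)])

def tms154 : Term := (3, 11, 3, [(29,0), (114,0), (53,0), (246,0), (317,0), (142,0), (205,0), (41,0), (86,0), (247,0), (204,0), (143,0)])

def tms155 : Term := (4, 1, 4, [(31,0), (123,0), (68,0), (259,0), (318,0), (144,0), (220,0), (43,0), (95,0), (260,0), (218,0), (148,0)])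

def tms156 : Term := (2, 11, 4, [(32,0), (33,0), (0,0), (179,0), (173,0), (57,0), (201,0), (44,0), (24,0), (196,0), (219,0), (61,0)])

def tms157 : Term := (1, 1, 5, [(20,0), (221,0), (146,0), (93,0), (343,0), (96,0), (125,0), (319,0), (149,0), (122,0), (262,0), (225,0)])

def tms158 : Term := (2, 11, 5, [(56,0), (171,0), (45,0), (272,0), (270,0), (181,0), (245,0), (278,0), (49,0), (281,0), (290,0), (288,0)])

def tms159 : Term := (1, 1, 6, [(65,0), (173,0), (57,0), (298,0), (295,0), (177,0), (243,0), (301,0), (61,0), (305,0), (309,0), (307,0)])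

def tms160 : Term := (1, 11, 6, [(15,0), (206,0), (166,0), (84,0), (346,0), (90,0), (119,0), (321,0), (168,0), (113,0), (252,0), (213,0)])

def tms161 : Term := (4, 1, 7, [(13,0), (36,0), (1,0), (48,0), (39,0), (51,0), (230,0), (79,0), (9,0), (138,0), (115,0), (85,0)])

def tms162 : Term := (4, 11, 7, [(72,0), (189,0), (89,0), (323,0), (228,0), (208,0), (269,0), (80,0), (176,0), (324,0), (313,0), (209,0)])

def tms163 : Term := (3, 1, 8, [(74,0), (197,0), (101,0), (332,0), (229,0), (210,0), (297,0), (82,0), (180,0), (333,0), (315,0), (214,0)])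

def tms164 : Term := (3, 11, 8, [(17,0), (36,0), (1,0), (60,0), (42,0), (66,0), (235,0), (83,0), (9,0), (161,0), (127,0), (94,0)])

def tms165 : Term := (1, 11, 9, [(92,0), (39,0), (51,0), (257,0), (286,0), (63,0), (322,0), (118,0), (85,0), (310,0), (254,0), (167,0)])

def tms166 : Term := (1, 1, 10, [(98,0), (42,0), (66,0), (266,0), (291,0), (54,0), (320,0), (124,0), (94,0), (292,0), (264,0), (147,0)])

def tms167 : Term := (2, 11, 10, [(28,0), (248,0), (224,0), (175,0), (295,0), (177,0), (193,0), (237,0), (226,0), (188,0), (326,0), (307,0)])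

def tms168 : Term := (4, 11, 11, [(105,0), (191,0), (117,0), (277,0), (185,0), (249,0), (352,0), (110,0), (231,0), (325,0), (338,0), (250,0)])

def tms169 : Term := (4, 1, 12, [(107,0), (202,0), (129,0), (302,0), (186,0), (251,0), (355,0), (111,0), (236,0), (328,0), (348,0), (255,0)])

def tms170 : Term := (4, 1, 13, [(44,0), (222,0), (253,0), (219,0), (193,0), (237,0), (245,0), (278,0), (256,0), (201,0), (290,0), (326,0)])

def tms171 : Term := (2, 1, 14, [(126,0), (30,0), (121,0), (289,0), (97,0), (342,0), (55,0), (287,0), (67,0), (227,0), (145,0), (223,0)])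

def tms172 : Term := (3, 11, 14, [(40,0), (207,0), (263,0), (203,0), (199,0), (232,0), (243,0), (301,0), (265,0), (190,0), (309,0), (334,0)])

def tms173 : Term := (1, 1, 15, [(135,0), (282,0), (152,0), (330,0), (206,0), (166,0), (353,0), (141,0), (274,0), (351,0), (340,0), (168,0)])

def tms174 : Term := (1, 1, 17, [(72,0), (109,0), (4,0), (323,0), (317,0), (142,0), (352,0), (110,0), (70,0), (324,0), (338,0), (143,0)])

def tms175 : Term := (3, 1, 19, [(17,0), (163,0), (169,0), (60,0), (286,0), (63,0), (296,0), (242,0), (299,0), (161,0), (357,0), (167,0)])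

def tms176 : Term := (2, 1, 20, [(158,0), (81,0), (99,0), (337,0), (346,0), (90,0), (233,0), (198,0), (156,0), (347,0), (335,0), (213,0)])

def tms177 : Term := (3, 1, 21, [(83,0), (239,0), (306,0), (127,0), (271,0), (244,0), (322,0), (118,0), (329,0), (235,0), (254,0), (358,0)])

def tms178 : Term := (2, 1, 22, [(200,0), (73,0), (195,0), (345,0), (182,0), (268,0), (91,0), (344,0), (100,0), (300,0), (211,0), (316,0)])

def tms179 : Term := (1, 11, 27, [(8,0), (23,0), (50,0), (323,0), (110,0), (313,0), (117,0), (338,0), (324,0), (103,0), (35,0), (53,0), (47,0), (143,0), (317,0), (16,0), (109,0), (131,0), (139,0), (38,0), (77,0), (89,0), (142,0), (12,0), (41,0), (311,0), (29,0), (250,0), (184,0), (325,0), (208,0), (26,0), (70,0), (72,0), (352,0)])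

def tms180 : Term := (1, 11, 28, [(23,0), (4,0), (86,0), (267,0), (185,0), (137,0), (191,0), (249,0), (279,0), (109,0), (38,0), (89,0), (53,0), (209,0), (228,0), (29,0), (184,0), (142,0), (205,0), (77,0), (35,0), (47,0), (208,0), (26,0), (80,0), (114,0), (72,0), (325,0), (103,0), (352,0), (131,0), (70,0), (12,0), (16,0), (250,0)])

def tms181 : Term := (1, 11, 29, [(35,0), (103,0), (53,0), (208,0), (16,0), (323,0), (50,0), (267,0), (209,0), (26,0), (109,0), (117,0), (114,0), (250,0), (185,0), (41,0), (8,0), (246,0), (143,0), (4,0), (70,0), (176,0), (249,0), (38,0), (110,0), (86,0), (105,0), (139,0), (77,0), (133,0), (313,0), (23,0), (184,0), (228,0), (279,0)])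

def tms182 : Term := (4, 11, 31, [(5,0), (99,0), (168,0), (225,0), (125,0), (192,0), (141,0), (319,0), (343,0), (81,0), (160,0), (152,0), (166,0), (149,0), (221,0), (15,0), (122,0), (90,0), (119,0), (128,0), (106,0), (135,0), (146,0), (10,0), (164,0), (206,0), (158,0), (116,0), (75,0), (233,0), (87,0), (156,0), (93,0), (96,0), (262,0)])

def tms183 : Term := (3, 11, 32, [(4,0), (8,0), (176,0), (246,0), (105,0), (204,0), (231,0), (277,0), (247,0), (184,0), (77,0), (47,0), (89,0), (133,0), (240,0), (72,0), (103,0), (208,0), (269,0), (35,0), (38,0), (53,0), (131,0), (70,0), (172,0), (189,0), (16,0), (352,0), (109,0), (250,0), (142,0), (12,0), (26,0), (29,0), (325,0)])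

def tms184 : Term := (3, 11, 33, [(38,0), (109,0), (89,0), (131,0), (29,0), (267,0), (86,0), (246,0), (133,0), (70,0), (184,0), (191,0), (189,0), (325,0), (105,0), (80,0), (23,0), (323,0), (209,0), (8,0), (12,0), (50,0), (277,0), (77,0), (185,0), (176,0), (110,0), (205,0), (35,0), (143,0), (137,0), (4,0), (103,0), (240,0), (247,0)])

def tms185 : Term := (4, 11, 34, [(53,0), (142,0), (209,0), (133,0), (325,0), (172,0), (185,0), (105,0), (240,0), (317,0), (204,0), (8,0), (208,0), (26,0), (103,0), (89,0), (247,0), (72,0), (80,0), (205,0), (41,0), (16,0), (23,0), (86,0), (77,0), (228,0), (4,0), (191,0), (114,0), (110,0), (47,0), (143,0), (246,0), (131,0), (277,0)])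

def tms186 : Term := (3, 11, 35, [(0,0), (57,0), (226,0), (288,0), (199,0), (278,0), (207,0), (232,0), (270,0), (173,0), (219,0), (217,0), (224,0), (215,0), (261,0), (28,0), (196,0), (177,0), (193,0), (201,0), (44,0), (56,0), (212,0), (24,0), (222,0), (248,0), (65,0), (190,0), (33,0), (243,0), (45,0), (61,0), (179,0), (181,0), (334,0)])

def tms187 : Term := (2, 11, 36, [(103,0), (12,0), (231,0), (204,0), (172,0), (142,0), (47,0), (137,0), (205,0), (8,0), (4,0), (176,0), (117,0), (269,0), (80,0), (105,0), (77,0), (249,0), (352,0), (70,0), (109,0), (114,0), (313,0), (23,0), (72,0), (191,0), (228,0), (133,0), (26,0), (279,0), (246,0), (184,0), (38,0), (41,0), (139,0)])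

def tms188 : Term := (4, 11, 39, [(33,0), (179,0), (265,0), (326,0), (245,0), (177,0), (56,0), (278,0), (193,0), (32,0), (57,0), (258,0), (263,0), (256,0), (222,0), (40,0), (201,0), (232,0), (243,0), (61,0), (173,0), (248,0), (253,0), (0,0), (65,0), (207,0), (261,0), (49,0), (24,0), (270,0), (175,0), (196,0), (219,0), (237,0), (290,0)])

def tms189 : Term := (4, 11, 43, [(99,0), (20,0), (274,0), (84,0), (104,0), (252,0), (353,0), (136,0), (113,0), (122,0), (128,0), (135,0), (152,0), (132,0), (78,0), (158,0), (75,0), (146,0), (356,0), (106,0), (160,0), (166,0), (87,0), (156,0), (238,0), (282,0), (96,0), (233,0), (81,0), (262,0), (90,0), (93,0), (10,0), (15,0), (116,0)])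

def tms190 : Term := (3, 11, 44, [(160,0), (81,0), (152,0), (87,0), (15,0), (225,0), (168,0), (84,0), (132,0), (156,0), (122,0), (141,0), (282,0), (116,0), (104,0), (164,0), (5,0), (337,0), (149,0), (20,0), (93,0), (330,0), (136,0), (128,0), (125,0), (274,0), (198,0), (119,0), (106,0), (213,0), (192,0), (99,0), (75,0), (78,0), (113,0)])

def tms191 : Term := (1, 11, 45, [(166,0), (90,0), (149,0), (132,0), (116,0), (238,0), (125,0), (104,0), (78,0), (346,0), (252,0), (20,0), (146,0), (10,0), (75,0), (152,0), (113,0), (158,0), (164,0), (119,0), (321,0), (96,0), (5,0), (168,0), (128,0), (221,0), (99,0), (141,0), (206,0), (198,0), (135,0), (213,0), (84,0), (87,0), (136,0)])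

def tms192 : Term := (1, 11, 47, [(77,0), (184,0), (47,0), (142,0), (72,0), (246,0), (176,0), (323,0), (143,0), (12,0), (103,0), (231,0), (311,0), (352,0), (110,0), (172,0), (4,0), (267,0), (133,0), (23,0), (26,0), (86,0), (338,0), (35,0), (105,0), (50,0), (185,0), (269,0), (38,0), (209,0), (204,0), (8,0), (109,0), (317,0), (324,0)])

def tms193 : Term := (2, 11, 48, [(89,0), (208,0), (133,0), (143,0), (352,0), (41,0), (105,0), (110,0), (317,0), (228,0), (313,0), (23,0), (131,0), (70,0), (109,0), (47,0), (324,0), (16,0), (172,0), (269,0), (80,0), (29,0), (4,0), (176,0), (35,0), (240,0), (8,0), (231,0), (189,0), (185,0), (53,0), (209,0), (323,0), (142,0), (338,0)])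

def tms194 : Term := (4, 11, 50, [(36,0), (60,0), (336,0), (358,0), (322,0), (54,0), (92,0), (118,0), (271,0), (17,0), (66,0), (331,0), (283,0), (329,0), (239,0), (79,0), (235,0), (242,0), (320,0), (94,0), (42,0), (140,0), (306,0), (1,0), (98,0), (234,0), (163,0), (85,0), (9,0), (286,0), (48,0), (161,0), (127,0), (244,0), (254,0)])

def tms195 : Term := (2, 11, 52, [(51,0), (63,0), (94,0), (273,0), (336,0), (271,0), (320,0), (234,0), (140,0), (286,0), (254,0), (98,0), (66,0), (331,0), (359,0), (1,0), (310,0), (17,0), (83,0), (322,0), (118,0), (54,0), (276,0), (85,0), (329,0), (42,0), (169,0), (79,0), (39,0), (242,0), (13,0), (167,0), (257,0), (150,0), (283,0)])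

def tms196 : Term := (1, 11, 53, [(219,0), (173,0), (217,0), (45,0), (28,0), (288,0), (226,0), (175,0), (49,0), (61,0), (196,0), (207,0), (339,0), (190,0), (40,0), (222,0), (0,0), (298,0), (215,0), (32,0), (179,0), (272,0), (203,0), (201,0), (199,0), (258,0), (301,0), (193,0), (44,0), (307,0), (278,0), (57,0), (33,0), (171,0), (188,0)])

def tms197 : Term := (3, 11, 54, [(224,0), (177,0), (215,0), (49,0), (190,0), (245,0), (199,0), (40,0), (171,0), (295,0), (326,0), (32,0), (212,0), (24,0), (33,0), (217,0), (188,0), (65,0), (222,0), (193,0), (237,0), (181,0), (0,0), (226,0), (201,0), (261,0), (57,0), (207,0), (248,0), (301,0), (56,0), (307,0), (175,0), (45,0), (203,0)])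

def tms198 : Term := (1, 11, 56, [(12,0), (35,0), (189,0), (277,0), (240,0), (338,0), (311,0), (131,0), (325,0), (77,0), (70,0), (114,0), (176,0), (247,0), (29,0), (228,0), (26,0), (313,0), (324,0), (109,0), (4,0), (117,0), (246,0), (184,0), (317,0), (89,0), (41,0), (279,0), (8,0), (139,0), (249,0), (38,0), (23,0), (105,0), (133,0)])

def tms199 : Term := (1, 11, 57, [(117,0), (249,0), (269,0), (247,0), (133,0), (317,0), (172,0), (240,0), (29,0), (185,0), (338,0), (35,0), (313,0), (23,0), (26,0), (176,0), (325,0), (228,0), (72,0), (352,0), (110,0), (41,0), (103,0), (231,0), (70,0), (80,0), (12,0), (47,0), (191,0), (16,0), (114,0), (250,0), (277,0), (246,0), (131,0)])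

def tms200 : Term := (4, 11, 58, [(2,0), (121,0), (275,0), (211,0), (182,0), (285,0), (134,0), (268,0), (91,0), (30,0), (153,0), (354,0), (350,0), (300,0), (200,0), (71,0), (100,0), (342,0), (178,0), (58,0), (18,0), (120,0), (345,0), (21,0), (157,0), (194,0), (126,0), (46,0), (6,0), (55,0), (112,0), (67,0), (195,0), (344,0), (316,0)])

def tms201 : Term := (1, 11, 61, [(6,0), (195,0), (151,0), (314,0), (64,0), (342,0), (120,0), (285,0), (178,0), (73,0), (121,0), (284,0), (280,0), (170,0), (157,0), (14,0), (58,0), (268,0), (55,0), (67,0), (30,0), (194,0), (304,0), (2,0), (126,0), (134,0), (200,0), (52,0), (21,0), (91,0), (187,0), (100,0), (153,0), (294,0), (165,0)])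

def tms202 : Term := (2, 11, 62, [(179,0), (44,0), (339,0), (203,0), (171,0), (309,0), (281,0), (45,0), (190,0), (201,0), (61,0), (248,0), (258,0), (188,0), (28,0), (261,0), (24,0), (253,0), (305,0), (173,0), (57,0), (263,0), (175,0), (196,0), (295,0), (217,0), (237,0), (270,0), (32,0), (290,0), (232,0), (219,0), (0,0), (40,0), (49,0)])

def tms203 : Term := (3, 11, 63, [(263,0), (232,0), (256,0), (188,0), (49,0), (295,0), (245,0), (171,0), (28,0), (199,0), (309,0), (44,0), (253,0), (0,0), (24,0), (258,0), (190,0), (261,0), (65,0), (243,0), (301,0), (237,0), (33,0), (265,0), (61,0), (222,0), (179,0), (56,0), (207,0), (181,0), (248,0), (334,0), (203,0), (175,0), (45,0)])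

def tms204 : Term := (4, 11, 66, [(139,0), (279,0), (72,0), (29,0), (23,0), (86,0), (70,0), (26,0), (246,0), (267,0), (311,0), (352,0), (324,0), (105,0), (277,0), (269,0), (131,0), (209,0), (176,0), (47,0), (50,0), (143,0), (325,0), (172,0), (231,0), (323,0), (250,0), (35,0), (137,0), (12,0), (205,0), (16,0), (240,0), (247,0), (103,0)])

def tms205 : Term := (1, 11, 70, [(108,0), (332,0), (162,0), (328,0), (255,0), (31,0), (19,0), (186,0), (107,0), (74,0), (144,0), (62,0), (159,0), (129,0), (236,0), (37,0), (355,0), (82,0), (43,0), (148,0), (318,0), (241,0), (202,0), (3,0), (68,0), (174,0), (197,0), (11,0), (69,0), (229,0), (25,0), (333,0), (348,0), (302,0), (251,0)])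

def tms206 : Term := (1, 11, 72, [(290,0), (270,0), (65,0), (28,0), (0,0), (226,0), (61,0), (24,0), (175,0), (288,0), (281,0), (243,0), (305,0), (40,0), (203,0), (256,0), (45,0), (215,0), (258,0), (56,0), (272,0), (307,0), (190,0), (245,0), (265,0), (298,0), (334,0), (44,0), (278,0), (179,0), (193,0), (181,0), (171,0), (188,0), (33,0)])

def tms207 : Term := (2, 11, 76, [(152,0), (146,0), (132,0), (213,0), (233,0), (321,0), (104,0), (198,0), (346,0), (221,0), (349,0), (5,0), (87,0), (156,0), (81,0), (135,0), (347,0), (96,0), (238,0), (356,0), (164,0), (15,0), (99,0), (274,0), (106,0), (78,0), (20,0), (353,0), (282,0), (125,0), (166,0), (149,0), (337,0), (90,0), (335,0)])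

def tms208 : Term := (4, 11, 77, [(81,0), (10,0), (340,0), (349,0), (321,0), (146,0), (166,0), (252,0), (356,0), (5,0), (20,0), (330,0), (141,0), (327,0), (238,0), (198,0), (106,0), (136,0), (262,0), (93,0), (122,0), (282,0), (192,0), (99,0), (96,0), (353,0), (78,0), (213,0), (156,0), (113,0), (337,0), (75,0), (128,0), (164,0), (119,0)])

def tms209 : Term := (2, 11, 78, [(122,0), (156,0), (141,0), (192,0), (164,0), (87,0), (152,0), (349,0), (327,0), (99,0), (5,0), (168,0), (353,0), (119,0), (321,0), (125,0), (160,0), (335,0), (116,0), (10,0), (75,0), (351,0), (252,0), (20,0), (15,0), (340,0), (346,0), (149,0), (93,0), (347,0), (225,0), (81,0), (106,0), (238,0), (356,0)])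

def tms210 : Term := (3, 11, 81, [(32,0), (0,0), (272,0), (298,0), (301,0), (253,0), (263,0), (309,0), (305,0), (33,0), (44,0), (224,0), (56,0), (307,0), (295,0), (181,0), (173,0), (45,0), (290,0), (219,0), (201,0), (217,0), (177,0), (179,0), (237,0), (281,0), (28,0), (334,0), (196,0), (190,0), (212,0), (24,0), (61,0), (65,0), (243,0)])

def tms211 : Term := (3, 11, 82, [(201,0), (196,0), (56,0), (177,0), (65,0), (175,0), (258,0), (298,0), (307,0), (179,0), (33,0), (265,0), (281,0), (243,0), (301,0), (245,0), (57,0), (288,0), (49,0), (0,0), (24,0), (226,0), (309,0), (44,0), (40,0), (272,0), (199,0), (256,0), (219,0), (215,0), (326,0), (32,0), (173,0), (295,0), (305,0)])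

def tms212 : Term := (3, 11, 83, [(217,0), (212,0), (49,0), (307,0), (243,0), (237,0), (40,0), (301,0), (295,0), (261,0), (253,0), (0,0), (45,0), (61,0), (173,0), (56,0), (305,0), (181,0), (245,0), (256,0), (222,0), (28,0), (57,0), (258,0), (44,0), (171,0), (32,0), (265,0), (339,0), (199,0), (224,0), (215,0), (298,0), (177,0), (309,0)])

def tms213 : Term := (4, 11, 84, [(75,0), (93,0), (353,0), (252,0), (238,0), (90,0), (135,0), (192,0), (119,0), (20,0), (99,0), (274,0), (340,0), (356,0), (164,0), (104,0), (128,0), (319,0), (233,0), (156,0), (81,0), (206,0), (349,0), (5,0), (158,0), (141,0), (221,0), (132,0), (10,0), (343,0), (84,0), (122,0), (160,0), (321,0), (327,0)])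

def tms214 : Term := (3, 11, 86, [(127,0), (42,0), (276,0), (51,0), (13,0), (167,0), (273,0), (48,0), (85,0), (94,0), (161,0), (234,0), (359,0), (230,0), (79,0), (239,0), (1,0), (266,0), (299,0), (17,0), (60,0), (257,0), (115,0), (235,0), (296,0), (331,0), (124,0), (271,0), (83,0), (147,0), (118,0), (66,0), (36,0), (39,0), (138,0)])

def tms215 : Term := (3, 11, 87, [(150,0), (54,0), (299,0), (85,0), (230,0), (322,0), (296,0), (79,0), (39,0), (291,0), (358,0), (17,0), (169,0), (9,0), (36,0), (276,0), (138,0), (98,0), (239,0), (271,0), (244,0), (63,0), (1,0), (273,0), (235,0), (163,0), (66,0), (234,0), (140,0), (124,0), (92,0), (147,0), (48,0), (51,0), (115,0)])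

def tms216 : Term := (1, 11, 88, [(21,0), (153,0), (216,0), (145,0), (97,0), (268,0), (194,0), (342,0), (55,0), (18,0), (195,0), (341,0), (308,0), (227,0), (126,0), (27,0), (67,0), (285,0), (91,0), (100,0), (73,0), (134,0), (289,0), (6,0), (200,0), (120,0), (157,0), (88,0), (2,0), (178,0), (130,0), (58,0), (121,0), (287,0), (223,0)])

def tms217 : Term := (1, 11, 89, [(187,0), (294,0), (100,0), (151,0), (216,0), (55,0), (91,0), (120,0), (134,0), (178,0), (223,0), (200,0), (195,0), (341,0), (354,0), (6,0), (275,0), (18,0), (30,0), (97,0), (342,0), (268,0), (284,0), (88,0), (227,0), (73,0), (304,0), (27,0), (71,0), (285,0), (14,0), (314,0), (350,0), (280,0), (308,0)])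

def tms218 : Term := (2, 11, 91, [(283,0), (242,0), (329,0), (138,0), (85,0), (291,0), (322,0), (39,0), (13,0), (296,0), (264,0), (83,0), (306,0), (1,0), (9,0), (331,0), (230,0), (163,0), (98,0), (320,0), (124,0), (244,0), (36,0), (336,0), (94,0), (239,0), (60,0), (92,0), (234,0), (63,0), (140,0), (357,0), (115,0), (48,0), (51,0)])

def tms219 : Term := (2, 11, 93, [(183,0), (293,0), (220,0), (355,0), (328,0), (74,0), (31,0), (107,0), (111,0), (19,0), (210,0), (95,0), (218,0), (202,0), (129,0), (76,0), (255,0), (174,0), (82,0), (214,0), (229,0), (318,0), (236,0), (7,0), (101,0), (43,0), (312,0), (25,0), (11,0), (241,0), (69,0), (303,0), (251,0), (348,0), (302,0)])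

def tms220 : Term := (1, 11, 94, [(22,0), (154,0), (214,0), (148,0), (220,0), (111,0), (82,0), (43,0), (318,0), (241,0), (302,0), (101,0), (210,0), (95,0), (123,0), (7,0), (260,0), (19,0), (186,0), (328,0), (107,0), (74,0), (68,0), (25,0), (202,0), (229,0), (59,0), (76,0), (102,0), (174,0), (3,0), (155,0), (259,0), (144,0), (218,0)])

def tms221 : Term := (4, 11, 96, [(254,0), (286,0), (98,0), (13,0), (1,0), (273,0), (94,0), (9,0), (48,0), (167,0), (310,0), (320,0), (292,0), (79,0), (115,0), (329,0), (51,0), (299,0), (331,0), (92,0), (257,0), (147,0), (230,0), (322,0), (336,0), (266,0), (357,0), (83,0), (118,0), (60,0), (271,0), (63,0), (39,0), (138,0), (36,0)])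

def tms222 : Term := (4, 11, 98, [(173,0), (24,0), (263,0), (253,0), (237,0), (212,0), (224,0), (326,0), (256,0), (0,0), (32,0), (272,0), (207,0), (290,0), (245,0), (301,0), (44,0), (203,0), (334,0), (179,0), (196,0), (339,0), (278,0), (57,0), (181,0), (265,0), (171,0), (307,0), (61,0), (188,0), (298,0), (33,0), (201,0), (222,0), (193,0)])

def tms223 : Term := (4, 11, 99, [(196,0), (61,0), (207,0), (278,0), (222,0), (45,0), (217,0), (253,0), (290,0), (57,0), (0,0), (226,0), (265,0), (193,0), (237,0), (199,0), (219,0), (309,0), (190,0), (24,0), (33,0), (281,0), (326,0), (32,0), (28,0), (263,0), (295,0), (215,0), (179,0), (305,0), (288,0), (173,0), (44,0), (245,0), (256,0)])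

def tms224 : Term := (3, 11, 102, [(17,0), (1,0), (257,0), (266,0), (124,0), (306,0), (283,0), (264,0), (292,0), (36,0), (83,0), (150,0), (92,0), (147,0), (291,0), (63,0), (42,0), (51,0), (254,0), (127,0), (235,0), (276,0), (54,0), (60,0), (244,0), (310,0), (13,0), (357,0), (161,0), (230,0), (169,0), (9,0), (94,0), (98,0), (320,0)])

def tms225 : Term := (2, 11, 103, [(235,0), (161,0), (92,0), (54,0), (98,0), (48,0), (331,0), (266,0), (147,0), (60,0), (36,0), (336,0), (310,0), (320,0), (124,0), (322,0), (66,0), (167,0), (85,0), (1,0), (9,0), (273,0), (264,0), (83,0), (79,0), (257,0), (296,0), (329,0), (127,0), (299,0), (358,0), (17,0), (42,0), (291,0), (292,0)])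

def tms226 : Term := (2, 11, 104, [(276,0), (169,0), (85,0), (147,0), (320,0), (244,0), (79,0), (124,0), (291,0), (163,0), (306,0), (1,0), (51,0), (94,0), (42,0), (92,0), (292,0), (63,0), (322,0), (329,0), (239,0), (13,0), (66,0), (331,0), (83,0), (39,0), (17,0), (336,0), (359,0), (296,0), (150,0), (299,0), (266,0), (54,0), (264,0)])

def tms227 : Term := (4, 11, 105, [(9,0), (127,0), (310,0), (264,0), (291,0), (242,0), (140,0), (54,0), (320,0), (83,0), (60,0), (359,0), (257,0), (292,0), (98,0), (39,0), (94,0), (118,0), (286,0), (161,0), (17,0), (234,0), (266,0), (36,0), (163,0), (92,0), (239,0), (138,0), (1,0), (271,0), (115,0), (235,0), (66,0), (124,0), (147,0)])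

def tms228 : Term := (2, 11, 107, [(153,0), (30,0), (354,0), (112,0), (71,0), (211,0), (275,0), (187,0), (52,0), (67,0), (100,0), (134,0), (341,0), (46,0), (14,0), (157,0), (2,0), (289,0), (300,0), (73,0), (195,0), (308,0), (130,0), (58,0), (182,0), (284,0), (287,0), (178,0), (18,0), (223,0), (285,0), (121,0), (6,0), (27,0), (88,0)])

def tms229 : Term := (1, 11, 108, [(350,0), (342,0), (300,0), (52,0), (46,0), (64,0), (182,0), (14,0), (27,0), (97,0), (314,0), (73,0), (345,0), (21,0), (6,0), (354,0), (88,0), (126,0), (157,0), (178,0), (294,0), (344,0), (2,0), (275,0), (58,0), (200,0), (121,0), (134,0), (194,0), (287,0), (120,0), (223,0), (187,0), (112,0), (130,0)])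

def tms230 : Term := (1, 11, 111, [(11,0), (251,0), (260,0), (297,0), (333,0), (174,0), (318,0), (74,0), (82,0), (186,0), (293,0), (123,0), (259,0), (197,0), (101,0), (102,0), (214,0), (107,0), (241,0), (303,0), (19,0), (43,0), (180,0), (183,0), (312,0), (31,0), (129,0), (108,0), (7,0), (111,0), (34,0), (255,0), (210,0), (315,0), (332,0)])

def tms231 : Term := (3, 12, 0, [(13,0), (27,0), (15,0), (171,0), (71,0), (28,0), (79,0), (104,0), (39,0), (14,0), (40,0), (78,0)])

def tms232 : Term := (3, 4, 0, [(16,0), (317,0), (29,0), (172,0), (228,0), (72,0), (110,0), (185,0), (41,0), (240,0), (105,0), (80,0)])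

def tms233 : Term := (3, 13, 0, [(17,0), (30,0), (20,0), (173,0), (73,0), (32,0), (83,0), (106,0), (42,0), (18,0), (44,0), (81,0)])

def tms234 : Term := (3, 14, 0, [(19,0), (318,0), (31,0), (174,0), (229,0), (74,0), (111,0), (186,0), (43,0), (241,0), (107,0), (82,0)])

def tms235 : Term := (4, 12, 1, [(51,0), (21,0), (0,0), (183,0), (187,0), (22,0), (230,0), (203,0), (36,0), (52,0), (37,0), (188,0)])

def tms236 : Term := (1, 4, 1, [(53,0), (184,0), (23,0), (204,0), (189,0), (208,0), (250,0), (231,0), (38,0), (247,0), (277,0), (269,0)])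

def tms237 : Term := (2, 13, 1, [(54,0), (134,0), (56,0), (318,0), (268,0), (74,0), (271,0), (278,0), (140,0), (55,0), (111,0), (270,0)])

def tms238 : Term := (3, 14, 1, [(20,0), (206,0), (135,0), (319,0), (81,0), (90,0), (119,0), (106,0), (141,0), (343,0), (192,0), (233,0)])

def tms239 : Term := (2, 12, 2, [(63,0), (157,0), (65,0), (317,0), (294,0), (72,0), (296,0), (301,0), (163,0), (64,0), (110,0), (295,0)])

def tms240 : Term := (4, 4, 2, [(15,0), (221,0), (158,0), (321,0), (78,0), (96,0), (125,0), (104,0), (164,0), (346,0), (198,0), (238,0)])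

def tms241 : Term := (4, 13, 2, [(66,0), (21,0), (0,0), (184,0), (195,0), (23,0), (235,0), (219,0), (36,0), (67,0), (38,0), (196,0)])

def tms242 : Term := (2, 14, 2, [(68,0), (183,0), (22,0), (218,0), (197,0), (210,0), (255,0), (236,0), (37,0), (260,0), (302,0), (297,0)])

def tms243 : Term := (3, 12, 3, [(87,0), (2,0), (1,0), (102,0), (130,0), (3,0), (116,0), (115,0), (75,0), (88,0), (76,0), (138,0)])

def tms244 : Term := (1, 4, 3, [(89,0), (103,0), (4,0), (313,0), (311,0), (131,0), (325,0), (117,0), (77,0), (324,0), (338,0), (139,0)])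

def tms245 : Term := (4, 14, 3, [(32,0), (248,0), (56,0), (232,0), (173,0), (177,0), (193,0), (44,0), (207,0), (270,0), (278,0), (243,0)])

def tms246 : Term := (3, 4, 4, [(28,0), (261,0), (65,0), (237,0), (171,0), (181,0), (199,0), (40,0), (222,0), (295,0), (301,0), (245,0)])

def tms247 : Term := (3, 13, 4, [(99,0), (2,0), (1,0), (103,0), (153,0), (4,0), (128,0), (127,0), (75,0), (100,0), (77,0), (161,0)])

def tms248 : Term := (3, 12, 5, [(66,0), (289,0), (68,0), (184,0), (223,0), (208,0), (264,0), (218,0), (292,0), (67,0), (250,0), (260,0)])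

def tms249 : Term := (4, 4, 5, [(0,0), (339,0), (212,0), (219,0), (188,0), (224,0), (265,0), (203,0), (256,0), (196,0), (334,0), (326,0)])

def tms250 : Term := (2, 13, 5, [(150,0), (130,0), (3,0), (311,0), (316,0), (131,0), (358,0), (348,0), (138,0), (151,0), (139,0), (333,0)])

def tms251 : Term := (3, 12, 7, [(45,0), (6,0), (5,0), (108,0), (112,0), (7,0), (190,0), (136,0), (33,0), (46,0), (34,0), (113,0)])

def tms252 : Term := (3, 13, 8, [(57,0), (6,0), (5,0), (109,0), (121,0), (8,0), (201,0), (160,0), (33,0), (58,0), (35,0), (122,0)])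

def tms253 : Term := (2, 4, 9, [(1,0), (359,0), (169,0), (127,0), (138,0), (150,0), (336,0), (115,0), (329,0), (161,0), (357,0), (358,0)])

def tms254 : Term := (2, 12, 19, [(57,0), (304,0), (59,0), (109,0), (165,0), (142,0), (309,0), (159,0), (305,0), (58,0), (352,0), (303,0)])

def tms255 : Term := (2, 4, 19, [(5,0), (282,0), (146,0), (160,0), (113,0), (166,0), (353,0), (136,0), (356,0), (122,0), (262,0), (252,0)])

def tms256 : Term := (3, 13, 19, [(224,0), (187,0), (22,0), (189,0), (223,0), (208,0), (326,0), (302,0), (188,0), (275,0), (269,0), (260,0)])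

def tms257 : Term := (3, 15, 0, [(45,0), (84,0), (51,0), (130,0), (175,0), (87,0), (136,0), (203,0), (112,0), (48,0), (115,0), (187,0)])

def tms258 : Term := (1, 16, 0, [(54,0), (285,0), (90,0), (278,0), (342,0), (177,0), (242,0), (319,0), (118,0), (268,0), (232,0), (192,0)])

def tms259 : Term := (3, 17, 0, [(57,0), (93,0), (66,0), (153,0), (179,0), (99,0), (160,0), (219,0), (121,0), (60,0), (127,0), (195,0)])

def tms260 : Term := (1, 18, 0, [(63,0), (287,0), (96,0), (301,0), (344,0), (181,0), (244,0), (321,0), (124,0), (294,0), (237,0), (198,0)])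

def tms261 : Term := (3, 15, 1, [(7,0), (24,0), (1,0), (27,0), (25,0), (28,0), (190,0), (76,0), (6,0), (85,0), (79,0), (88,0)])

def tms262 : Term := (3, 16, 1, [(92,0), (30,0), (32,0), (186,0), (194,0), (31,0), (320,0), (207,0), (83,0), (91,0), (82,0), (193,0)])

def tms263 : Term := (1, 18, 1, [(66,0), (308,0), (224,0), (218,0), (195,0), (210,0), (254,0), (219,0), (283,0), (223,0), (302,0), (334,0)])

def tms264 : Term := (2, 16, 2, [(51,0), (289,0), (212,0), (204,0), (187,0), (208,0), (264,0), (203,0), (306,0), (211,0), (277,0), (326,0)])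

def tms265 : Term := (3, 17, 2, [(8,0), (24,0), (1,0), (30,0), (26,0), (32,0), (201,0), (77,0), (6,0), (94,0), (83,0), (100,0)])

def tms266 : Term := (4, 18, 2, [(98,0), (27,0), (28,0), (185,0), (200,0), (29,0), (322,0), (222,0), (79,0), (97,0), (80,0), (199,0)])

def tms267 : Term := (3, 15, 3, [(22,0), (9,0), (5,0), (71,0), (69,0), (13,0), (230,0), (34,0), (21,0), (132,0), (104,0), (46,0)])

def tms268 : Term := (2, 16, 3, [(135,0), (73,0), (17,0), (107,0), (134,0), (74,0), (233,0), (234,0), (106,0), (178,0), (174,0), (271,0)])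

def tms269 : Term := (2, 18, 3, [(99,0), (350,0), (150,0), (315,0), (153,0), (154,0), (327,0), (127,0), (340,0), (316,0), (348,0), (357,0)])

def tms270 : Term := (3, 17, 4, [(23,0), (9,0), (5,0), (73,0), (70,0), (17,0), (235,0), (35,0), (21,0), (156,0), (106,0), (58,0)])

def tms271 : Term := (2, 16, 5, [(1,0), (341,0), (101,0), (77,0), (88,0), (89,0), (336,0), (76,0), (329,0), (100,0), (325,0), (328,0)])

def tms272 : Term := (4, 15, 7, [(3,0), (10,0), (0,0), (14,0), (11,0), (15,0), (116,0), (37,0), (2,0), (49,0), (40,0), (52,0)])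

def tms273 : Term := (4, 16, 7, [(56,0), (18,0), (20,0), (111,0), (120,0), (19,0), (243,0), (141,0), (44,0), (55,0), (43,0), (119,0)])

def tms274 : Term := (2, 17, 7, [(154,0), (330,0), (224,0), (294,0), (259,0), (96,0), (327,0), (302,0), (350,0), (307,0), (237,0), (223,0)])

def tms275 : Term := (1, 18, 7, [(57,0), (280,0), (166,0), (159,0), (121,0), (144,0), (290,0), (160,0), (263,0), (165,0), (251,0), (262,0)])

def tms276 : Term := (2, 15, 8, [(131,0), (337,0), (212,0), (268,0), (246,0), (90,0), (335,0), (277,0), (345,0), (288,0), (232,0), (211,0)])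

def tms277 : Term := (2, 16, 8, [(45,0), (304,0), (146,0), (137,0), (112,0), (142,0), (309,0), (136,0), (253,0), (145,0), (249,0), (252,0)])

def tms278 : Term := (4, 17, 8, [(4,0), (10,0), (0,0), (18,0), (12,0), (20,0), (128,0), (38,0), (2,0), (61,0), (44,0), (67,0)])

def tms279 : Term := (2, 15, 9, [(23,0), (180,0), (158,0), (73,0), (133,0), (74,0), (297,0), (105,0), (300,0), (156,0), (233,0), (182,0)])

def tms280 : Term := (2, 16, 9, [(5,0), (354,0), (59,0), (35,0), (46,0), (47,0), (353,0), (34,0), (356,0), (58,0), (352,0), (355,0)])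

def tms281 : Term := (3, 17, 9, [(53,0), (11,0), (15,0), (120,0), (143,0), (19,0), (255,0), (41,0), (52,0), (168,0), (119,0), (64,0)])

def tms282 : Term := (3, 15, 19, [(4,0), (62,0), (65,0), (18,0), (143,0), (19,0), (162,0), (110,0), (170,0), (61,0), (243,0), (64,0)])

def tms283 : Term := (4, 16, 19, [(0,0), (284,0), (68,0), (38,0), (52,0), (53,0), (265,0), (37,0), (256,0), (67,0), (250,0), (255,0)])

def tms284 : Term := (2, 17, 19, [(89,0), (25,0), (28,0), (194,0), (209,0), (31,0), (328,0), (80,0), (88,0), (226,0), (193,0), (97,0)])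

def tms285 : Term := (2, 19, 3, [(72,0), (35,0), (23,0), (176,0), (172,0), (47,0), (352,0), (105,0), (70,0), (269,0), (231,0), (133,0)])

def tms286 : Term := (3, 19, 4, [(177,0), (253,0), (212,0), (175,0), (278,0), (45,0), (309,0), (232,0), (298,0), (326,0), (203,0), (288,0)])

def tms287 : Term := (3, 19, 5, [(32,0), (222,0), (217,0), (24,0), (193,0), (28,0), (199,0), (207,0), (215,0), (201,0), (190,0), (226,0)])

def tms288 : Term := (3, 19, 7, [(16,0), (38,0), (4,0), (50,0), (41,0), (53,0), (250,0), (110,0), (12,0), (139,0), (117,0), (143,0)])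

def tms289 : Term := (2, 19, 8, [(54,0), (306,0), (169,0), (48,0), (118,0), (51,0), (264,0), (242,0), (266,0), (358,0), (115,0), (167,0)])

def tms290 : Term := (1, 19, 9, [(17,0), (239,0), (276,0), (9,0), (271,0), (13,0), (296,0), (234,0), (299,0), (235,0), (230,0), (273,0)])

def tms291 : Term := (3, 19, 19, [(20,0), (164,0), (152,0), (10,0), (119,0), (15,0), (125,0), (141,0), (149,0), (128,0), (116,0), (168,0)])

def tmsL0 : List Term := [tms0, tms1, tms2, tms3, tms4, tms5, tms6, tms7, tms8, tms9, tms10, tms11, tms12, tms13, tms14, tms15, tms16, tms17, tms18, tms19, tms20, tms21, tms22, tms23, tms24, tms25, tms26, tms27, tms28, tms29, tms30, tms31, tms32, tms33, tms34, tms35, tms36, tms37, tms38, tms39, tms40, tms41, tms42, tms43, tms44, tms45, tms46, tms47, tms48, tms49]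

def tmsL1 : List Term := [tms50, tms51, tms52, tms53, tms54, tms55, tms56, tms57, tms58, tms59, tms60, tms61, tms62, tms63, tms64, tms65, tms66, tms67, tms68, tms69, tms70, tms71, tms72, tms73, tms74, tms75, tms76, tms77, tms78, tms79, tms80, tms81, tms82, tms83, tms84, tms85, tms86, tms87, tms88, tms89, tms90, tms91, tms92, tms93, tms94, tms95, tms96, tms97, tms98, tms99]

def tmsL2 : List Term := [tms100, tms101, tms102, tms103, tms104, tms105, tms106, tms107, tms108, tms109, tms110, tms111, tms112, tms113, tms114, tms115, tms116, tms117, tms118, tms119, tms120, tms121, tms122, tms123, tms124, tms125, tms126, tms127, tms128, tms129, tms130, tms131, tms132, tms133, tms134, tms135, tms136, tms137, tms138, tms139, tms140, tms141, tms142, tms143, tms144, tms145, tms146, tms147, tms148, tms149]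

def tmsL3 : List Term := [tms150, tms151, tms152, tms153, tms154, tms155, tms156, tms157, tms158, tms159, tms160, tms161, tms162, tms163, tms164, tms165, tms166, tms167, tms168, tms169, tms170, tms171, tms172, tms173, tms174, tms175, tms176, tms177, tms178, tms179, tms180, tms181, tms182, tms183, tms184, tms185, tms186, tms187, tms188, tms189, tms190, tms191, tms192, tms193, tms194, tms195, tms196, tms197, tms198, tms199]

def tmsL4 : List Term := [tms200, tms201, tms202, tms203, tms204, tms205, tms206, tms207, tms208, tms209, tms210, tms211, tms212, tms213, tms214, tms215, tms216, tms217, tms218, tms219, tms220, tms221, tms222, tms223, tms224, tms225, tms226, tms227, tms228, tms229, tms230, tms231, tms232, tms233, tms234, tms235, tms236, tms237, tms238, tms239, tms240, tms241, tms242, tms243, tms244, tms245, tms246, tms247, tms248, tms249]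

def tmsL5 : List Term := [tms250, tms251, tms252, tms253, tms254, tms255, tms256, tms257, tms258, tms259, tms260, tms261, tms262, tms263, tms264, tms265, tms266, tms267, tms268, tms269, tms270, tms271, tms272, tms273, tms274, tms275, tms276, tms277, tms278, tms279, tms280, tms281, tms282, tms283, tms284, tms285, tms286, tms287, tms288, tms289, tms290, tms291]

def tms : List Term := tmsL0 ++ tmsL1 ++ tmsL2 ++ tmsL3 ++ tmsL4 ++ tmsL5

def repsT : BT := (.node (.node (.node (.node (.node (.node (.node (.node (.node (.leaf 0x9876543210) (.leaf 0x9876543021)) (.node (.leaf 0x9876540231) (.leaf 0x9876503241))) (.node (.node (.leaf 0x9876043251) (.leaf 0x9876543102)) (.node (.leaf 0x9876540123) (.leaf 0x9876503124)))) (.node (.node (.node (.leaf 0x9876043125) (.leaf 0x9876541032)) (.node (.leaf 0x9876541203) (.leaf 0x9876501234))) (.node (.node (.leaf 0x9876041235) (.leaf 0x9876513042)) (.node (.leaf 0x9876510243) (.leaf 0x9876513204))))) (.node (.node (.node (.node (.leaf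 0x9876013245) (.leaf 0x9876143052)) (.node (.leaf 0x9876140253) (.leaf 0x9876103254))) (.node (.node (.leaf 0x9876143205) (.leaf 0x9876540312)) (.node (.leaf 0x9876503412) (.leaf 0x9876043512)))) (.node (.node (.node (.leaf 0x9876541320) (.leaf 0x9876501423)) (.node (.leaf 0x9876041523) (.leaf 0x9876510324))) (.node (.node (.leaf 0x9876513420) (.leaf 0x9876013524)) (.node (.leaf 0x9876140325) (.leaf 0x9876103425)))))) (.node (.node (.node (.node (.node (.leaf 0x9876143520) (.leaf 0x9876542130)) (.node (.leaf 0x9876504132) (.leaf 0x9876045132))) (.node (.node (.leaf 0x9876542013) (.leaf 0x9876504213)) (.node (.leaf 0x9876045213) (.leaf 0x9876512034)))) (.node (.node (.node (.leaf 0x9876514230) (.leaf 0x9876015234)) (.node (.leaf 0x9876142035) (.leaf 0x9876104235))) (.node (.node (.leaf 0x9876145230) (.leaf 0x9876523140)) (.node (.leaf 0x9876530142) (.leaf 0x9876053142))))) (.node (.node (.node (.node (.leaf 0x9876521043) (.leaf 0x9876531240)) (.node (.leaf 0x9876051243)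 (.leaf 0x9876523014))) (.node (.node (.leaf 0x9876530214) (.leaf 0x9876053214)) (.node (.leaf 0x9876123045) (.leaf 0x9876130245)))) (.node (.node (.node (.leaf 0x9876153240) (.leaf 0x9876243150)) (.node (.leaf 0x9876340152) (.leaf 0x9876403152))) (.node (.node (.leaf 0x9876241053) (.leaf 0x9876341250)) (.node (.leaf 0x9876401253) (.leaf 0x9876213054))))))) (.node (.node (.node (.node (.node (.node (.leaf 0x9876310254) (.leaf 0x9876413250)) (.node (.leaf 0x9876243015) (.leaf 0x9876340215))) (.node (.node (.leaf 0x9876403215) (.leaf 0x9876501342)) (.node (.leaf 0x9876041352) (.leaf 0x9876510432)))) (.node (.node (.node (.leaf 0x9876013452) (.leaf 0x9876140532)) (.node (.leaf 0x9876103542) (.leaf 0x9876542301))) (.node (.node (.leaf 0x9876504321) (.leaf 0x9876045321)) (.node (.leaf 0x9876512403) (.leaf 0x9876514023))))) (.node (.node (.node (.node (.leaf 0x9876015423) (.leaf 0x9876142503)) (.node (.leaf 0x9876104523) (.leaf 0x9876145023))) (.node (.node (.leaf 0x9876521304)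 (.leaf 0x9876531024)) (.node (.leaf 0x9876051324) (.leaf 0x9876523401)))) (.node (.node (.node (.leaf 0x9876530421) (.leaf 0x9876053421)) (.node (.leaf 0x9876123504) (.leaf 0x9876130524))) (.node (.node (.leaf 0x9876153024) (.leaf 0x9876241305)) (.node (.leaf 0x9876341025) (.leaf 0x9876401325)))))) (.node (.node (.node (.node (.node (.leaf 0x9876213405) (.leaf 0x9876310425)) (.node (.leaf 0x9876413025) (.leaf 0x9876243501))) (.node (.node (.leaf 0x9876340521) (.leaf 0x9876403521)) (.node (.leaf 0x9876502431) (.leaf 0x9876042531)))) (.node (.node (.node (.leaf 0x9876514302) (.leaf 0x9876014532)) (.node (.leaf 0x9876145302) (.leaf 0x9876105432))) (.node (.node (.leaf 0x9876502143) (.leaf 0x9876042153)) (.node (.leaf 0x9876014253) (.leaf 0x9876105243))))) (.node (.node (.node (.node (.leaf 0x9876520134) (.leaf 0x9876532104)) (.node (.leaf 0x9876052134) (.leaf 0x9876524031))) (.node (.node (.leaf 0x9876534201) (.leaf 0x9876054231)) (.node (.leaf 0x9876125034) (.leaf 0x9876135204))))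 (.node (.node (.node (.leaf 0x9876150234) (.leaf 0x9876240135)) (.node (.leaf 0x9876342105) (.leaf 0x9876402135))) (.node (.node (.leaf 0x9876214035) (.leaf 0x9876314205)) (.node (.leaf 0x9876410235) (.leaf 0x9876245031)))))))) (.node (.node (.node (.node (.node (.node (.node (.leaf 0x9876345201) (.leaf 0x9876405231)) (.node (.leaf 0x9876520341) (.leaf 0x9876023541))) (.node (.node (.leaf 0x9876531402) (.leaf 0x9876031542)) (.node (.leaf 0x9876150342) (.leaf 0x9876153402)))) (.node (.node (.node (.leaf 0x9876524103) (.leaf 0x9876025143)) (.node (.leaf 0x9876532041) (.leaf 0x9876035241))) (.node (.node (.leaf 0x9876152043) (.leaf 0x9876154203)) (.node (.leaf 0x9876023154) (.leaf 0x9876031254))))) (.node (.node (.node (.node (.leaf 0x9876203145) (.leaf 0x9876320145)) (.node (.leaf 0x9876423105) (.leaf 0x9876231045))) (.node (.node (.leaf 0x9876301245) (.leaf 0x9876431205)) (.node (.leaf 0x9876253041) (.leaf 0x9876350241)))) (.node (.node (.node (.leaf 0x9876453201) (.leaf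 0x9876240351)) (.node (.leaf 0x9876203451) (.leaf 0x9876301452))) (.node (.node (.leaf 0x9876341502) (.leaf 0x9876410352)) (.node (.leaf 0x9876413502) (.leaf 0x9876204153)))))) (.node (.node (.node (.node (.node (.leaf 0x9876245103) (.leaf 0x9876342051)) (.node (.leaf 0x9876304251) (.leaf 0x9876412053))) (.node (.node (.leaf 0x9876415203) (.leaf 0x9876230154)) (.node (.leaf 0x9876253104) (.leaf 0x9876321054)))) (.node (.node (.node (.leaf 0x9876351204) (.leaf 0x9876423051)) (.node (.leaf 0x9876430251) (.leaf 0x9876512340))) (.node (.node (.leaf 0x9876015342) (.leaf 0x9876142350)) (.node (.leaf 0x9876104352) (.leaf 0x9876521430))))) (.node (.node (.node (.node (.leaf 0x9876051432) (.leaf 0x9876123450)) (.node (.leaf 0x9876130452) (.leaf 0x9876241530))) (.node (.node (.leaf 0x9876401532) (.leaf 0x9876213540)) (.node (.leaf 0x9876310542) (.leaf 0x9876502314)))) (.node (.node (.node (.leaf 0x9876042315) (.leaf 0x9876014325)) (.node (.leaf 0x9876105324) (.leaf 0x9876520413)))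 (.node (.node (.leaf 0x9876532410) (.leaf 0x9876052413)) (.node (.leaf 0x9876534120) (.leaf 0x9876054123))))))) (.node (.node (.node (.node (.node (.node (.leaf 0x9876125403) (.leaf 0x9876135420)) (.node (.leaf 0x9876150423) (.leaf 0x9876240513))) (.node (.node (.leaf 0x9876342510) (.leaf 0x9876402513)) (.node (.leaf 0x9876214503) (.leaf 0x9876314520)))) (.node (.node (.node (.leaf 0x9876410523) (.leaf 0x9876345120)) (.node (.leaf 0x9876405123) (.leaf 0x9876524310))) (.node (.node (.leaf 0x9876025314) (.leaf 0x9876035124)) (.node (.leaf 0x9876152304) (.leaf 0x9876154320))))) (.node (.node (.node (.node (.leaf 0x9876023415) (.leaf 0x9876031425)) (.node (.leaf 0x9876203514) (.leaf 0x9876320514))) (.node (.node (.leaf 0x9876423510) (.leaf 0x9876231504)) (.node (.leaf 0x9876301524) (.leaf 0x9876431520)))) (.node (.node (.node (.leaf 0x9876350124) (.leaf 0x9876453120)) (.node (.leaf 0x9876204315) (.leaf 0x9876245310))) (.node (.node (.leaf 0x9876304125) (.leaf 0x9876412305))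 (.node (.leaf 0x9876415320) (.leaf 0x9876230415)))))) (.node (.node (.node (.node (.node (.leaf 0x9876253410) (.leaf 0x9876321405)) (.node (.leaf 0x9876351420) (.leaf 0x9876430125))) (.node (.node (.leaf 0x9876012435) (.leaf 0x9876102534)) (.node (.leaf 0x9876534012) (.leaf 0x9876054312)))) (.node (.node (.node (.leaf 0x9876124530) (.leaf 0x9876134502)) (.node (.leaf 0x9876154032) (.leaf 0x9876345012))) (.node (.node (.leaf 0x9876405312) (.leaf 0x9876215430)) (.node (.leaf 0x9876315402) (.leaf 0x9876415032))))) (.node (.node (.node (.node (.leaf 0x9876012543) (.leaf 0x9876102453)) (.node (.leaf 0x9876124053) (.leaf 0x9876134250))) (.node (.node (.leaf 0x9876215043) (.leaf 0x9876315240)) (.node (.leaf 0x9876021534) (.leaf 0x9876032514)))) (.node (.node (.node (.leaf 0x9876152430) (.leaf 0x9876024135)) (.node (.leaf 0x9876034215) (.leaf 0x9876205134))) (.node (.node (.leaf 0x9876325104) (.leaf 0x9876425130)) (.node (.leaf 0x9876235014) (.leaf 0x9876305214))))))))) (.node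 (.node (.node (.node (.node (.node (.node (.node (.leaf 0x9876435210) (.leaf 0x9876251034)) (.node (.leaf 0x9876451230) (.leaf 0x9876201435))) (.node (.node (.leaf 0x9876302415) (.leaf 0x9876412530)) (.node (.leaf 0x9876234105) (.leaf 0x9876254130)))) (.node (.node (.node (.leaf 0x9876324015) (.leaf 0x9876354210)) (.node (.leaf 0x9876421035) (.leaf 0x9876021345))) (.node (.node (.leaf 0x9876120543) (.leaf 0x9876035412)) (.node (.leaf 0x9876132540) (.leaf 0x9876135042))))) (.node (.node (.node (.node (.leaf 0x9876251340) (.leaf 0x9876351042)) (.node (.leaf 0x9876451302) (.leaf 0x9876350412))) (.node (.node (.leaf 0x9876453012) (.leaf 0x9876024513)) (.node (.leaf 0x9876125340) (.leaf 0x9876032145)))) (.node (.node (.node (.leaf 0x9876250143) (.leaf 0x9876352140)) (.node (.leaf 0x9876452103) (.leaf 0x9876254013))) (.node (.node (.leaf 0x9876450213) (.leaf 0x9876120354)) (.node (.leaf 0x9876132054) (.leaf 0x9876210345)))))) (.node (.node (.node (.node (.node (.leaf 0x9876321540)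 (.leaf 0x9876420315)) (.node (.leaf 0x9876235140) (.leaf 0x9876312045))) (.node (.node (.leaf 0x9876432015) (.leaf 0x9876201354)) (.node (.leaf 0x9876210453) (.leaf 0x9876312450)))) (.node (.node (.node (.leaf 0x9876314052) (.leaf 0x9876304512)) (.node (.leaf 0x9876421350) (.leaf 0x9876431052))) (.node (.node (.leaf 0x9876430512) (.leaf 0x9876214350)) (.node (.leaf 0x9876205413) (.leaf 0x9876302154))))) (.node (.node (.node (.node (.leaf 0x9876420153) (.leaf 0x9876432150)) (.node (.leaf 0x9876425013) (.leaf 0x9876231450))) (.node (.node (.leaf 0x9876250314) (.leaf 0x9876324150)) (.node (.leaf 0x9876352014) (.leaf 0x9876052341)))) (.node (.node (.node (.leaf 0x9876402351) (.leaf 0x9876025431)) (.node (.leaf 0x9876320451) (.leaf 0x9876204531))) (.node (.node (.leaf 0x9876230541) (.leaf 0x9876012354)) (.node (.leaf 0x9876102345) (.leaf 0x9876124305))))))) (.node (.node (.node (.node (.node (.node (.leaf 0x9876134025) (.leaf 0x9876215304)) (.node (.leaf 0x9876315024) (.leaf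 0x9876021453))) (.node (.node (.leaf 0x9876032451) (.leaf 0x9876034521)) (.node (.leaf 0x9876325410) (.leaf 0x9876235401)))) (.node (.node (.node (.leaf 0x9876305421) (.leaf 0x9876435021)) (.node (.leaf 0x9876251403) (.leaf 0x9876451023))) (.node (.node (.leaf 0x9876201543) (.leaf 0x9876302541)) (.node (.leaf 0x9876234510) (.leaf 0x9876324501))))) (.node (.node (.node (.node (.leaf 0x9876354021) (.leaf 0x9876421503)) (.node (.leaf 0x9876024351) (.leaf 0x9876452310))) (.node (.node (.leaf 0x9876254301) (.leaf 0x9876450321)) (.node (.leaf 0x9876120435) (.leaf 0x9876132405)))) (.node (.node (.node (.leaf 0x9876210534) (.leaf 0x9876420531)) (.node (.leaf 0x9876312504) (.leaf 0x9876432501))) (.node (.node (.leaf 0x9876205341) (.leaf 0x9876425301)) (.node (.leaf 0x9876250431) (.leaf 0x9876352401)))))) (.node (.node (.node (.node (.node (.leaf 0x9876034152) (.leaf 0x9876354102)) (.node (.leaf 0x9876450132) (.leaf 0x9876305142))) (.node (.node (.leaf 0x9876435102) (.leaf 0x9876234051))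 (.node (.leaf 0x9876325041) (.leaf 0x9876452031)))) (.leaf 0)) (.leaf 0)))) (.leaf 0)))

def repsP : BT := (.node (.node (.node (.node (.node (.node (.node (.node (.node (.leaf 0x0) (.leaf 0x0)) (.node (.leaf 0x1) (.leaf 0x2))) (.node (.node (.leaf 0x3) (.leaf 0x100)) (.node (.leaf 0x101) (.leaf 0x102)))) (.node (.node (.node (.leaf 0x103) (.leaf 0x200)) (.node (.leaf 0x201) (.leaf 0x202))) (.node (.node (.leaf 0x203) (.leaf 0x300)) (.node (.leaf 0x301) (.leaf 0x302))))) (.node (.node (.node (.node (.leaf 0x303) (.leaf 0x400)) (.node (.leaf 0x401) (.leaf 0x402))) (.node (.node (.leaf 0x403) (.leaf 0x501)) (.node (.leaf 0x502) (.leaf 0x503)))) (.node (.node (.node (.leaf 0x601) (.leaf 0x602)) (.node (.leaf 0x603) (.leaf 0x701))) (.node (.node (.leaf 0x702) (.leaf 0x703)) (.node (.leaf 0x801) (.leaf 0x802)))))) (.node (.node (.node (.node (.node (.leaf 0x803) (.leaf 0x900)) (.node (.leaf 0x902) (.leaf 0x903))) (.node (.node (.leaf 0xa00) (.leaf 0xa02)) (.node (.leaf 0xa03)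 (.leaf 0xb00)))) (.node (.node (.node (.leaf 0xb02) (.leaf 0xb03)) (.node (.leaf 0xc00) (.leaf 0xc02))) (.node (.node (.leaf 0xc03) (.leaf 0xd00)) (.node (.leaf 0xd01) (.leaf 0xd03))))) (.node (.node (.node (.node (.leaf 0xe00) (.leaf 0xe01)) (.node (.leaf 0xe03) (.leaf 0xf00))) (.node (.node (.leaf 0xf01) (.leaf 0xf03)) (.node (.leaf 0x1000) (.leaf 0x1001)))) (.node (.node (.node (.leaf 0x1003) (.leaf 0x1100)) (.node (.leaf 0x1101) (.leaf 0x1102))) (.node (.node (.leaf 0x1200) (.leaf 0x1201)) (.node (.leaf 0x1202) (.leaf 0x1300))))))) (.node (.node (.node (.node (.node (.node (.leaf 0x1301) (.leaf 0x1302)) (.node (.leaf 0x1400) (.leaf 0x1401))) (.node (.node (.leaf 0x1402) (.leaf 0x1502)) (.node (.leaf 0x1503) (.leaf 0x1601)))) (.node (.node (.node (.leaf 0x1603) (.leaf 0x1701)) (.node (.leaf 0x1702) (.leaf 0x1800))) (.node (.node (.leaf 0x1802) (.leaf 0x1803)) (.node (.leaf 0x1900) (.leaf 0x1902))))) (.node (.node (.node (.node (.leaf 0x1903) (.leaf 0x1a00)) (.node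 (.leaf 0x1a02) (.leaf 0x1a03))) (.node (.node (.leaf 0x1b00) (.leaf 0x1b01)) (.node (.leaf 0x1b03) (.leaf 0x1c00)))) (.node (.node (.node (.leaf 0x1c01) (.leaf 0x1c03)) (.node (.leaf 0x1d00) (.leaf 0x1d01))) (.node (.node (.leaf 0x1d03) (.leaf 0x1e00)) (.node (.leaf 0x1e01) (.leaf 0x1e02)))))) (.node (.node (.node (.node (.node (.leaf 0x1f00) (.leaf 0x1f01)) (.node (.leaf 0x1f02) (.leaf 0x2000))) (.node (.node (.leaf 0x2001) (.leaf 0x2002)) (.node (.leaf 0x2102) (.leaf 0x2103)))) (.node (.node (.node (.leaf 0x2201) (.leaf 0x2203)) (.node (.leaf 0x2301) (.leaf 0x2302))) (.node (.node (.leaf 0x2402) (.leaf 0x2403)) (.node (.leaf 0x2503) (.leaf 0x2602))))) (.node (.node (.node (.node (.leaf 0x2700) (.leaf 0x2701)) (.node (.leaf 0x2703) (.leaf 0x2800))) (.node (.node (.leaf 0x2801) (.leaf 0x2803)) (.node (.leaf 0x2900) (.leaf 0x2901)))) (.node (.node (.node (.leaf 0x2903) (.leaf 0x2a00)) (.node (.leaf 0x2a01) (.leaf 0x2a02))) (.node (.node (.leaf 0x2b00) (.leaf 0x2b01))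 (.node (.leaf 0x2b02) (.leaf 0x2c00)))))))) (.node (.node (.node (.node (.node (.node (.node (.leaf 0x2c01) (.leaf 0x2c02)) (.node (.leaf 0x2d01) (.leaf 0x2d03))) (.node (.node (.leaf 0x2e02) (.leaf 0x2e03)) (.node (.leaf 0x2f01) (.leaf 0x2f02)))) (.node (.node (.node (.leaf 0x3002) (.leaf 0x3003)) (.node (.leaf 0x3100) (.leaf 0x3103))) (.node (.node (.leaf 0x3200) (.leaf 0x3202)) (.node (.leaf 0x3303) (.leaf 0x3403))))) (.node (.node (.node (.node (.leaf 0x3600) (.leaf 0x3601)) (.node (.leaf 0x3602) (.leaf 0x3700))) (.node (.node (.leaf 0x3701) (.leaf 0x3702)) (.node (.leaf 0x3800) (.leaf 0x3801)))) (.node (.node (.node (.leaf 0x3802) (.leaf 0x3901)) (.node (.leaf 0x3902) (.leaf 0x3a02))) (.node (.node (.leaf 0x3a03) (.leaf 0x3b01)) (.node (.leaf 0x3b03) (.leaf 0x3c02)))))) (.node (.node (.node (.node (.node (.leaf 0x3c03) (.leaf 0x3d00)) (.node (.leaf 0x3d02) (.leaf 0x3e00))) (.node (.node (.leaf 0x3e03) (.leaf 0x3f01)) (.node (.leaf 0x3f03) (.leaf 0x4000)))) (.node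 (.node (.node (.leaf 0x4003) (.leaf 0x4100)) (.node (.leaf 0x4101) (.leaf 0x4500))) (.node (.node (.leaf 0x4503) (.leaf 0x4600)) (.node (.leaf 0x4602) (.leaf 0x4700))))) (.node (.node (.node (.node (.leaf 0x4703) (.leaf 0x4800)) (.node (.leaf 0x4801) (.leaf 0x4900))) (.node (.node (.leaf 0x4902) (.leaf 0x4a00)) (.node (.leaf 0x4a01) (.leaf 0x4b02)))) (.node (.node (.node (.leaf 0x4b03) (.leaf 0x4c03)) (.node (.leaf 0x4d02) (.leaf 0x4e00))) (.node (.node (.leaf 0x4e01) (.leaf 0x4e03)) (.node (.leaf 0x4f01) (.leaf 0x4f03))))))) (.node (.node (.node (.node (.node (.node (.leaf 0x5000) (.leaf 0x5001)) (.node (.leaf 0x5003) (.leaf 0x5100))) (.node (.node (.leaf 0x5101) (.leaf 0x5102)) (.node (.leaf 0x5200) (.leaf 0x5201)))) (.node (.node (.node (.leaf 0x5202) (.leaf 0x5301)) (.node (.leaf 0x5302) (.leaf 0x5402))) (.node (.node (.leaf 0x5403) (.leaf 0x5503)) (.node (.leaf 0x5600) (.leaf 0x5602))))) (.node (.node (.node (.node (.leaf 0x5703) (.leaf 0x5803)) (.node (.leaf 0x5a00)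 (.leaf 0x5a01))) (.node (.node (.leaf 0x5a02) (.leaf 0x5b00)) (.node (.leaf 0x5b01) (.leaf 0x5b02)))) (.node (.node (.node (.leaf 0x5c01) (.leaf 0x5c02)) (.node (.leaf 0x5d02) (.leaf 0x5d03))) (.node (.node (.leaf 0x5e02) (.leaf 0x5f00)) (.node (.leaf 0x5f03) (.leaf 0x6001)))))) (.node (.node (.node (.node (.node (.leaf 0x6003) (.leaf 0x6100)) (.node (.leaf 0x6103) (.leaf 0x6201))) (.node (.node (.leaf 0x6603) (.leaf 0x6702)) (.node (.leaf 0x6801) (.leaf 0x6803)))) (.node (.node (.node (.leaf 0x6900) (.leaf 0x6901)) (.node (.leaf 0x6903) (.leaf 0x6a01))) (.node (.node (.leaf 0x6a02) (.leaf 0x6b00)) (.node (.leaf 0x6b01) (.leaf 0x6b02))))) (.node (.node (.node (.node (.leaf 0x6c03) (.leaf 0x6d02)) (.node (.leaf 0x6e00) (.leaf 0x6e01))) (.node (.node (.leaf 0x6f00) (.leaf 0x6f01)) (.node (.leaf 0x7003) (.leaf 0x7103)))) (.node (.node (.node (.leaf 0x7202) (.leaf 0x7303)) (.node (.leaf 0x7403) (.leaf 0x7600))) (.node (.node (.leaf 0x7601) (.leaf 0x7602)) (.node (.leaf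 0x7700) (.leaf 0x7701))))))))) (.node (.node (.node (.node (.node (.node (.node (.node (.leaf 0x7702) (.leaf 0x7800)) (.node (.leaf 0x7802) (.leaf 0x7902))) (.node (.node (.leaf 0x7a02) (.leaf 0x7b03)) (.node (.leaf 0x7c01) (.leaf 0x7c03)))) (.node (.node (.node (.leaf 0x7d00) (.leaf 0x7d03)) (.node (.leaf 0x7e00) (.leaf 0x8203))) (.node (.node (.leaf 0x8301) (.leaf 0x8403)) (.node (.leaf 0x8500) (.leaf 0x8503))))) (.node (.node (.node (.node (.leaf 0x8600) (.leaf 0x8601)) (.node (.leaf 0x8602) (.leaf 0x8701))) (.node (.node (.leaf 0x8702) (.leaf 0x8803)) (.node (.leaf 0x8901) (.leaf 0x8a03)))) (.node (.node (.node (.leaf 0x8c00) (.leaf 0x8c01)) (.node (.leaf 0x8c02) (.leaf 0x8d00))) (.node (.node (.leaf 0x8d02) (.leaf 0x8e01)) (.node (.leaf 0x8f00) (.leaf 0x9001)))))) (.node (.node (.node (.node (.node (.leaf 0x9103) (.leaf 0x9201)) (.node (.leaf 0x9303) (.leaf 0x9400))) (.node (.node (.leaf 0x9500) (.leaf 0x9902)) (.node (.leaf 0x9a01) (.leaf 0x9b00)))) (.node (.node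 (.node (.leaf 0x9b02) (.leaf 0x9c02)) (.node (.leaf 0x9d00) (.leaf 0x9d01))) (.node (.node (.leaf 0x9e01) (.leaf 0x9f01)) (.node (.leaf 0xa002) (.leaf 0xa102))))) (.node (.node (.node (.node (.leaf 0xa300) (.leaf 0xa301)) (.node (.leaf 0xa400) (.leaf 0xa502))) (.node (.node (.leaf 0xa601) (.leaf 0xa702)) (.node (.leaf 0xa800) (.leaf 0xab03)))) (.node (.node (.node (.leaf 0xad02) (.leaf 0xaf03)) (.node (.leaf 0xb101) (.leaf 0xb302))) (.node (.node (.leaf 0xb501) (.leaf 0xb703)) (.node (.leaf 0xb802) (.leaf 0xb900))))))) (.node (.node (.node (.node (.node (.node (.leaf 0xb901) (.leaf 0xba00)) (.node (.leaf 0xba01) (.leaf 0xbb03))) (.node (.node (.leaf 0xbc03) (.leaf 0xbe03)) (.node (.leaf 0xc001) (.leaf 0xc100)))) (.node (.node (.node (.leaf 0xc101) (.leaf 0xc102)) (.node (.leaf 0xc200) (.leaf 0xc202))) (.node (.node (.leaf 0xc302) (.leaf 0xc402)) (.node (.leaf 0xc601) (.leaf 0xc700))))) (.node (.node (.node (.node (.leaf 0xc703) (.leaf 0xc800)) (.node (.leaf 0xcb03)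 (.leaf 0xce02))) (.node (.node (.leaf 0xcf00) (.leaf 0xcf02)) (.node (.leaf 0xd001) (.leaf 0xd100)))) (.node (.node (.node (.leaf 0xd201) (.leaf 0xd401)) (.node (.leaf 0xd600) (.leaf 0xd700))) (.node (.node (.leaf 0xdb02) (.leaf 0xde00)) (.node (.leaf 0xe001) (.leaf 0xe200)))))) (.node (.node (.node (.node (.node (.leaf 0xe603) (.leaf 0xea01)) (.node (.leaf 0xea02) (.leaf 0xeb02))) (.node (.node (.leaf 0xef01) (.leaf 0xf300)) (.node (.leaf 0xf500) (.leaf 0xf802)))) (.leaf 0)) (.leaf 0)))) (.leaf 0)))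

def eltsT : BT := (.node (.node (.node (.node (.node (.leaf 0x9876543210) (.leaf 0x9876503241)) (.node (.leaf 0x9876510243) (.leaf 0x9876543021))) (.node (.node (.leaf 0x9876013245) (.leaf 0x9876540123)) (.node (.leaf 0x9876541320) (.leaf 0x9876504321)))) (.node (.node (.node (.leaf 0x9876014325) (.leaf 0x9876124305)) (.node (.leaf 0x9876542301) (.leaf 0x9876043251))) (.node (.node (.leaf 0x9876513042) (.leaf 0x9876143052)) (.node (.leaf 0x9876103254) (.leaf 0x9876523140))))) (.node (.node (.node (.node (.leaf 0x9876123045) (.leaf 0x9876243150)) (.node (.leaf 0x9876213054) (.leaf 0x9876023541))) (.leaf 0)) (.leaf 0)))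

def eltsP : BT := (.node (.node (.node (.node (.node (.leaf 0x0) (.leaf 0x2)) (.node (.leaf 0x101) (.leaf 0x0))) (.node (.node (.leaf 0x103) (.leaf 0x301)) (.node (.leaf 0x501) (.leaf 0x602)))) (.node (.node (.node (.leaf 0x703) (.leaf 0x800)) (.node (.leaf 0x600) (.leaf 0x3))) (.node (.node (.leaf 0x100) (.leaf 0xb00)) (.node (.leaf 0xb02) (.leaf 0xc00))))) (.node (.node (.node (.node (.leaf 0x400) (.leaf 0xd00)) (.node (.leaf 0xe00) (.leaf 0xf03))) (.leaf 0)) (.leaf 0)))

def hsT : BT := (.node (.leaf 0x9876543210) (.leaf 0))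

def hsP : BT := (.node (.leaf 0x0) (.leaf 0))

def quads : List (Fin 10 × Fin 10 × Fin 10 × Fin 10) := [(0,1,1,2), (0,1,1,3), (0,1,1,4), (0,1,1,5)]

def gens : List ℕ := quads.map quadCode

def gensH : List ℕ := []

def elts : Tab := ⟨10, 20, 5, eltsT, []⟩

def hsTab : Tab := ⟨10, 1, 1, hsT, []⟩

def tab : Tab := ⟨10, 360, 9, repsT, [654820258320]⟩

def seedIx : List (ℕ × ℕ) := [(2, 3), (4, 9), (10, 3)]

def seeds : List (ℕ × ℕ) := seedIx.map fun s => (elts.rep s.1, elts.rep s.2)

end SixZero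

end Cfsg.Lib.AltSection.Five
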