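import Cfsg.Agent.AltSection.Five.FixA4
import Cfsg.Agent.AltSection.Five.FixV4
import Cfsg.Agent.AltSection.Five.ZeroA
import Cfsg.Agent.AltSection.Five.ZeroB
import Cfsg.Agent.AltSection.Five.SixOne
import Cfsg.Agent.AltSection.Five.SixZero
import Cfsg.Agent.AltSection.Five.Local
import Cfsg.Agent.AltSection.Five.IdA
import Cfsg.Agent.AltSection.Five.IdB

/-!
# Every `F₅[A₁₀]`-module has a vector fixed by a nonsolvable subgroup
-/

set_option maxHeartbeats 0
set_option maxRecDepth 100000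

namespace Cfsg.Lib.AltSection.Five

/-- Kernel checks of a regular or coset table. -/
def okTables (T E H : Tab) (quads : List (Fin 10 × Fin 10 × Fin 10 × Fin 10)) (gens gensH : List ℕ)
    (rP eP hP : BT) : Bool :=
  (quads.all fun q => decide (q.1 ≠ q.2.1 ∧ q.2.2.1 ≠ q.2.2.2)) && T.okReps gens rP && E.okReps gens eP &&
    H.okReps gensH hP && (T.rep 0 == idC 10) && (T.hs == (List.range H.N).map H.rep) &&
    (gensH.all fun x => ((List.range E.N).map E.rep).contains x)

theorem tables {T E H : Tab} {quads : List (Fin 10 × Fin 10 × Fin 10 × Fin 10)} {gens gensH : List ℕ}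
    {rP eP hP : BT} (hT : T.n = 10) (hE : E.n = 10) (hH : H.n = 10) (hg : gens = quads.map quadCode)
    (h : okTables T E H quads gens gensH rP eP hP = true) :
    (∀ i, i < T.N → Mem 10 (T.rep i)) ∧ (∀ i, i < E.N → Mem 10 (E.rep i)) ∧
      (∀ x ∈ gensH, Mem 10 x) ∧ T.rep 0 = idC 10 ∧ T.hs = (List.range H.N).map H.rep ∧
      H.okReps gensH hP = true := by
  simp only [okTables, Bool.and_eq_true, beq_iff_eq] at h
  obtain ⟨⟨⟨⟨⟨⟨h0, h1⟩, h2⟩, h3⟩, h4⟩, h5⟩, h6⟩ := h
  have hgm : ∀ x ∈ gens, Mem 10 x := hg ▸ mem_quads quads h0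
  refine ⟨mem_of_tab hT (by norm_num) hgm h1, mem_of_tab hE (by norm_num) hgm h2, ?_, h4, h5, h3⟩
  intro x hx
  have h7 := List.all_eq_true.1 h6 x hx
  simp only [List.contains_iff_mem, List.mem_map, List.mem_range] at h7
  obtain ⟨i, hi, rfl⟩ := h7
  exact mem_of_tab hE (by norm_num) hgm h2 i hi

theorem fixA4_ok : okTables FixA4.tab FixA4.elts FixA4.hsTab FixA4.quads FixA4.gens FixA4.gensH
    FixA4.repsP FixA4.eltsP FixA4.hsP = true := by decide +kernel
theorem fixV4_ok : okTables FixV4.tab FixV4.elts FixV4.hsTab FixV4.quads FixV4.gens FixV4.gensH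
    FixV4.repsP FixV4.eltsP FixV4.hsP = true := by decide +kernel
theorem zeroA_ok : okTables ZeroA.tab ZeroA.elts ZeroA.hsTab ZeroA.quads ZeroA.gens ZeroA.gensH
    ZeroA.repsP ZeroA.eltsP ZeroA.hsP = true := by decide +kernel
theorem zeroB_ok : okTables ZeroB.tab ZeroB.elts ZeroB.hsTab ZeroB.quads ZeroB.gens ZeroB.gensH
    ZeroB.repsP ZeroB.eltsP ZeroB.hsP = true := by decide +kernel
theorem sixOne_ok : okTables SixOne.tab SixOne.elts SixOne.hsTab SixOne.quads SixOne.gens SixOne.gensH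
    SixOne.repsP SixOne.eltsP SixOne.hsP = true := by decide +kernel
theorem sixZero_ok : okTables SixZero.tab SixZero.elts SixZero.hsTab SixZero.quads SixZero.gens SixZero.gensH
    SixZero.repsP SixZero.eltsP SixZero.hsP = true := by decide +kernel
theorem local_ok : okTables Local.tab Local.elts Local.hsTab Local.quads Local.gens Local.gensH
    Local.repsP Local.eltsP Local.hsP = true := by decide +kernel
theorem idA_ok : okTables IdA.tab IdA.elts IdA.hsTab IdA.quads IdA.gens IdA.gensH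
    IdA.repsP IdA.eltsP IdA.hsP = true := by decide +kernel
theorem idB_ok : okTables IdB.tab IdB.elts IdB.hsTab IdB.quads IdB.gens IdB.gensH
    IdB.repsP IdB.eltsP IdB.hsP = true := by decide +kernel

/-- Check that seeds lie in the table and are triangle pairs or the given pair. -/
def okSeeds (E : Tab) (ix : List (ℕ × ℕ)) (tri : Bool) (extra : List (ℕ × ℕ)) : Bool :=
  ix.all fun s => decide (s.1 < E.N) && decide (s.2 < E.N) &&
    ((tri && okTriangle 10 (E.rep s.1, E.rep s.2)) || extra.contains (E.rep s.1, E.rep s.2))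

variable {W : Type*} [AddCommGroup W] {ρ : alternatingGroup (Fin 10) →* AddMonoid.End W}

theorem mem_ops : (∀ g ∈ opA, Mem 10 g.1) ∧ (∀ g ∈ opB, Mem 10 g.1) ∧ Mem 10 cA ∧ Mem 10 cB := by
  obtain ⟨hA, -⟩ := tables (T := IdA.tab) rfl rfl rfl rfl idA_ok
  obtain ⟨hB, -⟩ := tables (T := IdB.tab) rfl rfl rfl rfl idB_ok
  have key : ∀ (T : Tab) (x : ℕ), (∀ i, i < T.N → Mem 10 (T.rep i)) →
      ((List.range T.N).map T.rep).contains x = true → Mem 10 x := by
    intro T x h hx
    simp only [List.contains_iff_mem, List.mem_map, List.mem_range] at hx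
    obtain ⟨i, hi, rfl⟩ := hx
    exact h i hi
  have e1 : (opA.all fun g => ((List.range IdA.tab.N).map IdA.tab.rep).contains g.1) = true := by decide +kernel
  have e2 : (opB.all fun g => ((List.range IdB.tab.N).map IdB.tab.rep).contains g.1) = true := by decide +kernel
  exact ⟨fun g hg => key _ _ hA (List.all_eq_true.1 e1 g hg), fun g hg => key _ _ hB (List.all_eq_true.1 e2 g hg),
    key _ cA hA (by decide +kernel), key _ cB hB (by decide +kernel)⟩

/-- A vector fixed by nothing gives a regular table. -/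
theorem good_regular (T E H : Tab) {quads : List (Fin 10 × Fin 10 × Fin 10 × Fin 10)} {gens : List ℕ}
    {rP eP hP : BT} (hT : T.n = 10) (hE : E.n = 10) (hH : H.n = 10) (hg : gens = quads.map quadCode)
    (h : okTables T E H quads gens [] rP eP hP = true) (ρ' : alternatingGroup (Fin T.n) →* AddMonoid.End W)
    (hc : ∀ x : W, 5 • x = 0) (w : W) : Good T 5 ρ' w := by
  obtain ⟨hR, -, -, -, he, hh⟩ := tables hT hE hH hg h
  have := fixed_of_gens (n := T.n) (by omega) ρ' (hH.trans hT.symm) (by simp) hh w (by simp)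
  exact Good.mk' T 5 ρ' w (by omega) (hT.symm ▸ hR) H (fun i hi => (this i hi).1) he (fun i hi => (this i hi).2) hc

theorem neg_of_char (hc : ∀ x : W, 5 • x = 0) (x : W) : 4 • x = -x := by
  rw [eq_neg_iff_add_eq_zero, ← succ_nsmul]
  exact hc x

theorem idemA (hc : ∀ x : W, 5 • x = 0) (w : W) :
    opE ρ opA (opE ρ opA w) = opE ρ opA w ∧ act ρ cA (opE ρ opA w) = opE ρ opA (act ρ cA w) := by
  obtain ⟨mA, mB, mcA, mcB⟩ := mem_ops
  obtain ⟨-, -, -, h0, -⟩ := tables (T := IdA.tab) rfl rfl rfl rfl idA_ok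
  have G : Good IdA.tab 5 ρ w := good_regular IdA.tab IdA.elts IdA.hsTab rfl rfl rfl rfl idA_ok ρ hc w
  have e : val IdA.tab ρ w [(0, 1)] = w := G.val_unit h0
  have e1 : opE ρ opA w = val IdA.tab ρ w (opV opA [(0, 1)] IdA.wE) :=
    (congrArg (opE ρ opA) e.symm).trans (G.opE_val opA mA [(0, 1)] IdA.wE (by decide +kernel))
  have e2 : act ρ cA w = val IdA.tab ρ w (imgV [(0, 1)] (IdA.wC.getD 1 [])) :=
    (congrArg (act ρ cA) e.symm).trans (G.act_val mcA _ _ (by decide +kernel))
  refine ⟨?_, ?_⟩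
  · rw [e1]
    exact (G.opE_val opA mA (opV opA [(0, 1)] IdA.wE) IdA.wEE (by decide +kernel)).trans
      (G.val_congr (k := 4) rfl _ _ (by decide +kernel))
  · rw [e1, e2]
    exact ((G.act_val mcA (opV opA [(0, 1)] IdA.wE) (IdA.wC.getD 0 []) (by decide +kernel)).trans
      (G.val_congr (k := 4) rfl _ _ (by decide +kernel))).trans
      (G.opE_val opA mA (imgV [(0, 1)] (IdA.wC.getD 1 [])) IdA.wEC (by decide +kernel)).symm

theorem idemB (hc : ∀ x : W, 5 • x = 0) (w : W) :
    opE ρ opB (opE ρ opB w) = opE ρ opB w ∧ act ρ cB (opE ρ opB w) = opE ρ opB (act ρ cB w) := by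
  obtain ⟨mA, mB, mcA, mcB⟩ := mem_ops
  obtain ⟨-, -, -, h0, -⟩ := tables (T := IdB.tab) rfl rfl rfl rfl idB_ok
  have G : Good IdB.tab 5 ρ w := good_regular IdB.tab IdB.elts IdB.hsTab rfl rfl rfl rfl idB_ok ρ hc w
  have e : val IdB.tab ρ w [(0, 1)] = w := G.val_unit h0
  have e1 : opE ρ opB w = val IdB.tab ρ w (opV opB [(0, 1)] IdB.wE) :=
    (congrArg (opE ρ opB) e.symm).trans (G.opE_val opB mB [(0, 1)] IdB.wE (by decide +kernel))
  have e2 : act ρ cB w = val IdB.tab ρ w (imgV [(0, 1)] (IdB.wC.getD 1 [])) :=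
    (congrArg (act ρ cB) e.symm).trans (G.act_val mcB _ _ (by decide +kernel))
  refine ⟨?_, ?_⟩
  · rw [e1]
    exact (G.opE_val opB mB (opV opB [(0, 1)] IdB.wE) IdB.wEE (by decide +kernel)).trans
      (G.val_congr (k := 4) rfl _ _ (by decide +kernel))
  · rw [e1, e2]
    exact ((G.act_val mcB (opV opB [(0, 1)] IdB.wE) (IdB.wC.getD 0 []) (by decide +kernel)).trans
      (G.val_congr (k := 4) rfl _ _ (by decide +kernel))).trans
      (G.opE_val opB mB (imgV [(0, 1)] (IdB.wC.getD 1 [])) IdB.wEC (by decide +kernel)).symm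

theorem seedsKill_tri (h : NoFix ρ) (E : Tab) (hE : ∀ i, i < E.N → Mem 10 (E.rep i)) (ix extra : List (ℕ × ℕ))
    (hx : ∀ s ∈ extra, ∀ x : W, act ρ s.1 x = x → act ρ s.2 x = x → x = 0)
    {tri : Bool} (hok : okSeeds E ix tri extra = true) :
    SeedsKill ρ (ix.map fun s => (E.rep s.1, E.rep s.2)) := by
  intro k hk
  rw [List.getD_eq_getElem _ _ hk]
  obtain ⟨s, hs, he⟩ := List.mem_map.1 (List.getElem_mem hk)
  rw [← he]
  have h1 := List.all_eq_true.1 hok s hs
  simp only [Bool.and_eq_true, decide_eq_true_eq, Bool.or_eq_true, List.contains_iff_mem] at h1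
  obtain ⟨⟨h2, h3⟩, h4⟩ := h1
  refine ⟨hE _ h2, hE _ h3, ?_⟩
  rcases h4 with ⟨-, h4⟩ | h4
  · exact h.kill (by norm_num) (hE _ h2) (hE _ h3) h4
  · exact hx _ h4

/-- Commuting checks. -/
def okComm (T : Tab) (x : ℕ) : Bool :=
  (List.range T.N).all fun i => mulC 10 (T.rep i) x == mulC 10 x (T.rep i)

theorem act_fix_comm {T : Tab} (hT : ∀ i, i < T.N → Mem 10 (T.rep i)) {x : ℕ} (hx : Mem 10 x)
    (h : okComm T x = true) {w : W} (hw : act ρ x w = w) (i : ℕ) (hi : i < T.N) :
    act ρ x (act ρ (T.rep i) w) = act ρ (T.rep i) w := by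
  have h1 := List.all_eq_true.1 h i (List.mem_range.2 hi)
  rw [← act_mulC (by norm_num) ρ hx (hT i hi), ← (beq_iff_eq.1 h1), act_mulC (by norm_num) ρ (hT i hi) hx, hw]

variable [Finite W]

theorem local_zero (hc : ∀ x : W, 5 • x = 0) (h : NoFix ρ) (x : W) :
    opE ρ opA (opE ρ opB x) = 0 ∧ x - opE ρ opA x - opE ρ opB x + opE ρ opA (opE ρ opB x) = 0 := by
  obtain ⟨mA, mB, mcA, mcB⟩ := mem_ops
  obtain ⟨hR, hE, hP, h0, hhs, hh⟩ := tables (T := Local.tab) rfl rfl rfl rfl local_ok
  have hhs' : Local.gensH = [cA, cB] := by decide +kernel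
  set eA : W →+ W := opE ρ opA with heA
  set eB : W →+ W := opE ρ opB with heB
  have cAB : ∀ y, eA (eB y) = eB (eA y) := opE_opE_comm (by norm_num) ρ _ _ mA mB (by decide +kernel)
  have cAdB : ∀ y, act ρ cB (eA y) = eA (act ρ cB y) :=
    opE_comm (by norm_num) ρ mcB _ mA (by decide +kernel)
  have cBcA : ∀ y, act ρ cA (eB y) = eB (act ρ cA y) :=
    opE_comm (by norm_num) ρ mcA _ mB (by decide +kernel)
  have iA : ∀ y, eA (eA y) = eA y := fun y => (idemA hc y).1
  have iB : ∀ y, eB (eB y) = eB y := fun y => (idemB hc y).1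
  have cAA : ∀ y, act ρ cA (eA y) = eA (act ρ cA y) := fun y => (idemA hc y).2
  have cBB : ∀ y, act ρ cB (eB y) = eB (act ρ cB y) := fun y => (idemB hc y).2
  set g : W →+ W := AddMonoidHom.comp eA eB with hg
  set f : W →+ W := AddMonoidHom.id W - eA - eB + g with hf
  have fdef : ∀ y, f y = y - eA y - eB y + eA (eB y) := fun y => rfl
  have gdef : ∀ y, g y = eA (eB y) := fun y => rfl
  have hginv : ∀ c ∈ Local.gensH, ∀ y, act ρ c (g y) = g (act ρ c y) ∧ act ρ c (f y) = f (act ρ c y) := by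
    intro c hcm y
    rw [hhs'] at hcm
    rcases List.mem_cons.1 hcm with rfl | hcm
    · have h1 : act ρ cA (g y) = g (act ρ cA y) := by rw [gdef, gdef, cAA, cBcA]
      refine ⟨h1, ?_⟩
      rw [gdef, gdef] at h1
      rw [fdef, fdef, map_add, map_sub, map_sub, cAA, cBcA, h1]
    · obtain rfl := List.mem_singleton.1 hcm
      have h1 : act ρ cB (g y) = g (act ρ cB y) := by rw [gdef, gdef, cAdB, cBB]
      refine ⟨h1, ?_⟩
      rw [gdef, gdef] at h1
      rw [fdef, fdef, map_add, map_sub, map_sub, cAdB, cBB, h1]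
  have cert : ∀ z : W, (∀ k, k < Local.hsTab.N → act ρ (Local.hsTab.rep k) z = z) → g z = 0 ∧ f z = 0 := by
    intro z hz
    have G : Good Local.tab 5 ρ z := Good.mk' Local.tab 5 ρ z (by decide) hR Local.hsTab
      (mem_of_tab rfl (by decide) hP hh) hhs hz hc
    have hs : SeedsKill ρ Local.seeds := seedsKill_tri h Local.elts hE Local.seedIx [] (by simp)
      (tri := true) (by decide +kernel)
    have hb0 := G.val_fixd_all (elts := Local.elts) (bases := []) (by norm_num) hs hE (by simp) Local.orbs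
      (by decide +kernel)
    have hb1 := G.val_fixd_all (elts := Local.elts) (by norm_num) hs hE hb0 Local.fixds (by decide +kernel)
    have hgc := G.val_comb hE hb0 Local.gT (by decide +kernel)
    have hfc := G.val_comb hE hb1 Local.fT (by decide +kernel)
    have e : val Local.tab ρ z [(0, 1)] = z := G.val_unit h0
    have eAz : eA z = val Local.tab ρ z (opV opA [(0, 1)] Local.wEA) :=
      (congrArg eA e.symm).trans (G.opE_val opA mA _ _ (by decide +kernel))
    have eBz : eB z = val Local.tab ρ z (opV opB [(0, 1)] Local.wEB) :=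
      (congrArg eB e.symm).trans (G.opE_val opB mB _ _ (by decide +kernel))
    have egz : eA (eB z) = val Local.tab ρ z (opV opA (opV opB [(0, 1)] Local.wEB) Local.wEAB) :=
      (congrArg eA eBz).trans (G.opE_val opA mA _ _ (by decide +kernel))
    have z1 := G.val_eq_zero (opV opA (opV opB [(0, 1)] Local.wEB) Local.wEAB ++
      combV ([] ++ Local.orbs.map Fixd.v) Local.gT) (by decide +kernel)
    have z2 := G.val_eq_zero ([(0, 1)] ++ scaleV 4 (opV opA [(0, 1)] Local.wEA ++ opV opB [(0, 1)] Local.wEB) ++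
      opV opA (opV opB [(0, 1)] Local.wEB) Local.wEAB ++
      combV (([] ++ Local.orbs.map Fixd.v) ++ Local.fixds.map Fixd.v) Local.fT) (by decide +kernel)
    refine ⟨?_, ?_⟩
    · rw [gdef, egz]
      refine Eq.trans ?_ z1
      exact ((val_append _ _).trans (by rw [hgc, add_zero])).symm
    · rw [fdef]
      refine Eq.trans ?_ z2
      refine Eq.trans ?_ (val_append _ _).symm
      refine Eq.trans ?_ (congrArg₂ (· + ·) (val_append _ _).symm hfc.symm)
      refine Eq.trans ?_ (add_zero _).symm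
      refine Eq.trans ?_ (congrArg₂ (· + ·) (val_append _ _).symm rfl)
      refine Eq.trans ?_ (congrArg₂ (· + ·) (congrArg₂ (· + ·) e.symm
        ((val_scale _ _).trans ((congrArg (4 • ·) ((val_append _ _).trans
        (congrArg₂ (· + ·) eAz.symm eBz.symm))).trans (neg_of_char hc _))).symm) egz)
      abel
  have hl : okPList 10 (5 ^ 1) Local.gensH Local.tab.hs = true := by decide +kernel
  have kill : ∀ F : W →+ W, (∀ y, F (F y) = F y) → (∀ c ∈ Local.gensH, ∀ y, act ρ c (F y) = F (act ρ c y)) →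
      (∀ z : W, (∀ k, k < Local.hsTab.N → act ρ (Local.hsTab.rep k) z = z) → F z = 0) → ∀ y, F y = 0 := by
    intro F hFF hFc hFz y
    by_contra hy
    haveI : Fact (Nat.Prime 5) := ⟨by norm_num⟩
    obtain ⟨z, hz, hz0, hzf⟩ := exists_fixed_list (ρ := ρ) hc (by norm_num) hP hl (T := Local.hsTab) rfl hh
      F.range (fun hb => hy ((AddSubgroup.mem_bot).1 (hb ▸ AddMonoidHom.mem_range.2 ⟨y, rfl⟩)))
      (fun c hcm z hz => by
        obtain ⟨u, rfl⟩ := hz
        exact ⟨_, (hFc c hcm u).symm⟩)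
    obtain ⟨u, rfl⟩ := hz
    exact hz0 ((hFF u).symm.trans (hFz _ hzf))
  have gid : ∀ y, g (g y) = g y := fun y => by
    rw [gdef, gdef, ← cAB, iB, iA]
  have fid : ∀ y, f (f y) = f y := fun y => by
    simp only [fdef, map_add, map_sub, ← cAB, iA, iB]
    abel
  exact ⟨kill g gid (fun c hc' y => (hginv c hc' y).1) (fun z hz => (cert z hz).1) x,
    kill f fid (fun c hc' y => (hginv c hc' y).2) (fun z hz => (cert z hz).2) x⟩

theorem a4_zero (hc : ∀ x : W, 5 • x = 0) (h : NoFix ρ) (z : W) (ha : act ρ a4a z = z) (hb : act ρ a4b z = z) :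
    z = 0 := by
  obtain ⟨mA, mB, -, -⟩ := mem_ops
  obtain ⟨hR1, -, hP1, h01, hhs1, hh1⟩ := tables (T := FixA4.tab) rfl rfl rfl rfl fixA4_ok
  have hg1 : FixA4.gensH = [a4a, a4b] := by decide +kernel
  -- the Steinberg component on the five points containing the four-set kills fixed vectors
  have eB0 : ∀ x, act ρ a4a x = x → act ρ a4b x = x → opE ρ opB x = 0 := by
    intro x hxa hxb
    have hf := fixed_of_gens (by norm_num) ρ (H := FixA4.hsTab) rfl hP1 hh1 x (by
      rw [hg1]; intro c hc'; rcases List.mem_cons.1 hc' with rfl | hc'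
      · exact hxa
      · obtain rfl := List.mem_singleton.1 hc'; exact hxb)
    have G : Good FixA4.tab 5 ρ x := Good.mk' FixA4.tab 5 ρ x (by decide) hR1 FixA4.hsTab
      (fun i hi => (hf i hi).1) hhs1 (fun i hi => (hf i hi).2) hc
    refine ((congrArg (opE ρ opB) (G.val_unit h01).symm).trans
      (G.opE_val opB mB _ FixA4.wEB (by decide +kernel))).trans (G.val_eq_zero _ (by decide +kernel))
  obtain ⟨hR, hE, -, h0, -⟩ := tables (T := SixOne.tab) rfl rfl rfl rfl sixOne_ok
  have G : Good SixOne.tab 5 ρ z := good_regular SixOne.tab SixOne.elts SixOne.hsTab rfl rfl rfl rfl sixOne_ok ρ hc z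
  have hs : SeedsKill ρ SixOne.seeds := seedsKill_tri h SixOne.elts hE SixOne.seedIx [] (by simp)
    (tri := true) (by decide +kernel)
  have hb0 := G.val_fixd_all (elts := SixOne.elts) (bases := []) (by norm_num) hs hE (by simp) SixOne.orbs
    (by decide +kernel)
  have mem4 : Mem 10 a4a ∧ Mem 10 a4b :=
    ⟨hP1 _ (by rw [hg1]; simp), hP1 _ (by rw [hg1]; simp)⟩
  have hca : okComm SixOne.tab a4a = true := by decide +kernel
  have hcb : okComm SixOne.tab a4b = true := by decide +kernel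
  have hok : (SixOne.rels.all fun r => decide (r.1 < SixOne.tab.N) && SixOne.tab.okOp opA [(r.1, 1)] r.2) = true := by
    decide +kernel
  have hrel : ∀ v ∈ SixOne.rels.map (fun r => opV opA [(r.1, 1)] r.2 ++ [(r.1, 4)]),
      val SixOne.tab ρ z v = 0 := by
    intro v hv
    obtain ⟨r, hr, rfl⟩ := List.mem_map.1 hv
    have h1 := List.all_eq_true.1 hok r hr
    simp only [Bool.and_eq_true, decide_eq_true_eq] at h1
    have hfa := act_fix_comm hR mem4.1 hca ha r.1 h1.1
    have hfb := act_fix_comm hR mem4.2 hcb hb r.1 h1.1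
    set y := act ρ (SixOne.tab.rep r.1) z
    have he := (local_zero hc h y).2
    rw [eB0 y hfa hfb, map_zero, sub_zero, add_zero, sub_eq_zero] at he
    refine (val_append _ _).trans ?_
    refine (congrArg₂ (· + ·) ((G.opE_val opA mA _ r.2 h1.2).symm.trans
      (congrArg (opE ρ opA) (G.val_single r.1))) (val_cons (r.1, 4) [])).trans ?_
    show opE ρ opA y + (4 • y + 0) = 0
    rw [← he, add_zero, ← succ_nsmul']
    exact hc y
  have hall : ∀ v ∈ ([] ++ SixOne.orbs.map Fixd.v) ++
      SixOne.rels.map (fun r => opV opA [(r.1, 1)] r.2 ++ [(r.1, 4)]), val SixOne.tab ρ z v = 0 := by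
    intro v hv
    rcases List.mem_append.1 hv with hv | hv
    · exact hb0 v hv
    · exact hrel v hv
  exact G.eq_zero_of_sum (G.val_comb hE hall SixOne.tms (by decide +kernel)) h0 (by decide +kernel)

theorem moved_zero {a b a' b' : ℕ} (ha : Mem 10 a) (hb : Mem 10 b) (hm : Mem 10 mv)
    (hchk : (mulC 10 mv a' == mulC 10 a mv && mulC 10 mv b' == mulC 10 b mv &&
      mulC 10 mv mv == idC 10) = true)
    (ha' : Mem 10 a') (hb' : Mem 10 b')
    (hz : ∀ x : W, act ρ a x = x → act ρ b x = x → x = 0) (x : W) (hxa : act ρ a' x = x)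
    (hxb : act ρ b' x = x) : x = 0 := by
  simp only [Bool.and_eq_true, beq_iff_eq] at hchk
  obtain ⟨⟨e1, e2⟩, e3⟩ := hchk
  have h1 : act ρ mv x = 0 := hz _
    (by rw [← act_mulC (by norm_num) ρ ha hm, ← e1, act_mulC (by norm_num) ρ hm ha', hxa])
    (by rw [← act_mulC (by norm_num) ρ hb hm, ← e2, act_mulC (by norm_num) ρ hm hb', hxb])
  have h2 := act_mulC (by norm_num) ρ hm hm x
  rw [e3, h1, map_zero, ← codeA_one, act_codeA (by norm_num), map_one] at h2
  exact h2

theorem mem_mv : Mem 10 mv := by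
  have h := mem_quads (n := 10) [(0, 6, 1, 7), (2, 8, 3, 9)] (by decide +kernel)
  have e : mv = mulC 10 (quadCode ((0, 6, 1, 7) : Fin 10 × Fin 10 × Fin 10 × Fin 10))
      (quadCode ((2, 8, 3, 9) : Fin 10 × Fin 10 × Fin 10 × Fin 10)) := by decide +kernel
  rw [e]
  exact Mem.mul (by norm_num) (h _ (by simp)) (h _ (by simp))

theorem v4_zero (hc : ∀ x : W, 5 • x = 0) (h : NoFix ρ) (z : W) (ha : act ρ v4a z = z) (hb : act ρ v4b z = z) :
    z = 0 := by
  obtain ⟨mA, mB, -, -⟩ := mem_ops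
  obtain ⟨hR1, hE1, hP1, h01, hhs1, hh1⟩ := tables (T := FixV4.tab) rfl rfl rfl rfl fixV4_ok
  obtain ⟨-, -, hPA, -⟩ := tables (T := FixA4.tab) rfl rfl rfl rfl fixA4_ok
  have hg1 : FixV4.gensH = [v4a, v4b] := by decide +kernel
  have hgA : FixA4.gensH = [a4a, a4b] := by decide +kernel
  have mem4 : Mem 10 a4a ∧ Mem 10 a4b := ⟨hPA _ (by rw [hgA]; simp), hPA _ (by rw [hgA]; simp)⟩
  have eB1 : ∀ x, act ρ v4a x = x → act ρ v4b x = x → opE ρ opB x = x := by
    intro x hxa hxb
    have hf := fixed_of_gens (by norm_num) ρ (H := FixV4.hsTab) rfl hP1 hh1 x (by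
      rw [hg1]; intro c hc'; rcases List.mem_cons.1 hc' with rfl | hc'
      · exact hxa
      · obtain rfl := List.mem_singleton.1 hc'; exact hxb)
    have G : Good FixV4.tab 5 ρ x := Good.mk' FixV4.tab 5 ρ x (by decide) hR1 FixV4.hsTab
      (fun i hi => (hf i hi).1) hhs1 (fun i hi => (hf i hi).2) hc
    have hs : SeedsKill ρ FixV4.seeds := seedsKill_tri h FixV4.elts hE1 FixV4.seedIx [(a4a, a4b)]
      (by intro s hs y h1 h2; obtain rfl := List.mem_singleton.1 hs; exact a4_zero hc h y h1 h2)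
      (tri := false) (by decide +kernel)
    have hb0 := G.val_fixd_all (elts := FixV4.elts) (bases := []) (by norm_num) hs hE1 (by simp) FixV4.orbs
      (by decide +kernel)
    have hz := G.val_eq_zero (opV opB [(0, 1)] FixV4.wEB ++ [(0, 4)] ++
      combV ([] ++ FixV4.orbs.map Fixd.v) FixV4.tms) (by decide +kernel)
    have hcm := G.val_comb hE1 hb0 FixV4.tms (by decide +kernel)
    have e := G.val_unit h01
    have eq1 : opE ρ opB x = val FixV4.tab ρ x (opV opB [(0, 1)] FixV4.wEB) :=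
      (congrArg (opE ρ opB) e.symm).trans (G.opE_val opB mB _ _ (by decide +kernel))
    have e4 : val FixV4.tab ρ x [(0, 4)] = 4 • x :=
      ((val_scale 4 [(0, 1)]).trans (congrArg (4 • ·) e) :)
    have hz' : opE ρ opB x + 4 • x = 0 :=
      (((val_append _ _).trans ((congrArg₂ (· + ·) ((val_append _ _).trans
        (congrArg₂ (· + ·) eq1.symm e4)) hcm).trans (add_zero _))).symm.trans hz :)
    rw [neg_of_char hc, ← sub_eq_add_neg, sub_eq_zero] at hz'
    exact hz'
  obtain ⟨hR, hE, -, h0, -⟩ := tables (T := SixZero.tab) rfl rfl rfl rfl sixZero_ok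
  have G : Good SixZero.tab 5 ρ z :=
    good_regular SixZero.tab SixZero.elts SixZero.hsTab rfl rfl rfl rfl sixZero_ok ρ hc z
  have mv4 : Mem 10 v4a ∧ Mem 10 v4b := ⟨hP1 _ (by rw [hg1]; simp), hP1 _ (by rw [hg1]; simp)⟩
  set m1 := mulC 10 (mulC 10 mv a4a) mv
  set m2 := mulC 10 (mulC 10 mv a4b) mv
  have hm1 : Mem 10 m1 := (mem_mv.mul (by norm_num) mem4.1).mul (by norm_num) mem_mv
  have hm2 : Mem 10 m2 := (mem_mv.mul (by norm_num) mem4.2).mul (by norm_num) mem_mv
  have hs : SeedsKill ρ SixZero.seeds := seedsKill_tri h SixZero.elts hE SixZero.seedIx [(m1, m2)]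
    (by
      intro s hs y h1 h2; obtain rfl := List.mem_singleton.1 hs
      exact moved_zero mem4.1 mem4.2 mem_mv (by decide +kernel) hm1 hm2 (a4_zero hc h) y h1 h2)
    (tri := true) (by decide +kernel)
  have hb0 := G.val_fixd_all (elts := SixZero.elts) (bases := []) (by norm_num) hs hE (by simp) SixZero.orbs
    (by decide +kernel)
  have hca : okComm SixZero.tab v4a = true := by decide +kernel
  have hcb : okComm SixZero.tab v4b = true := by decide +kernel
  have hok : (SixZero.rels.all fun r => decide (r.1 < SixZero.tab.N) && SixZero.tab.okOp opA [(r.1, 1)] r.2) = true := by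
    decide +kernel
  have hrel : ∀ v ∈ SixZero.rels.map (fun r => opV opA [(r.1, 1)] r.2), val SixZero.tab ρ z v = 0 := by
    intro v hv
    obtain ⟨r, hr, rfl⟩ := List.mem_map.1 hv
    have h1 := List.all_eq_true.1 hok r hr
    simp only [Bool.and_eq_true, decide_eq_true_eq] at h1
    have hfa := act_fix_comm hR mv4.1 hca ha r.1 h1.1
    have hfb := act_fix_comm hR mv4.2 hcb hb r.1 h1.1
    have he := (local_zero hc h (act ρ (SixZero.tab.rep r.1) z)).1
    rw [eB1 _ hfa hfb] at he
    exact ((G.opE_val opA mA _ r.2 h1.2).symm.trans (congrArg (opE ρ opA) (G.val_single r.1))).trans he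
  have hall : ∀ v ∈ ([] ++ SixZero.orbs.map Fixd.v) ++ SixZero.rels.map (fun r => opV opA [(r.1, 1)] r.2),
      val SixZero.tab ρ z v = 0 := by
    intro v hv
    rcases List.mem_append.1 hv with hv | hv
    · exact hb0 v hv
    · exact hrel v hv
  exact G.eq_zero_of_sum (G.val_comb hE hall SixZero.tms (by decide +kernel)) h0 (by decide +kernel)

theorem false_of_noFix [Nontrivial W] (ρ : alternatingGroup (Fin 10) →* AddMonoid.End W)
    (hc : ∀ x : W, 5 • x = 0) (h : NoFix ρ) : False := by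
  obtain ⟨mA, mB, -, -⟩ := mem_ops
  obtain ⟨w, hw⟩ := exists_ne (0 : W)
  obtain ⟨-, -, hP1, -⟩ := tables (T := FixV4.tab) rfl rfl rfl rfl fixV4_ok
  have hg1 : FixV4.gensH = [v4a, v4b] := by decide +kernel
  have mv4 : Mem 10 v4a ∧ Mem 10 v4b := ⟨hP1 _ (by rw [hg1]; simp), hP1 _ (by rw [hg1]; simp)⟩
  set m1 := mulC 10 (mulC 10 mv v4a) mv
  set m2 := mulC 10 (mulC 10 mv v4b) mv
  have hm1 : Mem 10 m1 := (mem_mv.mul (by norm_num) mv4.1).mul (by norm_num) mem_mv
  have hm2 : Mem 10 m2 := (mem_mv.mul (by norm_num) mv4.2).mul (by norm_num) mem_mv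
  have hA : opE ρ opA w = 0 := by
    obtain ⟨hR, hE, -, h0, -⟩ := tables (T := ZeroA.tab) rfl rfl rfl rfl zeroA_ok
    have G : Good ZeroA.tab 5 ρ w := good_regular ZeroA.tab ZeroA.elts ZeroA.hsTab rfl rfl rfl rfl zeroA_ok ρ hc w
    have hs : SeedsKill ρ ZeroA.seeds := seedsKill_tri h ZeroA.elts hE ZeroA.seedIx [(m1, m2)]
      (by
        intro s hs y h1 h2; obtain rfl := List.mem_singleton.1 hs
        exact moved_zero mv4.1 mv4.2 mem_mv (by decide +kernel) hm1 hm2 (v4_zero hc h) y h1 h2)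
      (tri := false) (by decide +kernel)
    have hb0 := G.val_fixd_all (elts := ZeroA.elts) (bases := []) (by norm_num) hs hE (by simp) ZeroA.orbs
      (by decide +kernel)
    have hz := G.val_eq_zero (opV opA [(0, 1)] ZeroA.wE ++ combV ([] ++ ZeroA.orbs.map Fixd.v) ZeroA.tms)
      (by decide +kernel)
    have hcm := G.val_comb hE hb0 ZeroA.tms (by decide +kernel)
    refine ((congrArg (opE ρ opA) (G.val_unit h0).symm).trans (G.opE_val opA mA _ ZeroA.wE (by decide +kernel))).trans ?_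
    refine Eq.trans ?_ hz
    exact ((val_append _ _).trans (by rw [hcm, add_zero])).symm
  have hB : opE ρ opB w = 0 := by
    obtain ⟨hR, hE, -, h0, -⟩ := tables (T := ZeroB.tab) rfl rfl rfl rfl zeroB_ok
    have G : Good ZeroB.tab 5 ρ w := good_regular ZeroB.tab ZeroB.elts ZeroB.hsTab rfl rfl rfl rfl zeroB_ok ρ hc w
    have hs : SeedsKill ρ ZeroB.seeds := seedsKill_tri h ZeroB.elts hE ZeroB.seedIx [(v4a, v4b)]
      (by intro s hs y h1 h2; obtain rfl := List.mem_singleton.1 hs; exact v4_zero hc h y h1 h2)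
      (tri := false) (by decide +kernel)
    have hb0 := G.val_fixd_all (elts := ZeroB.elts) (bases := []) (by norm_num) hs hE (by simp) ZeroB.orbs
      (by decide +kernel)
    have hz := G.val_eq_zero (opV opB [(0, 1)] ZeroB.wE ++ combV ([] ++ ZeroB.orbs.map Fixd.v) ZeroB.tms)
      (by decide +kernel)
    have hcm := G.val_comb hE hb0 ZeroB.tms (by decide +kernel)
    refine ((congrArg (opE ρ opB) (G.val_unit h0).symm).trans (G.opE_val opB mB _ ZeroB.wE (by decide +kernel))).trans ?_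
    refine Eq.trans ?_ hz
    exact ((val_append _ _).trans (by rw [hcm, add_zero])).symm
  have := (local_zero hc h w).2
  rw [hA, hB, map_zero, sub_zero, sub_zero, add_zero] at this
  exact hw this

end Cfsg.Lib.AltSection.Five
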