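import Cfsg.Agent.AltSection.Ops

/-! The two block idempotents. -/

set_option maxHeartbeats 0
set_option maxRecDepth 100000

namespace Cfsg.Lib.AltSection.Five


def opA : List (ℕ × ℕ) := [(654820257825,2), (654820258050,2), (654820049475,3), (654820115475,3), (654820000275,2), (654820119600,3), (654820065840,2), (654820131600,2), (654820189200,2), (654820254000,2), (654820249650,3), (654820061700,2), (654820061250,3), (654820180500,2), (654819992340,3), (654819996225,2), (654820253715,2), (654820127040,2), (654820184640,2), (654820250115,2), (654820250400,2), (654820062240,2), (654820126740,2), (654820246065,2), (654819988020,3), (654820057920,3), (654819995940,3), (654820196865,3), (654820254465,3), (654820196640,3), (654820127745,3), (654820245795,3), (654820246290,2), (654819996690,2), (654820196370,3)]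

def opB : List (ℕ × ℕ) := [(654301213200,2), (654537142800,2), (435830403600,3), (505036419600,3), (384240464400,2), (509361795600,3), (452990349840,2), (521944707600,2), (582342685200,2), (650290410000,2), (645729104400,3), (448649245200,2), (448177386000,3), (573220074000,2), (375920013840,3), (379993731600,2), (649991565840,2), (517163201040,2), (577561178640,2), (646216692240,2), (646515536400,2), (449215476240,2), (516848628240,2), (641969959440,2), (371390165520,3), (444685627920,3), (379694887440,3), (590380020240,3), (650777997840,3), (590144090640,3), (517902447120,3), (641686843920,3), (642205889040,2), (380481319440,2), (589860975120,3)]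

def cA : ℕ := 654820000545

def cB : ℕ := 384523579920

def a4a : ℕ := 590144090640

def a4b : ℕ := 646515536400

def v4a : ℕ := 590144090640

def v4b : ℕ := 509361795600

def mv : ℕ := 215022344310

end Cfsg.Lib.AltSection.Five
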